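import Cfsg.Agent.Lib.L32Radical.Layer

/-!
An abelian `Q` with a non-trivial layer of squares.
-/

set_option autoImplicit false
set_option linter.unusedSectionVars false
set_option linter.style.haveILetI false

namespace Cfsg.Agent.L32Radical

open A5Radical (cm map_cm cm_eq_one Cfix mem_Cfix)

variable {G : Type*} [Group G]

theorem smul_va_add_ac : ∀ i : ZMod 2, i • va + ac ge (i • vc) = i • vc := by decide

theorem Coord.quotient {Φ : G →* GL32} {K U : Subgroup G} {p : G → Nat3} (hc : Coord Φ K U p) (N : Subgroup G)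
    [N.Normal] (hNU : N ≤ U) (Φ' : G ⧸ N →* GL32) (hΦ' : ∀ g, Φ' (QuotientGroup.mk' N g) = Φ g) :
    ∃ p', Coord Φ' (K.map (QuotientGroup.mk' N)) (U.map (QuotientGroup.mk' N)) p' ∧
      ∀ k ∈ K, p' (QuotientGroup.mk' N k) = p k := by
  classical
  set π := QuotientGroup.mk' N with hπ
  let p' : G ⧸ N → Nat3 := fun y => if h : y ∈ K.map π then p h.choose else 0
  have hp' : ∀ k ∈ K, p' (π k) = p k := fun k hk => by
    have hmem : π k ∈ K.map π := ⟨k, hk, rfl⟩
    simp only [p', dif_pos hmem]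
    obtain ⟨h1, h2⟩ := hmem.choose_spec
    have hw : hmem.choose⁻¹ * k ∈ U := hNU (QuotientGroup.eq.1 h2)
    have := hc.add _ h1 _ (hc.le hw)
    rw [mul_inv_cancel_left, (hc.zero _ (hc.le hw)).2 hw, add_zero] at this
    exact this.symm
  refine ⟨p', ⟨Subgroup.map_mono hc.le, Subgroup.Normal.map hc.norm _ (QuotientGroup.mk'_surjective N), ?_, ?_, ?_, ?_⟩,
    hp'⟩
  · rintro _ ⟨x, hx, rfl⟩ _ ⟨y, hy, rfl⟩
    rw [← map_mul, hp' _ (mul_mem hx hy), hp' x hx, hp' y hy]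
    exact hc.add x hx y hy
  · rintro _ ⟨x, hx, rfl⟩
    rw [hp' x hx, hc.zero x hx]
    refine ⟨fun h => ⟨x, h, rfl⟩, ?_⟩
    rintro ⟨u, hu, he⟩
    have := mul_mem hu (hNU (QuotientGroup.eq.1 he))
    rwa [mul_inv_cancel_left] at this
  · intro v
    obtain ⟨x, hx, hxv⟩ := hc.onto v
    exact ⟨π x, ⟨x, hx, rfl⟩, by rw [hp' x hx, hxv]⟩
  · intro y
    obtain ⟨g, rfl⟩ := QuotientGroup.mk'_surjective N y
    rintro _ ⟨x, hx, rfl⟩
    rw [← map_mul, ← map_inv, ← map_mul, hp' _ (hc.norm.conj_mem x hx g), hp' x hx, hΦ']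
    exact hc.equiv g x hx

variable [Finite G]

theorem card_Cfix_conj (N : Subgroup G) [N.Normal] (e g : G) :
    Nat.card (Cfix N (g * e * g⁻¹)) = Nat.card (Cfix N e) := by
  have hm : Cfix N (g * e * g⁻¹) = (Cfix N e).map (MulAut.conj g).toMonoidHom := by
    ext v
    constructor
    · intro hv
      obtain ⟨hv, hve⟩ := mem_Cfix.1 hv
      refine ⟨g⁻¹ * v * g, mem_Cfix.2 ⟨(inferInstance : N.Normal).conj_mem' v hv g, ?_⟩, by simp [mul_assoc]⟩
      calc e * (g⁻¹ * v * g) = g⁻¹ * (g * e * g⁻¹ * v) * g := by simp [mul_assoc]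
        _ = g⁻¹ * (v * (g * e * g⁻¹)) * g := by rw [hve]
        _ = _ := by simp [mul_assoc]
    · rintro ⟨w, hw, rfl⟩
      obtain ⟨hw, hwe⟩ := mem_Cfix.1 hw
      refine mem_Cfix.2 ⟨(inferInstance : N.Normal).conj_mem w hw g, ?_⟩
      show g * e * g⁻¹ * (g * w * g⁻¹) = g * w * g⁻¹ * (g * e * g⁻¹)
      calc g * e * g⁻¹ * (g * w * g⁻¹) = g * (e * w) * g⁻¹ := by simp [mul_assoc]
        _ = g * (w * e) * g⁻¹ := by rw [hwe]
        _ = _ := by simp [mul_assoc]
  rw [hm]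
  exact Subgroup.card_map_of_injective (MulAut.conj g).injective

theorem mul_card_le_inf (A B N : Subgroup G) (hA : A ≤ N) (hB : B ≤ N) :
    Nat.card A * Nat.card B ≤ Nat.card ↥(A ⊓ B) * Nat.card N := by
  classical
  let F : A × B → N := fun q => ⟨q.1.1 * q.2.1, mul_mem (hA q.1.2) (hB q.2.2)⟩
  let sec : ↥(Set.range F) → A × B := fun n => n.2.choose
  have hsec : ∀ n : ↥(Set.range F), F (sec n) = n.1 := fun n => n.2.choose_spec
  have h := Nat.card_le_card_of_injective (fun q : A × B =>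
    ((⟨(sec ⟨F q, q, rfl⟩).1.1⁻¹ * q.1.1, (mul_mem (inv_mem (sec ⟨F q, q, rfl⟩).1.2) q.1.2 : _ ∈ A), by
      have h1 : (sec ⟨F q, q, rfl⟩).1.1 * (sec ⟨F q, q, rfl⟩).2.1 = q.1.1 * q.2.1 :=
        congrArg Subtype.val (hsec ⟨F q, q, rfl⟩)
      rw [show (sec ⟨F q, q, rfl⟩).1.1⁻¹ * q.1.1 = (sec ⟨F q, q, rfl⟩).2.1 * q.2.1⁻¹ by
        rw [inv_mul_eq_iff_eq_mul, ← mul_assoc, eq_mul_inv_iff_mul_eq, h1]]
      exact (mul_mem (sec ⟨F q, q, rfl⟩).2.2 (inv_mem q.2.2) : _ ∈ B)⟩ : ↥(A ⊓ B)), F q)) ?_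
  · rwa [Nat.card_prod, Nat.card_prod] at h
  · rintro ⟨a, b⟩ ⟨a', b'⟩ e
    obtain ⟨e1, e2⟩ := Prod.ext_iff.1 e
    simp only at e1 e2
    have e1' := congrArg Subtype.val e1
    simp only [e2] at e1'
    have ha : a = a' := Subtype.ext (mul_left_cancel e1')
    subst ha
    exact Prod.ext rfl (Subtype.ext (mul_left_cancel (congrArg Subtype.val e2)))

theorem two_cosets (U Ω : Subgroup G) (hle : U ≤ Ω) (hcard : Nat.card Ω = 2 * Nat.card U) {x : G} (hx : x ∈ Ω)
    (hxU : x ∉ U) : ∀ y ∈ Ω, y ∈ U ∨ x⁻¹ * y ∈ U := by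
  intro y hy
  have hb := Function.Injective.bijective_of_nat_card_le
    (f := fun q : Bool × U => (⟨(if q.1 then x else 1) * q.2.1, mul_mem (by
      split_ifs; exacts [hx, one_mem Ω]) (hle q.2.2)⟩ : Ω)) (by
    rintro ⟨a, u⟩ ⟨b, w⟩ e
    have e' : (if a then x else 1) * u.1 = (if b then x else 1) * w.1 := congrArg Subtype.val e
    cases a <;> cases b
    · exact Prod.ext rfl (Subtype.ext (mul_left_cancel e'))
    · refine absurd ?_ hxU
      simp only [Bool.false_eq_true, if_false, if_true, one_mul] at e'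
      rw [eq_mul_inv_of_mul_eq e'.symm]
      exact mul_mem u.2 (inv_mem w.2)
    · refine absurd ?_ hxU
      simp only [Bool.false_eq_true, if_false, if_true, one_mul] at e'
      rw [eq_mul_inv_of_mul_eq e']
      exact mul_mem w.2 (inv_mem u.2)
    · exact Prod.ext rfl (Subtype.ext (mul_left_cancel e')))
    (by rw [Nat.card_prod, hcard, Nat.card_eq_fintype_card (α := Bool), Fintype.card_bool])
  obtain ⟨⟨a, u⟩, e⟩ := hb.2 ⟨y, hy⟩
  have e' : (if a then x else 1) * u.1 = y := congrArg Subtype.val e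
  cases a
  · left; rw [← e']; simp
  · right; rw [← e']; simp

theorem Layer.abelian_false {Q U : Subgroup G} {Φ : G →* GL32} {f : G} (L : Layer Q U Φ f) (hU : Nat.card U = 8)
    (hcomm : ∀ a ∈ Q, ∀ b ∈ Q, a * b = b * a) : False := by
  classical
  haveI := L.qn
  haveI := L.un
  obtain ⟨v, -, -, -, -, hcase⟩ := L.upper
  obtain ⟨-, -, -, -, hfree⟩ := L.lower hU
  let Ω : Subgroup G :=
    { carrier := {q | q ∈ Q ∧ q * q = 1}
      one_mem' := ⟨one_mem Q, one_mul 1⟩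
      mul_mem' := fun {a b} ha hb => ⟨mul_mem ha.1 hb.1, by
        rw [swap_mid (hcomm b hb.1 a ha.1), ha.2, hb.2, one_mul]⟩
      inv_mem' := fun {a} ha => ⟨inv_mem ha.1, by rw [← mul_inv_rev, ha.2, inv_one]⟩ }
  have hΩQ : Ω ≤ Q := fun x hx => hx.1
  have hUΩ : ∀ u ∈ U, u ∈ Ω := fun u hu => ⟨L.le hu, L.exp u hu⟩
  haveI hΩn : Ω.Normal := ⟨fun x hx g => ⟨L.qn.conj_mem x hx.1 g, by
    rw [show g * x * g⁻¹ * (g * x * g⁻¹) = g * (x * x) * g⁻¹ by simp [mul_assoc], hx.2]; simp⟩⟩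
  let s : Q →* U := MonoidHom.mk' (fun q => ⟨q.1 * q.1, L.sq q q.2⟩) fun a b => Subtype.ext (by
    show a.1 * b.1 * (a.1 * b.1) = a.1 * a.1 * (b.1 * b.1)
    exact swap_mid (hcomm b b.2 a a.2))
  have hs : Function.Surjective s := by
    rintro ⟨u, hu⟩
    obtain ⟨_, ⟨w, rfl⟩, hq⟩ := L.gen (s.range.map U.subtype) (fun q hq => ⟨s ⟨q, hq⟩, ⟨_, rfl⟩, rfl⟩) hu
    exact ⟨w, Subtype.ext hq⟩
  have hQ8 : Nat.card Q = 8 * Nat.card Ω := by
    have hi := s.ker.card_mul_index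
    have hk : s.ker = Ω.subgroupOf Q := by
      ext q
      rw [MonoidHom.mem_ker, Subgroup.mem_subgroupOf]
      exact ⟨fun e => ⟨q.2, congrArg Subtype.val e⟩, fun e => Subtype.ext e.2⟩
    rw [Subgroup.index_ker, MonoidHom.range_eq_top.2 hs, Subgroup.card_top, hk,
      Nat.card_congr (Subgroup.subgroupOfEquivOfLe hΩQ).toEquiv, hU] at hi
    rw [← hi, mul_comm]
  have hQU := card_eq_map_mul U Q L.le
  rw [hU, hQ8] at hQU
  have hmap8 : Nat.card (Q.map (QuotientGroup.mk' Ω)) = 8 := by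
    have h1 := card_eq_map_mul Ω Q hΩQ
    rw [hQ8] at h1
    exact (Nat.eq_of_mul_eq_mul_right Nat.card_pos h1).symm
  have hne : ∃ k ∈ Q, cm f k ∉ Ω := by
    by_contra hcon
    push Not at hcon
    obtain ⟨u, hu, hu'⟩ := L.low
    obtain ⟨q, hq⟩ := hs ⟨u, hu⟩
    apply hu'
    have h1 := (hcon q q.2).2
    have h2 : cm f q = (f⁻¹ * q.1 * f)⁻¹ * q.1 := by simp [cm, mul_assoc]
    have hqf : f⁻¹ * q.1 * f ∈ Q := L.qn.conj_mem' q q.2 f
    rw [h2, swap_mid (hcomm q q.2 _ (inv_mem hqf)), ← mul_inv_rev, inv_mul_eq_one] at h1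
    have h3 : f⁻¹ * u * f = u := by
      have hqu : q.1 * q.1 = u := congrArg Subtype.val hq
      rw [← hqu]
      calc f⁻¹ * (q.1 * q.1) * f = f⁻¹ * q.1 * f * (f⁻¹ * q.1 * f) := by simp [mul_assoc]
        _ = _ := h1
    rw [mul_assoc, inv_mul_eq_iff_eq_mul] at h3
    exact h3.symm
  obtain ⟨Φ', p, hctx, hc⟩ := L.ctx.exists_coord L.f7 L.fQ Q Ω hΩQ
    (fun q hq => hUΩ _ (L.sq q hq)) (fun k hk q hq => hUΩ _ (L.cm_mem hk hq)) hmap8 hne
  -- squares
  choose sec hsecQ hsecp using hc.onto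
  let σ : Nat3 → G := fun w => sec w * sec w
  have hσU : ∀ w, σ w ∈ U := fun w => L.sq _ (hsecQ w)
  have hσp : ∀ q ∈ Q, q * q = σ (p q) := fun q hq => by
    have hw := hc.quot (hsecQ (p q)) hq (hsecp _)
    conv_lhs => rw [show q = sec (p q) * ((sec (p q))⁻¹ * q) by rw [mul_inv_cancel_left]]
    rw [swap_mid (hcomm _ (hΩQ hw) _ (hsecQ _)), hw.2, mul_one]
  have hσadd : ∀ a b, σ (a + b) = σ a * σ b := fun a b => by
    have h1 := hσp _ (mul_mem (hsecQ a) (hsecQ b))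
    rw [hc.add _ (hsecQ a) _ (hsecQ b), hsecp, hsecp, swap_mid (hcomm _ (hsecQ b) _ (hsecQ a))] at h1
    exact h1.symm
  have hσon : ∀ u ∈ U, ∃ w, u = σ w := fun u hu => by
    obtain ⟨q, hq⟩ := hs ⟨u, hu⟩
    exact ⟨p q, by rw [← hσp q q.2]; exact (congrArg Subtype.val hq).symm⟩
  have hσcj : ∀ g w, g * σ w * g⁻¹ = σ (ac (Φ' g) w) := fun g w => by
    rw [show g * σ w * g⁻¹ = g * sec w * g⁻¹ * (g * sec w * g⁻¹) by simp [σ, mul_assoc],
      hσp _ (L.qn.conj_mem _ (hsecQ w) g), hc.equiv g _ (hsecQ w), hsecp]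
  have hσinj : Function.Injective σ := by
    have hb : Function.Bijective (fun w => (⟨σ w, hσU w⟩ : U)) :=
      (Nat.bijective_iff_surjective_and_card _).2 ⟨fun ⟨u, hu⟩ => (hσon u hu).imp fun w hw => Subtype.ext hw.symm,
        by rw [hU, Nat.card_eq_fintype_card]; rfl⟩
    exact fun a b e => hb.1 (Subtype.ext e)
  rcases hcase with ⟨h8, -⟩ | ⟨h16, -⟩
  · -- `Q` is homocyclic
    rw [h8] at hQU
    have hΩU : Ω = U := (Subgroup.eq_of_le_of_card_ge hUΩ (by omega)).symm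
    exact homocyclic_false Φ' hctx.surj Q Ω p hc hctx.ker hcomm
      (fun x hx => ⟨fun h => h.2, fun h => ⟨hx, h⟩⟩)
      (fun x hx => by
        obtain ⟨q, hq⟩ := hs ⟨x, hΩU ▸ hx⟩
        exact ⟨q, q.2, congrArg Subtype.val hq⟩)
      L.ctx.rank
  rw [h16] at hQU
  have hΩ16 : Nat.card Ω = 16 := by omega
  have h2U : Nat.card Ω = 2 * Nat.card U := by omega
  obtain ⟨u', hu'⟩ := hctx.surj gu
  set e := u' * u' with hed
  obtain ⟨hgu2, hge2, -, -⟩ := gu_facts
  have he : Φ' e = ge := by rw [hed, map_mul, hu', hgu2]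
  have hQe : ∀ g, Φ' g = 1 → ∀ q ∈ Q, g * q * g⁻¹ = q := fun g hg q hq => by
    rw [hcomm g (hctx.mem.2 hg) q hq, mul_inv_cancel_right]
  by_cases hfixed : ∃ y ∈ Ω, y ∉ U ∧ e * y = y * e
  · -- a central involution outside `U`
    obtain ⟨y, hy, hyU, hye⟩ := hfixed
    have hC8 : 8 ≤ Nat.card (Cfix Ω e) := by
      have hmem : ∀ w : {w : Nat3 // w 2 = 0}, σ w.1 ∈ Cfix Ω e := fun w => mem_Cfix.2 ⟨hUΩ _ (hσU _), by
        refine mul_inv_eq_iff_eq_mul.1 ?_
        rw [hσcj, he, ac_ge, w.2, zero_smul, add_zero]⟩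
      have h1 := Nat.card_le_card_of_injective (fun q : Bool × {w : Nat3 // w 2 = 0} =>
        (⟨(if q.1 then y else 1) * σ q.2.1, mul_mem (by
          split_ifs
          exacts [mem_Cfix.2 ⟨hy, hye⟩, one_mem _]) (hmem q.2)⟩ : Cfix Ω e)) ?_
      · rw [Nat.card_prod, Nat.card_eq_fintype_card, Fintype.card_bool, Nat.card_eq_fintype_card] at h1
        simpa using (show 2 * Fintype.card {w : Nat3 // w 2 = 0} = 8 by decide) ▸ h1
      · rintro ⟨a, w⟩ ⟨b, w'⟩ h
        have h' : (if a then y else 1) * σ w.1 = (if b then y else 1) * σ w'.1 := congrArg Subtype.val h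
        cases a <;> cases b
        · exact Prod.ext rfl (Subtype.ext (hσinj (mul_left_cancel h')))
        · refine absurd ?_ hyU
          simp only [Bool.false_eq_true, if_false, if_true, one_mul] at h'
          rw [eq_mul_inv_of_mul_eq h'.symm]
          exact mul_mem (hσU _) (inv_mem (hσU _))
        · refine absurd ?_ hyU
          simp only [Bool.false_eq_true, if_false, if_true, one_mul] at h'
          rw [eq_mul_inv_of_mul_eq h']
          exact mul_mem (hσU _) (inv_mem (hσU _))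
        · exact Prod.ext rfl (Subtype.ext (hσinj (mul_left_cancel h')))
    obtain ⟨P, hP⟩ := hctx.surj gp
    set A1 := Cfix Ω e
    set A2 := Cfix Ω (P * e * P⁻¹) with hA2
    set A3 := Cfix Ω (P⁻¹ * e * P) with hA3
    have h2 : Nat.card A2 = Nat.card A1 := card_Cfix_conj Ω e P
    have h3 : Nat.card A3 = Nat.card A1 := by
      have := card_Cfix_conj Ω e P⁻¹
      rwa [inv_inv] at this
    have h12 := mul_card_le_inf A1 A2 Ω inf_le_left inf_le_left
    have h123 := mul_card_le_inf (A1 ⊓ A2) A3 Ω (inf_le_left.trans inf_le_left) inf_le_left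
    have h12' : 4 ≤ Nat.card ↥(A1 ⊓ A2) := by
      rw [h2, hΩ16] at h12
      have := Nat.mul_le_mul hC8 hC8
      omega
    have h123' : 2 ≤ Nat.card ↥(A1 ⊓ A2 ⊓ A3) := by
      rw [h3, hΩ16] at h123
      have := Nat.mul_le_mul h12' hC8
      omega
    obtain ⟨⟨u0, hu0⟩, hu01⟩ := Subgroup.ne_bot_iff_exists_ne_one.1 (show A1 ⊓ A2 ⊓ A3 ≠ ⊥ from fun e => by
      rw [e, Subgroup.card_bot] at h123'
      omega)
    have hu01' : u0 ≠ 1 := fun e => hu01 (Subtype.ext (by simpa using e))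
    have hu0Ω : u0 ∈ Ω := hu0.2.1
    have htop := hctx.top_of_three (Subgroup.centralizer {u0})
      (fun q hq => Subgroup.mem_centralizer_singleton_iff.2 (hcomm q hq u0 hu0Ω.1)) (by
      intro x hx
      simp only [List.mem_cons, List.not_mem_nil, or_false] at hx
      rcases hx with rfl | rfl | rfl
      · exact ⟨e, Subgroup.mem_centralizer_singleton_iff.2 (mem_Cfix.1 hu0.1.1).2, he⟩
      · exact ⟨_, Subgroup.mem_centralizer_singleton_iff.2 (mem_Cfix.1 hu0.1.2).2, by simp [he, hP]⟩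
      · exact ⟨_, Subgroup.mem_centralizer_singleton_iff.2 (mem_Cfix.1 hu0.2).2, by simp [he, hP]⟩)
    have hcent : ∀ g : G, g * u0 = u0 * g := fun g =>
      Subgroup.mem_centralizer_singleton_iff.1 (htop ▸ Subgroup.mem_top g)
    have hu0U : u0 ∉ U := fun h => hu01' (hfree u0 h (hcent f))
    set N := Subgroup.zpowers u0 with hN
    have hNmem : ∀ x ∈ N, x = 1 ∨ x = u0 := fun x hx => by
      obtain ⟨i, rfl⟩ := Subgroup.mem_zpowers_iff.1 hx
      have h2' : u0 ^ (2 : ℤ) = 1 := by rw [zpow_two]; exact hu0Ω.2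
      rcases Int.even_or_odd i with ⟨j, rfl⟩ | ⟨j, rfl⟩
      · left; rw [← two_mul, zpow_mul, h2', one_zpow]
      · right; rw [zpow_add, zpow_mul, h2', one_zpow, one_mul, zpow_one]
    haveI : N.Normal := ⟨fun x hx g => by
      rcases hNmem x hx with rfl | rfl
      · simp
      · rw [hcent g, mul_inv_cancel_right]; exact hx⟩
    have hNΩ : N ≤ Ω := Subgroup.zpowers_le.2 hu0Ω
    set π := QuotientGroup.mk' N
    have hctx' := hctx.quotient N (hNΩ.trans hΩQ)
    obtain ⟨p', hc', -⟩ := hc.quotient N hNΩ _ (fun g => QuotientGroup.lift_mk' N _ g)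
    have hcoset := two_cosets U Ω hUΩ h2U hu0Ω hu0U
    refine homocyclic_false _ hctx'.surj _ _ p' hc' hctx'.ker ?_ ?_ ?_ hctx'.rank
    · rintro _ ⟨a, ha, rfl⟩ _ ⟨b, hb, rfl⟩
      rw [← map_mul, ← map_mul, hcomm a ha b hb]
    · rintro _ ⟨k, hk, rfl⟩
      constructor
      · rintro ⟨o, ho, hoe⟩
        rw [← hoe, ← map_mul, ho.2, map_one]
      · intro h1
        rw [← map_mul] at h1
        rcases hNmem _ ((QuotientGroup.eq_one_iff _).1 h1) with h | h
        · exact ⟨k, ⟨hk, h⟩, rfl⟩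
        · exact absurd (h ▸ L.sq k hk) hu0U
    · rintro _ ⟨o, ho, rfl⟩
      rcases hcoset o ho with h | h
      · obtain ⟨q, hq⟩ := hs ⟨o, h⟩
        exact ⟨π q, ⟨q, q.2, rfl⟩, by rw [← map_mul]; exact congrArg π (congrArg Subtype.val hq)⟩
      · obtain ⟨q, hq⟩ := hs ⟨_, h⟩
        refine ⟨π q, ⟨q, q.2, rfl⟩, ?_⟩
        have hq' : q.1 * q.1 = u0⁻¹ * o := congrArg Subtype.val hq
        rw [← map_mul, hq', map_mul, show π u0⁻¹ = 1 from
          (QuotientGroup.eq_one_iff _).2 (inv_mem (Subgroup.mem_zpowers u0)), one_mul]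
  -- no involution outside `U` is fixed
  push Not at hfixed
  obtain ⟨x, hxΩ, hxU⟩ : ∃ x ∈ Ω, x ∉ U := by
    by_contra hcon
    push Not at hcon
    have := Subgroup.card_le_of_le (show Ω ≤ U from hcon)
    omega
  have hcoset := two_cosets U Ω hUΩ h2U hxΩ hxU
  obtain ⟨l, hl⟩ : ∃ l, e * x * e⁻¹ = x * σ l := by
    rcases hcoset _ (hΩn.conj_mem x hxΩ e) with h | h
    · exact absurd (by simpa [mul_assoc] using (inferInstance : U.Normal).conj_mem _ h e⁻¹) hxU
    · obtain ⟨l, hl⟩ := hσon _ h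
      exact ⟨l, by rw [← hl, mul_inv_cancel_left]⟩
  have hl' : ∀ i : ZMod 2, l ≠ i • va := fun i e' => by
    refine hfixed (x * σ (i • vc)) (mul_mem hxΩ (hUΩ _ (hσU _)))
      (fun h => hxU ((Subgroup.mul_mem_cancel_right U (hσU _)).1 h)) (mul_inv_eq_iff_eq_mul.1 ?_)
    rw [show e * (x * σ (i • vc)) * e⁻¹ = e * x * e⁻¹ * (e * σ (i • vc) * e⁻¹) by simp [mul_assoc], hl, hσcj, he,
      mul_assoc, ← hσadd, e']
    rw [smul_va_add_ac]
  obtain ⟨Y, hY, hYp⟩ := hc.onto vc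
  obtain ⟨e', he', hee'⟩ : ∃ e', Φ' e' = ge ∧ e' * e' ∈ Cfix U e := by
    have hfix' : ∀ e', Φ' e' = ge → e' * e' ∈ Ω → e' * e' ∈ Cfix U e := fun e' he' hm => by
      have hk : e'⁻¹ * e ∈ Q := by rw [hctx.mem, map_mul, map_inv, he', he, inv_mul_cancel]
      have hcomm' : e * (e' * e') = e' * e' * e := by
        have h1 := hcomm _ hk _ (hΩQ hm)
        rw [show e = e' * (e'⁻¹ * e) by rw [mul_inv_cancel_left], mul_assoc e', h1]
        simp [mul_assoc]
      exact mem_Cfix.2 ⟨by_contra fun hnU => hfixed _ hm hnU hcomm', hcomm'⟩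
    have hee : e * e ∈ Q := by rw [hctx.mem, map_mul, he, hge2]
    have hεfix : u' * (e * e) * u'⁻¹ = e * e := by simp [hed, mul_assoc]
    rcases fix_gu (p (e * e)) (by rw [← hu', ← hc.equiv u' _ hee, hεfix]) with h0 | h0
    · exact ⟨e, he, hfix' e he ((hc.zero _ hee).1 h0)⟩
    · have hY' : Φ' (e * Y) = ge := by rw [map_mul, he, hctx.mem.1 hY, mul_one]
      refine ⟨e * Y, hY', hfix' _ hY' ?_⟩
      have h1 := L.qn.conj_mem' Y hY e
      rw [show e * Y * (e * Y) = e * e * (e⁻¹ * Y * e * Y) by simp [mul_assoc]]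
      refine (hc.zero _ (mul_mem hee (mul_mem h1 hY))).1 ?_
      have h2 : p (e⁻¹ * Y * e) = ac ge vc := by
        have := hc.equiv e⁻¹ Y hY
        rw [inv_inv, map_inv, he, inv_eq_of_mul_eq_one_right hge2, hYp] at this
        exact this
      rw [hc.add _ hee _ (mul_mem h1 hY), hc.add _ h1 _ hY, h2, h0, hYp]
      decide
  let H0 : Subgroup G :=
    { carrier := {q | q ∈ Q ∧ p q 2 = 0}
      one_mem' := ⟨one_mem Q, by rw [hc.one]; rfl⟩
      mul_mem' := fun {a b} ha hb => ⟨mul_mem ha.1 hb.1, by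
        rw [hc.add a ha.1 b hb.1, Pi.add_apply, ha.2, hb.2, add_zero]⟩
      inv_mem' := fun {a} ha => ⟨inv_mem ha.1, by rw [hc.inv ha.1]; exact ha.2⟩ }
  set C := Cfix U e with hC
  -- `e` moves `H0` inside `C`
  have hmove : ∀ q ∈ H0, q⁻¹ * (e * q * e⁻¹) ∈ C := fun q hq => by
    have hm : q⁻¹ * (e * q * e⁻¹) ∈ Ω := hc.quot hq.1 (L.qn.conj_mem q hq.1 e) (by
      rw [hc.equiv e q hq.1, he, ac_ge, hq.2, zero_smul, add_zero])
    set m := q⁻¹ * (e * q * e⁻¹) with hmd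
    have heq : e * q * e⁻¹ = q * m := by rw [hmd, mul_inv_cancel_left]
    have h1 := hQe (e * e) (by rw [map_mul, he, hge2]) q hq.1
    rw [show e * e * q * (e * e)⁻¹ = e * (e * q * e⁻¹) * e⁻¹ by simp [mul_assoc], heq,
      show e * (q * m) * e⁻¹ = e * q * e⁻¹ * (e * m * e⁻¹) by simp [mul_assoc], heq, mul_assoc, mul_eq_left] at h1
    rcases hcoset m hm with hmU | hmU
    · obtain ⟨w, hw⟩ := hσon m hmU
      refine mem_Cfix.2 ⟨hmU, mul_inv_eq_iff_eq_mul.1 ?_⟩
      rw [eq_inv_of_mul_eq_one_right h1, inv_eq_of_mul_eq_one_right (L.exp m hmU)]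
    · exfalso
      obtain ⟨w, hw⟩ := hσon _ hmU
      rw [show m = x * σ w by rw [← hw, mul_inv_cancel_left],
        show e * (x * σ w) * e⁻¹ = e * x * e⁻¹ * (e * σ w * e⁻¹) by simp [mul_assoc], hl, hσcj, he,
        mul_assoc x (σ l), ← hσadd, swap_mid (hcomm _ (L.le (hσU w)) x hxΩ.1), hxΩ.2, one_mul, ← hσadd] at h1
      refine hl' (w 2) ?_
      have h0 : σ 0 = 1 := by rw [← hc.one, ← hσp 1 (one_mem Q), one_mul]
      have h2 := hσinj (h1.trans h0.symm)
      rw [ac_ge] at h2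
      funext i
      have := congrFun h2 i
      simp only [Pi.add_apply, Pi.zero_apply] at this
      linear_combination this - CharTwo.add_self_eq_zero (w i) - CharTwo.add_self_eq_zero ((w 2 • va) i)
  have hsqC : ∀ q ∈ H0, q * q ∈ C := fun q hq => by
    refine mem_Cfix.2 ⟨L.sq q hq.1, mul_inv_eq_iff_eq_mul.1 ?_⟩
    have hm := hmove q hq
    rw [show e * (q * q) * e⁻¹ = q * (q⁻¹ * (e * q * e⁻¹)) * (q * (q⁻¹ * (e * q * e⁻¹))) by simp [mul_assoc],
      swap_mid (hcomm _ (L.le hm.1) q hq.1), L.exp _ hm.1, mul_one]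
  have hactsame : ∀ q ∈ Q, e' * q * e'⁻¹ = e * q * e⁻¹ := fun q hq => by
    have hk : e⁻¹ * e' ∈ Q := by rw [hctx.mem, map_mul, map_inv, he', he, inv_mul_cancel]
    calc e' * q * e'⁻¹ = e * (e⁻¹ * e' * q * (e⁻¹ * e')⁻¹) * e⁻¹ := by simp [mul_assoc]
      _ = e * q * e⁻¹ := by rw [hcomm _ hk q hq, mul_inv_cancel_right]
  let S : Set G := {g | g ∈ H0 ∨ g = e'}
  have hCS : C ≤ Subgroup.closure S := fun c hc' => Subgroup.subset_closure (Or.inl ⟨L.le hc'.1, by
    rw [(hc.zero c (L.le hc'.1)).2 (hUΩ c hc'.1)]; rfl⟩)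
  have hqe : ∀ q ∈ H0, q * e' * (q * e') ∈ C := fun q hq => by
    rw [show q * e' * (q * e') = q * (e' * q * e'⁻¹) * (e' * e') by simp [mul_assoc], hactsame q hq.1,
      show q * (e * q * e⁻¹) = q * q * (q⁻¹ * (e * q * e⁻¹)) by simp [mul_assoc]]
    exact mul_mem (mul_mem (hsqC q hq) (hmove q hq)) hee'
  have hcenS : ∀ g ∈ S, ∀ c ∈ C, g * c = c * g := by
    intro g hg c hc'
    rcases hg with hg | hg
    · exact hcomm g hg.1 c (L.le hc'.1)
    · rw [hg]
      refine mul_inv_eq_iff_eq_mul.1 ?_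
      rw [hactsame c (L.le hc'.1)]
      exact mul_inv_eq_iff_eq_mul.2 (mem_Cfix.1 hc').2
  have hle := section_le L.ctx.rank C S hCS hcenS (fun g hg => by
      rcases hg with hg | hg
      · exact hsqC g hg
      · rw [hg]; exact hee') (fun a ha b hb => by
      rcases ha with ha | ha <;> rcases hb with hb | hb
      · exact hsqC _ (mul_mem ha hb)
      · rw [hb]; exact hqe a ha
      · have h1 := hcenS b (Or.inl hb) _ (inv_mem (hqe b hb))
        rw [ha, show e' * b * (e' * b) = b⁻¹ * (b * e' * (b * e')) * b by simp [mul_assoc]]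
        have h2 := hcenS b (Or.inl hb) _ (hqe b hb)
        rw [mul_assoc, ← h2, inv_mul_cancel_left]
        exact hqe b hb
      · rw [ha, hb]; exact mul_mem hee' hee')
  have hC4 : Nat.card C ≤ 4 := by
    have h1 := Nat.card_le_card_of_surjective (fun w : {w : Nat3 // w 2 = 0} =>
      (⟨σ w.1, mem_Cfix.2 ⟨hσU _, mul_inv_eq_iff_eq_mul.1 (by
        rw [hσcj, he, ac_ge, w.2, zero_smul, add_zero])⟩⟩ : C)) (fun ⟨c, hc'⟩ => by
      obtain ⟨w, rfl⟩ := hσon c hc'.1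
      have h2 := hσinj ((hσcj e w).symm.trans (mul_inv_eq_iff_eq_mul.2 (mem_Cfix.1 hc').2))
      rw [he, ac_ge, add_eq_left] at h2
      exact ⟨⟨w, by simpa [va] using congrFun h2 0⟩, rfl⟩)
    rw [Nat.card_eq_fintype_card (α := {w : Nat3 // w 2 = 0})] at h1
    exact h1.trans (by decide)
  have h64 : 64 ≤ Nat.card H0 := by
    have h1 := Nat.card_le_card_of_injective (fun q : {w : Nat3 // w 2 = 0} × Ω =>
      (⟨sec q.1.1 * q.2.1, mul_mem ⟨hsecQ _, by rw [hsecp]; exact q.1.2⟩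
        ⟨q.2.2.1, by rw [(hc.zero _ q.2.2.1).2 q.2.2]; rfl⟩⟩ : H0)) ?_
    · rw [Nat.card_prod, hΩ16, Nat.card_eq_fintype_card, show Fintype.card {w : Nat3 // w 2 = 0} = 4 by decide] at h1
      exact h1
    · rintro ⟨w, o⟩ ⟨w', o'⟩ h
      have h' : sec w.1 * o.1 = sec w'.1 * o'.1 := congrArg Subtype.val h
      have hww : w = w' := by
        refine Subtype.ext ?_
        have := congrArg p h'
        rwa [hc.add _ (hsecQ _) _ o.2.1, hc.add _ (hsecQ _) _ o'.2.1, hsecp, hsecp, (hc.zero _ o.2.1).2 o.2,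
          (hc.zero _ o'.2.1).2 o'.2, add_zero, add_zero] at this
      subst hww
      exact Prod.ext rfl (Subtype.ext (mul_left_cancel h'))
  have h128 : 128 ≤ Nat.card (Subgroup.closure S) := by
    have h1 := Nat.card_le_card_of_injective (fun q : Bool × H0 =>
      (⟨(if q.1 then e' else 1) * q.2.1, mul_mem (by
        split_ifs
        exacts [Subgroup.subset_closure (Or.inr rfl), one_mem _]) (Subgroup.subset_closure (Or.inl q.2.2))⟩ :
          Subgroup.closure S)) ?_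
    · rw [Nat.card_prod, Nat.card_eq_fintype_card, Fintype.card_bool] at h1
      omega
    · rintro ⟨a, q⟩ ⟨b, q'⟩ h
      have h' : (if a then e' else 1) * q.1 = (if b then e' else 1) * q'.1 := congrArg Subtype.val h
      have hne' : ge ≠ 1 := gu_facts.2.2.2
      have hΦq : ∀ q : H0, Φ' q.1 = 1 := fun q => hctx.mem.1 q.2.1
      have hab : a = b := by
        have := congrArg Φ' h'
        cases a <;> cases b <;> simp [hΦq, he', hne', hne'.symm] at this ⊢
      subst hab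
      exact Prod.ext rfl (Subtype.ext (mul_left_cancel h'))
  omega

end Cfsg.Agent.L32Radical
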