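import Cfsg.Agent.Lib.L32Radical.Homocyclic

/-!
An abelian radical `ℤ₈ × E₈` under `GL₃(2)` gives an elementary section of order 32.
-/

set_option autoImplicit false
set_option linter.unusedSectionVars false
set_option linter.style.haveILetI false

namespace Cfsg.Agent.L32Radical

open A5Radical (cm map_cm cm_eq_one)

theorem add_ac_zero_or_a : ∀ v : Nat3, (v + ac ge v = 0 ∨ v + ac ge v = va) ∧ (v + ac ge1 v = 0 ∨ v + ac ge1 v = va) := by
  decide

theorem add_mem_line : ∀ v w : Nat3, (v = 0 ∨ v = va) → (w = 0 ∨ w = va) → (v + w = 0 ∨ v + w = va) := by decide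

theorem add_ac_both : ∀ v : Nat3, v + ac ge v = 0 → v + ac ge1 v = 0 → v = 0 ∨ v = va := by decide

variable {G : Type*} [Group G] [Finite G]

theorem cyclic_false {Q : Subgroup G} {Φ : G →* GL32} (h : Ctx Q Φ) (Ω W : Subgroup G) (p : G → Nat3)
    (hc : Coord Φ Ω W p) (hΩQ : Ω ≤ Q) (hcomm : ∀ a ∈ Q, ∀ b ∈ Q, a * b = b * a)
    (hΩ : ∀ x ∈ Q, (x ∈ Ω ↔ x * x = 1)) (x0 : G) (hx0 : x0 ∈ Q) (hx0c : ∀ g, g * x0 * g⁻¹ * x0⁻¹ ∈ Ω)
    (hgen : ∀ q ∈ Q, ∃ i : ℤ, (x0 ^ i)⁻¹ * q ∈ Ω) (hz0 : ∀ g, g * (x0 * x0) = x0 * x0 * g)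
    (hw : x0 * x0 * (x0 * x0) ≠ 1) (hwW : x0 * x0 * (x0 * x0) ∈ W)
    (hW : ∀ x ∈ W, x = 1 ∨ x = x0 * x0 * (x0 * x0)) : False := by
  classical
  haveI hΩn := hc.norm
  set z := x0 * x0 with hzd
  have hzQ : z ∈ Q := mul_mem hx0 hx0
  have hWΩ : ∀ x ∈ W, x ∈ Ω := fun x hx => hc.le hx
  have hWc : ∀ x ∈ W, ∀ g, g * x = x * g := fun x hx g => by
    rcases hW x hx with rfl | rfl
    · rw [mul_one, one_mul]
    · exact ((show Commute g z from hz0 g).mul_right (hz0 g)).eq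
  let cj : G → G → G := fun g x => g * x * g⁻¹
  have cj_mul : ∀ g g' x, cj (g * g') x = cj g (cj g' x) := fun g g' x => by simp [cj, mul_assoc]
  have cj_map : ∀ g x y, cj g (x * y) = cj g x * cj g y := fun g x y => by simp [cj, mul_assoc]
  have cjΩ : ∀ g x, x ∈ Ω → cj g x ∈ Ω := fun g x hx => hΩn.conj_mem x hx g
  have hp : ∀ g, ∀ x ∈ Ω, p (cj g x) = ac (Φ g) (p x) := hc.equiv
  have hcentral : ∀ x, (∀ g, g * x = x * g) → ∀ g, cj g x = x := fun x hx g => by
    show g * x * g⁻¹ = x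
    rw [hx g, mul_inv_cancel_right]
  have hzcj : ∀ g, ∀ k : ℤ, cj g (z ^ k) = z ^ k := fun g k => hcentral _ (fun g => ((show Commute g z from hz0 g).zpow_right k).eq) g
  have hsame : ∀ g g', Φ g = Φ g' → ∀ x ∈ Q, cj g x = cj g' x := fun g g' e x hx => by
    have hk : g'⁻¹ * g ∈ Q := by rw [h.mem, map_mul, map_inv, e, inv_mul_cancel]
    rw [show g = g' * (g'⁻¹ * g) by rw [mul_inv_cancel_left], cj_mul]
    show cj g' (g'⁻¹ * g * x * (g'⁻¹ * g)⁻¹) = _
    rw [hcomm _ hk x hx, mul_inv_cancel_right]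
  -- modulo `Ω`
  let π := QuotientGroup.mk' Ω
  have hπ1 : ∀ x, π x = 1 ↔ x ∈ Ω := fun x => QuotientGroup.eq_one_iff x
  set a := π x0 with had
  have ha4 : a ^ 2 ^ (1 + 1) = 1 := by
    rw [had, ← map_pow, hπ1]
    rw [show x0 ^ 2 ^ (1 + 1) = z * z by rw [hzd]; simp [pow_succ, mul_assoc]]
    exact hWΩ _ hwW
  have ha2 : ¬ a ^ 2 ^ 1 = 1 := fun e => by
    rw [had, ← map_pow, hπ1] at e
    refine hw ((hΩ z hzQ).1 ?_)
    simpa [hzd, pow_two] using e
  haveI : Fact (Nat.Prime 2) := ⟨Nat.prime_two⟩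
  have hord : orderOf a = 4 := (orderOf_eq_prime_pow ha2 ha4).trans (by norm_num)
  have haQ : ∀ q ∈ Q, ∃ i : ℤ, π q = a ^ i := fun q hq => by
    obtain ⟨i, hi⟩ := hgen q hq
    exact ⟨i, by rw [had, ← map_zpow]; exact (QuotientGroup.eq.2 hi).symm⟩
  have hacen : ∀ y : G ⧸ Ω, y * a = a * y := fun y => by
    obtain ⟨g, rfl⟩ := QuotientGroup.mk'_surjective Ω y
    have h1 := (hπ1 _).2 (hx0c g)
    rw [map_mul, map_mul, map_mul, map_inv, map_inv, mul_inv_eq_one, mul_inv_eq_iff_eq_mul] at h1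
    exact h1
  have hQcen : ∀ q ∈ Q, ∀ y : G ⧸ Ω, y * π q = π q * y := fun q hq y => by
    obtain ⟨i, hi⟩ := haQ q hq
    rw [hi]
    exact ((show Commute y a from hacen y).zpow_right i).eq
  have heven : ∀ q ∈ Q, π q * π q = 1 → ∃ k : ℤ, π q = π (z ^ k) := fun q hq hq2 => by
    obtain ⟨i, hi⟩ := haQ q hq
    rw [hi, ← zpow_add, ← orderOf_dvd_iff_zpow_eq_one, hord] at hq2
    refine ⟨i / 2, ?_⟩
    rw [hi, had, ← map_zpow, hzd, ← zpow_two, ← zpow_mul]
    congr 2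
    push_cast at hq2
    omega
  -- lifts
  obtain ⟨u, hu⟩ := h.surj gu
  obtain ⟨τ, hτ⟩ := h.surj gt
  obtain ⟨hgu2, hge2, hgu4, -⟩ := gu_facts
  obtain ⟨hgt3, -, hgte, hgte1, hgtt⟩ := gt_facts
  obtain ⟨hee1, hee1sq, he1sq, -, -⟩ := four_group
  set e := u * u with hed
  have he : Φ e = ge := by rw [hed, map_mul, hu, hgu2]
  have hee : e * e ∈ Q := by rw [h.mem, map_mul, he, hge2]
  -- parity
  obtain ⟨k, hk⟩ : ∃ k : ℤ, π (e * e) = π (z ^ k) := by
    set e' := τ * e * τ⁻¹ with he'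
    set e'' := τ * e' * τ⁻¹ with he''
    have hΦ' : Φ e' = ge1 := by rw [he', map_mul, map_mul, map_inv, hτ, he, hgte]
    have hΦ'' : Φ e'' = ge * ge1 := by rw [he'', map_mul, map_mul, map_inv, hτ, hΦ', hgte1]
    have hq : (e * e')⁻¹ * e'' ∈ Q := by rw [h.mem, map_mul Φ, map_inv, map_mul, he, hΦ', hΦ'', inv_mul_cancel]
    have hcq : cm e e' ∈ Q := by
      rw [h.mem, map_cm, he, hΦ', cm_eq_one]; exact hee1
    have hc1 : π e' * π e' = π e * π e := by
      rw [← map_mul, show e' * e' = τ * (e * e) * τ⁻¹ by simp [he', mul_assoc], map_mul, map_mul, hQcen _ hee,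
        map_inv, mul_inv_cancel_right, map_mul]
    have hc2 : π e'' * π e'' = π e * π e := by
      rw [← map_mul, show e'' * e'' = τ * (τ * (e * e) * τ⁻¹) * τ⁻¹ by simp [he'', he', mul_assoc]]
      simp only [map_mul π τ, map_mul π _ τ⁻¹, map_inv]
      rw [hQcen _ hee, mul_inv_cancel_right, hQcen _ hee, mul_inv_cancel_right, map_mul]
    set c := π (cm e e') with hcd
    set q := π ((e * e')⁻¹ * e'') with hqd
    have hswap : π e * π e' = π e' * π e * c := by rw [hcd, ← map_mul, ← map_mul, ← map_mul]; simp [cm, mul_assoc]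
    have hcc : ∀ y, y * c = c * y := hQcen _ hcq
    have hc22 : c * c = 1 := by
      have h1 : π e * π e * π e' = π e' * (π e * π e) * (c * c) := by
        calc π e * π e * π e' = π e * (π e * π e') := mul_assoc _ _ _
          _ = π e * (π e' * π e * c) := by rw [hswap]
          _ = π e * π e' * (π e * c) := by simp [mul_assoc]
          _ = π e' * π e * c * (π e * c) := by rw [hswap]
          _ = π e' * π e * (π e * c) * c := by rw [mul_assoc (π e' * π e) c, ← hcc, ← mul_assoc]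
          _ = _ := by simp [mul_assoc]
      rw [← map_mul, ← hQcen _ hee (π e'), left_eq_mul] at h1
      exact h1
    have h2 : π e'' = π e * π e' * q := by rw [hqd, ← map_mul, ← map_mul, mul_inv_cancel_left]
    have hqc : ∀ y, y * q = q * y := hQcen _ hq
    have hswap' : π e' * π e = π e * π e' * c := by rw [hswap, mul_assoc, hc22, mul_one]
    have h3 : π e * π e = π e * π e * (π e * π e) * (c * (q * q)) := by
      conv_lhs => rw [← hc2, h2]
      calc π e * π e' * q * (π e * π e' * q) = π e * π e' * (π e * π e') * (q * q) := by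
            rw [mul_assoc _ q, ← mul_assoc q, ← hqc]; simp [mul_assoc]
        _ = π e * (π e' * π e) * π e' * (q * q) := by simp [mul_assoc]
        _ = π e * (π e * π e') * (c * π e') * (q * q) := by rw [hswap']; simp [mul_assoc]
        _ = π e * π e * (π e' * π e') * (c * (q * q)) := by rw [← hcc]; simp [mul_assoc]
        _ = _ := by rw [hc1]
    rw [mul_assoc (π e * π e), left_eq_mul] at h3
    obtain ⟨i, hi⟩ := haQ _ hq
    obtain ⟨j, hj⟩ := heven _ hcq hc22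
    refine ⟨-(j + i), ?_⟩
    rw [map_mul, eq_inv_of_mul_eq_one_left h3, map_zpow, zpow_neg, zpow_add, ← map_zpow, ← hcd.symm.trans hj.symm.symm]
    congr 2
    rw [hqd, hi, ← zpow_add, hzd, map_mul, ← had, ← pow_two, ← zpow_natCast, ← zpow_mul]
    congr 1
    push_cast
    ring
  set ω := (z ^ k)⁻¹ * (e * e) with hωd
  have hωΩ : ω ∈ Ω := by rw [← hπ1, map_mul, map_inv, hk, inv_mul_cancel]
  have heω : e * e = z ^ k * ω := by rw [hωd, mul_inv_cancel_left]
  have hωu : cj u ω = ω := by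
    have h1 : cj u (e * e) = e * e := by simp [cj, hed, mul_assoc]
    rw [heω, cj_map, hzcj] at h1
    exact mul_left_cancel h1
  have hpω := fix_gu (p ω) (by rw [← hu, ← hp u ω hωΩ, hωu])
  obtain ⟨C, hC, hCp⟩ := hc.onto vc
  obtain ⟨f1, hf1, kk, hf1z⟩ : ∃ f1, Φ f1 = ge ∧ ∃ k : ℤ, f1 * f1 = z ^ k := by
    have hWz : ∀ x ∈ W, ∃ j : ℤ, x = z ^ j := fun x hx => by
      rcases hW x hx with e | e
      · exact ⟨0, by rw [e, zpow_zero]⟩
      · exact ⟨2, by rw [e, zpow_two]⟩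
    rcases hpω with h0 | h0
    · obtain ⟨j, hj⟩ := hWz ω ((hc.zero ω hωΩ).1 h0)
      exact ⟨e, he, k + j, by rw [heω, hj, zpow_add]⟩
    · have hC1 := cjΩ e⁻¹ C hC
      have hm : ω * (cj e⁻¹ C * C) ∈ Ω := mul_mem hωΩ (mul_mem hC1 hC)
      obtain ⟨j, hj⟩ := hWz _ ((hc.zero _ hm).1 (by
        rw [hc.add _ hωΩ _ (mul_mem hC1 hC), hc.add _ hC1 _ hC, hp _ C hC, map_inv, he,
          inv_eq_of_mul_eq_one_right hge2, h0, hCp]
        decide))
      refine ⟨e * C, by rw [map_mul, he, h.mem.1 (hΩQ hC), mul_one], k + j, ?_⟩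
      rw [zpow_add, ← hj,
        show z ^ k * (ω * (cj e⁻¹ C * C)) = z ^ k * ω * (cj e⁻¹ C * C) from (mul_assoc _ _ _).symm, ← heω]
      simp [cj, mul_assoc]
  -- the centralised subgroup
  let N0 : Subgroup G :=
    { carrier := {x | x ∈ Ω ∧ (p x = 0 ∨ p x = va)}
      one_mem' := ⟨one_mem Ω, Or.inl hc.one⟩
      mul_mem' := fun {x y} hx hy => ⟨mul_mem hx.1 hy.1, by
        rw [hc.add _ hx.1 _ hy.1]
        exact add_mem_line _ _ hx.2 hy.2⟩
      inv_mem' := fun {x} hx => ⟨inv_mem hx.1, by rw [hc.inv hx.1]; exact hx.2⟩ }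
  have hWN : ∀ x ∈ W, x ∈ N0 := fun x hx => ⟨hWΩ x hx, Or.inl ((hc.zero x (hWΩ x hx)).2 hx)⟩
  set α := C * cj e C with hαd
  have hαΩ : α ∈ Ω := mul_mem hC (cjΩ e C hC)
  have hαp : p α = va := by rw [hαd, hc.add _ hC _ (cjΩ e C hC), hp e C hC, he, hCp]; decide
  have hN0α : ∀ x ∈ N0, ∃ w ∈ W, x = w ∨ x = α * w := fun x hx => by
    rcases hx.2 with e' | e'
    · exact ⟨x, (hc.zero x hx.1).1 e', Or.inl rfl⟩
    · exact ⟨_, hc.quot hαΩ hx.1 (by rw [hαp, e']), Or.inr (mul_inv_cancel_left α x).symm⟩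
  have hαfix : ∀ g, (Φ g = ge ∨ Φ g = ge1) → cj g α = α := by
    rintro g (hg | hg)
    · rw [hsame g e (by rw [hg, he]) α (hΩQ hαΩ), hαd, cj_map, ← cj_mul e e C,
        hsame (e * e) 1 (by rw [map_mul, he, hge2, map_one]) C (hΩQ hC)]
      rw [show cj 1 C = C by simp [cj]]
      exact hcomm _ (hΩQ (cjΩ e C hC)) C (hΩQ hC)
    · obtain ⟨w', hw', hgC⟩ : ∃ w' ∈ W, cj g C = C * w' :=
        ⟨_, hc.quot hC (cjΩ g C hC) (by rw [hp g C hC, hg, hCp]; decide), (mul_inv_cancel_left C _).symm⟩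
      have hge : cj g (cj e C) = cj e (cj g C) := by
        rw [← cj_mul, ← cj_mul]
        exact hsame _ _ (by rw [Φ.map_mul g e, Φ.map_mul e g, he, hg, hee1]) C (hΩQ hC)
      rw [hαd, cj_map, hge, hgC, cj_map, hcentral w' (hWc w' hw'), swap_mid (hWc w' hw' (cj e C)).symm,
        (hΩ w' (hΩQ (hWΩ w' hw'))).1 (hWΩ w' hw'), mul_one]
  have hN0fix : ∀ g, (Φ g = ge ∨ Φ g = ge1) → ∀ x ∈ N0, g * x = x * g := fun g hg x hx => by
    refine mul_inv_eq_iff_eq_mul.1 ?_
    show cj g x = x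
    obtain ⟨w, hw, rfl | rfl⟩ := hN0α x hx
    · exact hcentral x (hWc x hw) g
    · rw [cj_map, hαfix g hg, hcentral w (hWc w hw)]
  -- commutators of two lifts
  obtain ⟨T, hT⟩ : ∃ T, Φ T = ge1 := h.surj ge1
  have hcomN : ∀ g h', Φ g = ge → Φ h' = ge1 → (h' * (g * g) = g * g * h') → (g * (h' * h') = h' * h' * g) →
      cm g h' ∈ N0 := by
    intro g h' hg hh hgg hhh
    set c := cm g h' with hcd
    have hcQ : c ∈ Q := by rw [h.mem, map_cm, hg, hh, cm_eq_one]; exact hee1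
    have h1 : c * cj e c = 1 := by
      have e1 : h'⁻¹ * g * h' = g * c := by simp [hcd, cm, mul_assoc]
      have e2 : g * c * (g * c) = g * g := by
        rw [← e1, show h'⁻¹ * g * h' * (h'⁻¹ * g * h') = h'⁻¹ * (g * g * h') by simp [mul_assoc], ← hgg,
          inv_mul_cancel_left]
      have e3 : cj g⁻¹ c * c = 1 := by
        refine mul_left_cancel (a := g * g) ?_
        rw [mul_one]
        conv_rhs => rw [← e2]
        simp [cj, mul_assoc]
      rw [hsame g⁻¹ e (by rw [map_inv, hg, he, inv_eq_of_mul_eq_one_right hge2]) c hcQ] at e3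
      have hecQ : cj e c ∈ Q := h.normal.conj_mem c hcQ e
      rw [hcomm c hcQ _ hecQ, e3]
    have h2 : c * cj T c = 1 := by
      have hci : c⁻¹ = cm h' g := by simp [hcd, cm, mul_assoc]
      have e1 : g⁻¹ * h' * g = h' * c⁻¹ := by simp [hci, cm, mul_assoc]
      have e2 : h' * c⁻¹ * (h' * c⁻¹) = h' * h' := by
        rw [← e1, show g⁻¹ * h' * g * (g⁻¹ * h' * g) = g⁻¹ * (h' * h' * g) by simp [mul_assoc], ← hhh,
          inv_mul_cancel_left]
      have e3 : cj h'⁻¹ c⁻¹ * c⁻¹ = 1 := by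
        refine mul_left_cancel (a := h' * h') ?_
        rw [mul_one]
        conv_rhs => rw [← e2]
        simp [cj, mul_assoc]
      rw [hsame h'⁻¹ T (by rw [map_inv, hh, hT, inv_eq_of_mul_eq_one_right he1sq]) _ (inv_mem hcQ)] at e3
      have e4 : cj T c⁻¹ = (cj T c)⁻¹ := by simp [cj, mul_assoc]
      rw [e4, ← mul_inv_rev, inv_eq_one] at e3
      exact e3
    have hπcj : ∀ g, π (cj g c) = π c := fun g => by
      show π (g * c * g⁻¹) = π c
      rw [map_mul, map_mul, hQcen c hcQ, map_inv, mul_inv_cancel_right]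
    obtain ⟨i, hi⟩ := heven c hcQ (by
      have := congrArg π h1
      rwa [map_mul, hπcj, map_one] at this)
    set o := (z ^ i)⁻¹ * c with hod
    have hoΩ : o ∈ Ω := by rw [← hπ1, map_mul, map_inv, hi, inv_mul_cancel]
    have hco : c = z ^ i * o := by rw [hod, mul_inv_cancel_left]
    have hsum : ∀ g, c * cj g c = 1 → p o + ac (Φ g) (p o) = 0 := fun g hg' => by
      rw [hco, cj_map, hzcj, swap_mid (hcomm _ (hΩQ hoΩ) _ (zpow_mem hzQ i))] at hg'
      have hoo : o * cj g o ∈ W := by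
        rw [eq_inv_of_mul_eq_one_right hg']
        refine inv_mem ?_
        rw [← (Commute.refl z).mul_zpow]
        exact zpow_mem hwW i
      have hm := mul_mem hoΩ (cjΩ g o hoΩ)
      have := (hc.zero _ hm).2 hoo
      rwa [hc.add _ hoΩ _ (cjΩ g o hoΩ), hp g o hoΩ] at this
    have hoN : o ∈ N0 := ⟨hoΩ, add_ac_both _ (he ▸ hsum e h1) (hT ▸ hsum T h2)⟩
    have hfix : cj e c = c := by
      rw [hco, cj_map, hzcj]
      congr 1
      exact mul_inv_eq_iff_eq_mul.2 (hN0fix e (Or.inl he) o hoN)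
    rw [hfix] at h1
    have hcΩ := (hΩ c hcQ).2 h1
    refine ⟨hcΩ, add_ac_both _ ?_ ?_⟩
    · have hm := mul_mem hcΩ (cjΩ e c hcΩ)
      have := (hc.zero _ hm).2 (by rw [hfix, h1]; exact one_mem W)
      rwa [hc.add _ hcΩ _ (cjΩ e c hcΩ), hp e c hcΩ, he] at this
    · have hm := mul_mem hcΩ (cjΩ T c hcΩ)
      have := (hc.zero _ hm).2 (by rw [h2]; exact one_mem W)
      rwa [hc.add _ hcΩ _ (cjΩ T c hcΩ), hp T c hcΩ, hT] at this
  have hswap2 : ∀ g h', Φ g = ge → Φ h' = ge1 → cm g h' ∈ N0 →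
      g * h' * (g * h') = g * g * (h' * h') * (cm g h')⁻¹ := fun g h' _ hh hN => by
    have hcm := hN0fix h' (Or.inr hh) _ (inv_mem hN)
    calc g * h' * (g * h') = g * (h' * g) * h' := by simp [mul_assoc]
      _ = g * (g * h' * (cm g h')⁻¹) * h' := by simp [cm, mul_assoc]
      _ = g * g * h' * ((cm g h')⁻¹ * h') := by simp [mul_assoc]
      _ = _ := by rw [← hcm]; simp [mul_assoc]
  -- improving the lifts
  set f2 := τ * f1 * τ⁻¹ with hf2d
  have hf2 : Φ f2 = ge1 := by rw [hf2d, map_mul, map_mul, map_inv, hτ, hf1, hgte]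
  have hf2z : f2 * f2 = z ^ kk := by
    rw [show f2 * f2 = cj τ (f1 * f1) by simp [cj, hf2d, mul_assoc], hf1z, hzcj]
  have hzk : ∀ g, g * z ^ kk = z ^ kk * g := fun g => ((show Commute g z from hz0 g).zpow_right kk).eq
  have h12 := hcomN f1 f2 hf1 hf2 (by rw [hf1z]; exact hzk _) (by rw [hf2z]; exact hzk _)
  set f3 := f1 * f2 with hf3d
  have hf3N : f3 * f3 ∈ N0 := by
    rw [hswap2 f1 f2 hf1 hf2 h12, hf1z, hf2z, ← (Commute.refl z).mul_zpow]
    exact mul_mem (hWN _ (zpow_mem hwW kk)) (inv_mem h12)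
  have hτa : ac (Φ τ) va = va := by rw [hτ]; exact values.2.1
  have hN0τ : ∀ g, ac (Φ g) va = va → ∀ x ∈ N0, cj g x ∈ N0 := fun g hg x hx => ⟨cjΩ g x hx.1, by
    rw [hp g x hx.1]
    rcases hx.2 with h | h <;> rw [h]
    · exact Or.inl (ac_zero _)
    · exact Or.inr hg⟩
  set g1 := (τ * τ)⁻¹ * f3 * (τ * τ) with hg1d
  set g2 := τ * g1 * τ⁻¹ with hg2d
  have hg1 : Φ g1 = ge := by
    rw [hg1d, map_mul, map_mul, map_inv, map_mul, hf3d, map_mul, hτ, hf1, hf2, mul_inv_rev]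
    exact hgtt
  have hg2 : Φ g2 = ge1 := by rw [hg2d, map_mul, map_mul, map_inv, hτ, hg1, hgte]
  have hg1N : g1 * g1 ∈ N0 := by
    rw [show g1 * g1 = cj (τ * τ)⁻¹ (f3 * f3) by simp [cj, hg1d, mul_assoc]]
    refine hN0τ _ ?_ _ hf3N
    have hττ : ac (Φ (τ * τ)) va = va := by rw [map_mul, ac_mul, hτa, hτa]
    conv_lhs => rw [← hττ, map_inv, ac_inv_ac]
  have hg2N : g2 * g2 ∈ N0 := by
    rw [show g2 * g2 = cj τ (g1 * g1) by simp [cj, hg2d, mul_assoc]]
    exact hN0τ τ hτa _ hg1N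
  have h12' := hcomN g1 g2 hg1 hg2 (hN0fix g2 (Or.inr hg2) _ hg1N) (hN0fix g1 (Or.inl hg1) _ hg2N)
  -- the section
  let S : Set G := {x | x ∈ Ω ∨ x = z ∨ x = g1 ∨ x = g2}
  have hfx : ∀ x, (x = g1 ∨ x = g2) → (Φ x = ge ∨ Φ x = ge1) ∧ x * x ∈ N0 := by
    rintro x (rfl | rfl)
    · exact ⟨Or.inl hg1, hg1N⟩
    · exact ⟨Or.inr hg2, hg2N⟩
  have hcenS : ∀ s ∈ S, ∀ c ∈ N0, s * c = c * s := by
    intro s hs c hc'
    rcases hs with hs | hs | hs
    · exact hcomm s (hΩQ hs) c (hΩQ hc'.1)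
    · rw [hs]; exact (hz0 c).symm
    · exact hN0fix s (hfx s hs).1 c hc'
  have hzz : z * z ∈ N0 := hWN _ hwW
  have hΩ2 : ∀ x ∈ Ω, x * x = 1 := fun x hx => (hΩ x (hΩQ hx)).1 hx
  have hhalf : ∀ x ∈ S, ∀ y ∈ S, x * y * (x * y) ∈ N0 → y * x * (y * x) ∈ N0 := fun x hx y hy hm => by
    have h1 := hcenS y hy _ hm
    rw [show y * x * (y * x) = y * (x * y * (x * y)) * y⁻¹ by simp [mul_assoc], h1, mul_inv_cancel_right]
    exact hm
  have hωz : ∀ x ∈ Ω, x * z * (x * z) ∈ N0 := fun x hx => by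
    rw [swap_mid (hz0 x).symm, hΩ2 x hx, one_mul]; exact hzz
  have hωf : ∀ x ∈ Ω, ∀ y, (y = g1 ∨ y = g2) → x * y * (x * y) ∈ N0 := fun x hx y hy => by
    obtain ⟨hy1, hy2⟩ := hfx y hy
    rw [show x * y * (x * y) = x * cj y x * (y * y) by simp [cj, mul_assoc]]
    refine mul_mem ⟨mul_mem hx (cjΩ y x hx), ?_⟩ hy2
    rw [hc.add _ hx _ (cjΩ y x hx), hp y x hx]
    rcases hy1 with e' | e' <;> rw [e']
    · exact (add_ac_zero_or_a _).1
    · exact (add_ac_zero_or_a _).2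
  have hzf : ∀ y, (y = g1 ∨ y = g2) → z * y * (z * y) ∈ N0 := fun y hy => by
    rw [swap_mid (hz0 y)]; exact mul_mem hzz (hfx y hy).2
  have hff : g1 * g2 * (g1 * g2) ∈ N0 := by
    rw [hswap2 g1 g2 hg1 hg2 h12']
    exact mul_mem (mul_mem hg1N hg2N) (inv_mem h12')
  have hsqS : ∀ x ∈ S, x * x ∈ N0 := by
    intro x hx
    rcases hx with hx | hx | hx
    · rw [hΩ2 x hx]; exact one_mem _
    · rw [hx]; exact hzz
    · exact (hfx x hx).2
  have hpair : ∀ x ∈ S, ∀ y ∈ S, x * y * (x * y) ∈ N0 := by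
    intro x hx y hy
    rcases hx with hx' | hx' | hx' <;> rcases hy with hy' | hy' | hy'
    · rw [hΩ2 _ (mul_mem hx' hy')]; exact one_mem _
    · rw [hy']; exact hωz x hx'
    · exact hωf x hx' y hy'
    · exact hhalf y (Or.inl hy') x (Or.inr (Or.inl hx')) (by rw [hx']; exact hωz y hy')
    · rw [hx', hy']; exact mul_mem hzz hzz
    · rw [hx']; exact hzf y hy'
    · exact hhalf y (Or.inl hy') x (Or.inr (Or.inr hx')) (hωf y hy' x hx')
    · exact hhalf y (Or.inr (Or.inl hy')) x (Or.inr (Or.inr hx')) (by rw [hy']; exact hzf x hx')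
    · rcases hx' with e1 | e1 <;> rcases hy' with e2 | e2 <;> rw [e1, e2]
      · exact mul_mem hg1N hg1N
      · exact hff
      · exact hhalf g1 (Or.inr (Or.inr (Or.inl rfl))) g2 (Or.inr (Or.inr (Or.inr rfl))) hff
      · exact mul_mem hg2N hg2N
  have hle := section_le h.rank N0 S (fun x hx => Subgroup.subset_closure (Or.inl hx.1)) hcenS hsqS hpair
  -- counting
  have hW2 : Nat.card W = 2 := by
    have hWe : W = Subgroup.zpowers (z * z) := by
      refine le_antisymm (fun x hx => ?_) (Subgroup.zpowers_le.2 hwW)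
      rcases hW x hx with e' | e' <;> rw [e']
      · exact one_mem _
      · exact Subgroup.mem_zpowers _
    rw [hWe, Nat.card_zpowers]
    exact orderOf_eq_prime (by rw [pow_two]; exact hΩ2 _ (hWΩ _ hwW)) hw
  haveI : W.Normal := ⟨fun x hx g => by rw [hWc x hx g, mul_inv_cancel_right]; exact hx⟩
  have hΩ16 : Nat.card Ω = 16 := by rw [hc.card, hW2]
  have hN04 : Nat.card N0 ≤ 4 := by
    have h1 := Nat.card_le_card_of_surjective (fun q : Bool × W =>
      (⟨(if q.1 then α else 1) * q.2.1, mul_mem (by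
        split_ifs
        exacts [⟨hαΩ, Or.inr hαp⟩, one_mem N0]) (hWN _ q.2.2)⟩ : N0)) (fun ⟨x, hx⟩ => by
      obtain ⟨w, hw, e' | e'⟩ := hN0α x hx
      · exact ⟨(false, ⟨w, hw⟩), Subtype.ext (by simp [e'])⟩
      · exact ⟨(true, ⟨w, hw⟩), Subtype.ext (by simp [e'])⟩)
    rw [Nat.card_prod, hW2, Nat.card_eq_fintype_card (α := Bool), Fintype.card_bool] at h1
    exact h1
  let r : Fin 4 → G := ![1, g1, g2, g1 * g2]
  have hr : ∀ i, r i ∈ Subgroup.closure S := by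
    intro i; fin_cases i
    exacts [one_mem _, Subgroup.subset_closure (Or.inr (Or.inr (Or.inl rfl))),
      Subgroup.subset_closure (Or.inr (Or.inr (Or.inr rfl))),
      mul_mem (Subgroup.subset_closure (Or.inr (Or.inr (Or.inl rfl))))
        (Subgroup.subset_closure (Or.inr (Or.inr (Or.inr rfl))))]
  have hrinj : Function.Injective (Φ ∘ r) := by
    have hlist : Φ ∘ r = ![1, ge, ge1, ge * ge1] := by
      funext i; fin_cases i <;> simp [r, hg1, hg2]
    rw [hlist]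
    decide
  let s : Bool → G := fun b => if b then z else 1
  have hs : ∀ b, s b ∈ Subgroup.closure S ∧ s b ∈ Q := fun b => by
    cases b
    · exact ⟨one_mem _, one_mem _⟩
    · exact ⟨Subgroup.subset_closure (Or.inr (Or.inl rfl)), hzQ⟩
  have hzΩ : z ∉ Ω := fun hm => hw (hΩ2 z hm)
  have h128 : 128 ≤ Nat.card (Subgroup.closure S) := by
    have h1 := Nat.card_le_card_of_injective (fun q : Fin 4 × Bool × Ω =>
      (⟨r q.1 * (s q.2.1 * q.2.2.1),
        mul_mem (hr q.1) (mul_mem (hs _).1 (Subgroup.subset_closure (Or.inl q.2.2.2)))⟩ : Subgroup.closure S)) ?_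
    · rw [Nat.card_prod, Nat.card_prod, Nat.card_fin, hΩ16, Nat.card_eq_fintype_card, Fintype.card_bool] at h1
      exact h1
    · rintro ⟨i, a, x⟩ ⟨j, b, y⟩ hh
      have h' : r i * (s a * x.1) = r j * (s b * y.1) := congrArg Subtype.val hh
      have hx : ∀ b, ∀ x : Ω, Φ (s b * x.1) = 1 := fun b x => h.mem.1 (mul_mem (hs b).2 (hΩQ x.2))
      have hij : i = j := hrinj (by
        have := congrArg Φ h'
        rw [map_mul Φ (r i), map_mul Φ (r j), hx, hx, mul_one, mul_one] at this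
        exact this)
      subst hij
      have h2 := mul_left_cancel h'
      have hab : a = b := by
        cases a <;> cases b
        · rfl
        · exact absurd (by
            have h3 : z * y.1 = x.1 := by simpa [s] using h2.symm
            rw [← eq_mul_inv_iff_mul_eq] at h3
            rw [h3]; exact mul_mem x.2 (inv_mem y.2)) hzΩ
        · exact absurd (by
            have h3 : z * x.1 = y.1 := by simpa [s] using h2
            rw [← eq_mul_inv_iff_mul_eq] at h3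
            rw [h3]; exact mul_mem y.2 (inv_mem x.2)) hzΩ
        · rfl
      subst hab
      exact Prod.ext rfl (Prod.ext rfl (Subtype.ext (mul_left_cancel h2)))
  omega

end Cfsg.Agent.L32Radical
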