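import Cfsg.Agent.Lib.L32Radical.Seven
import Cfsg.Agent.Lib.A5Radical.Pairing

/-!
An element of order seven modulo `Q` on a section below `Q`; coordinates on a section of order eight.
-/

set_option autoImplicit false
set_option linter.unusedSectionVars false
set_option linter.style.haveILetI false

namespace Cfsg.Agent.L32Radical

open A5Radical (cm map_cm cm_eq_one)
open scoped Matrix

variable {G : Type*} [Group G]

/-- The combination of `v` and its first two conjugates under `f`. -/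
def cb (f v : G) (x : Nat3) : G :=
  v ^ (x 0).val * (f * v * f⁻¹) ^ (x 1).val * (f * (f * v * f⁻¹) * f⁻¹) ^ (x 2).val

theorem map_cb {H : Type*} [Group H] (π : G →* H) (f v : G) (x : Nat3) : π (cb f v x) = cb (π f) (π v) x := by
  simp [cb]

theorem cb_mem {K : Subgroup G} [hK : K.Normal] {v : G} (hv : v ∈ K) (f : G) (x : Nat3) : cb f v x ∈ K :=
  mul_mem (mul_mem (pow_mem hv _) (pow_mem (hK.conj_mem v hv f) _)) (pow_mem (hK.conj_mem _ (hK.conj_mem v hv f) f) _)

/-- The relation of `cb`. -/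
def CbRel (f v : G) : Prop :=
  f * (f * (f * v * f⁻¹) * f⁻¹) * f⁻¹ = v * (f * v * f⁻¹) ∨
    f * (f * (f * v * f⁻¹) * f⁻¹) * f⁻¹ = v * (f * (f * v * f⁻¹) * f⁻¹)

/-- An element of order seven on a normal elementary subgroup of order at most 16. -/
theorem normal_seven [Finite G] (N : Subgroup G) [N.Normal] (hexp : ∀ v ∈ N, v * v = 1) (h16 : Nat.card N ≤ 16)
    (f : G) (hf7 : ∀ v ∈ N, f ^ 7 * v = v * f ^ 7) (hne : ∃ v ∈ N, f * v ≠ v * f) :
    ∃ v ∈ N, (∀ x y, cb f v x = cb f v y → x = y) ∧ (∀ x y, cb f v (x + y) = cb f v x * cb f v y) ∧ CbRel f v ∧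
      ((Nat.card N = 8 ∧ (∀ w ∈ N, ∃ x, w = cb f v x) ∧ ∀ w ∈ N, f * w = w * f → w = 1) ∨
        (Nat.card N = 16 ∧ ∃ z ∈ N, f * z = z * f ∧ z ≠ 1 ∧ (∀ w ∈ N, f * w = w * f → w = 1 ∨ w = z) ∧
          ∀ w ∈ N, ∃ x, w = cb f v x ∨ w = z * cb f v x)) := by
  letI : CommGroup N :=
    { (inferInstance : Group N) with mul_comm := fun a b => Subtype.ext (A5Radical.comm_of_exp hexp a.2 b.2) }
  set σ : MulAut N := MulAut.conjNormal f with hσ
  have h7 : σ ^ 7 = 1 := by
    rw [hσ, ← map_pow]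
    exact MulEquiv.ext fun v => Subtype.ext (by
      show f ^ 7 * v * (f ^ 7)⁻¹ = v
      rw [hf7 _ v.2, mul_inv_cancel_right])
  have hfix : ∀ v : N, σ v = v ↔ f * v = v * f := fun v => by
    rw [Subtype.ext_iff]
    exact mul_inv_eq_iff_eq_mul
  have hc : ∀ (v : N) (x : Nat3), ((cmb σ v x : N) : G) = cb f v x := fun v x => rfl
  obtain ⟨w0, hw0, hw0'⟩ := hne
  obtain ⟨v, hinj, hrel, hcase⟩ := seven_basis (fun v : N => Subtype.ext (hexp v v.2)) h16 σ h7
    ⟨⟨w0, hw0⟩, fun e => hw0' ((hfix _).1 e)⟩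
  refine ⟨v, v.2, fun x y e => hinj (Subtype.ext (by rw [hc, hc, e])), fun x y => by
    rw [← hc, ← hc, ← hc, cmb_add σ (fun v : N => Subtype.ext (hexp v v.2)), Subgroup.coe_mul],
    hrel.imp (congrArg Subtype.val) (congrArg Subtype.val), ?_⟩
  rcases hcase with ⟨h8, honto, hfree⟩ | ⟨hc16, z, hz, hz1, hzu, hcov⟩
  · refine Or.inl ⟨h8, fun w hw => ?_, fun w hw e => congrArg Subtype.val (hfree ⟨w, hw⟩ ((hfix _).2 e))⟩
    obtain ⟨x, hx⟩ := honto ⟨w, hw⟩
    exact ⟨x, by rw [← hc, hx]⟩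
  · refine Or.inr ⟨hc16, z, z.2, (hfix _).1 hz, fun e => hz1 (Subtype.ext e), fun w hw e =>
      (hzu ⟨w, hw⟩ ((hfix _).2 e)).imp (congrArg Subtype.val) (congrArg Subtype.val), fun w hw => ?_⟩
    obtain ⟨x, hx⟩ := hcov ⟨w, hw⟩
    exact ⟨x, hx.imp (congrArg Subtype.val) (congrArg Subtype.val)⟩

namespace Ctx

variable [Finite G] {Q : Subgroup G} {Φ : G →* GL32} (h : Ctx Q Φ)
include h

/-- Coordinates on a section of order eight on which `f` acts non-trivially. -/
theorem exists_coord {f : G} (hf7 : f ^ 7 ∈ Q) (hfQ : f ∉ Q) (K U : Subgroup G) [hK : K.Normal] [U.Normal]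
    (hle : U ≤ K) (hsq : ∀ k ∈ K, k * k ∈ U) (hQc : ∀ k ∈ K, ∀ q ∈ Q, cm k q ∈ U)
    (h8 : Nat.card (K.map (QuotientGroup.mk' U)) = 8) (hne : ∃ k ∈ K, cm f k ∉ U) :
    ∃ (Φ' : G →* GL32) (p : G → Nat3), Ctx Q Φ' ∧ Coord Φ' K U p := by
  classical
  let π := QuotientGroup.mk' U
  set N := K.map π with hN
  haveI : N.Normal := Subgroup.Normal.map inferInstance _ (QuotientGroup.mk'_surjective U)
  have hexp : ∀ v ∈ N, v * v = 1 := by
    rintro _ ⟨k, hk, rfl⟩
    rw [← map_mul]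
    exact (QuotientGroup.eq_one_iff _).2 (hsq k hk)
  have hcen : ∀ q ∈ Q, ∀ v ∈ N, π q * v = v * π q := by
    rintro q hq _ ⟨k, hk, rfl⟩
    exact (cm_eq_one.1 ((map_cm π k q).symm.trans ((QuotientGroup.eq_one_iff _).2 (hQc k hk q hq)))).symm
  obtain ⟨k0, hk0, hk0'⟩ := hne
  obtain ⟨v, hv, hinj, hadd, -, hcase⟩ := normal_seven N hexp (by omega) (π f)
    (fun v hv => by rw [← map_pow]; exact hcen _ hf7 v hv)
    ⟨π k0, ⟨k0, hk0, rfl⟩, fun e => hk0' ((QuotientGroup.eq_one_iff _).1 ((map_cm π f k0).trans (cm_eq_one.2 e)))⟩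
  obtain ⟨-, honto, -⟩ := hcase.resolve_right (fun h16 => by omega)
  let c : Nat3 → N := fun x => ⟨cb (π f) v x, cb_mem hv _ x⟩
  let ec : Nat3 ≃ N := Equiv.ofBijective c ⟨fun x y e => hinj x y (congrArg Subtype.val e),
    fun ⟨w, hw⟩ => (honto w hw).imp fun x hx => Subtype.ext hx.symm⟩
  have hec : ∀ x y, ec (x + y) = ec x * ec y := fun x y => Subtype.ext (hadd x y)
  have hsymm : ∀ a b, ec.symm (a * b) = ec.symm a + ec.symm b := fun a b => ec.injective (by
    rw [hec, ec.apply_symm_apply, ec.apply_symm_apply, ec.apply_symm_apply])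
  let cjN : G →* MulAut N := (MulAut.conjNormal (H := N)).comp π
  let L : G → Nat3 →ₗ[ZMod 2] Nat3 := fun g => AddMonoidHom.toZModLinearMap 2
    (AddMonoidHom.mk' (fun x => ec.symm (cjN g (ec x))) fun x y => by rw [hec, map_mul, hsymm])
  have hL : ∀ g x, L g x = ec.symm (cjN g (ec x)) := fun g x => rfl
  let M : G →* Matrix (Fin 3) (Fin 3) (ZMod 2) :=
    { toFun := fun g => LinearMap.toMatrix' (L g)
      map_one' := by
        rw [show L 1 = LinearMap.id from LinearMap.ext fun x => by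
          rw [hL, map_one, MulAut.one_apply, ec.symm_apply_apply]; rfl, LinearMap.toMatrix'_id]
      map_mul' := fun g g' => by
        rw [show L (g * g') = (L g).comp (L g') from LinearMap.ext fun x => by
          rw [LinearMap.comp_apply, hL, hL, hL, ec.apply_symm_apply, map_mul, MulAut.mul_apply],
          LinearMap.toMatrix'_comp] }
  let Φ' : G →* GL32 := M.toHomUnits
  have hac : ∀ g x, ac (Φ' g) x = ec.symm (cjN g (ec x)) := fun g x => by
    show LinearMap.toMatrix' (L g) *ᵥ x = _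
    rw [LinearMap.toMatrix'_mulVec, hL]
  let p : G → Nat3 := fun g => if hg : π g ∈ N then ec.symm ⟨π g, hg⟩ else 0
  have hp : ∀ k, ∀ hk : k ∈ K, p k = ec.symm ⟨π k, k, hk, rfl⟩ := fun k hk => dif_pos _
  have hker_iff : ∀ g, Φ' g = 1 ↔ ∀ w : N, cjN g w = w := fun g => by
    constructor
    · intro e w
      have := hac g (ec.symm w)
      rw [e, ac_one, ec.apply_symm_apply] at this
      exact (ec.symm.injective this).symm
    · intro e
      refine Units.ext (Matrix.ext_of_mulVec_single fun i => ?_)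
      have := hac g (Pi.single i 1)
      rw [e, ec.symm_apply_apply] at this
      rw [Units.val_one, Matrix.one_mulVec]
      exact this
  have hQker : Q ≤ Φ'.ker := fun q hq => (hker_iff q).2 fun w => Subtype.ext (by
    show π q * w * (π q)⁻¹ = w
    rw [hcen q hq w w.2, mul_inv_cancel_right])
  have hkerQ : Φ'.ker = Q := by
    refine le_antisymm (fun x hx => ?_) hQker
    by_contra hxQ
    have htop := h.top_of_mem Φ'.ker hQker hx hxQ
    have hfker : Φ' f = 1 := MonoidHom.mem_ker.1 (htop ▸ Subgroup.mem_top f)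
    refine hk0' ((QuotientGroup.eq_one_iff _).1 ((map_cm π f k0).trans (cm_eq_one.2 ?_)))
    exact mul_inv_eq_iff_eq_mul.1 (congrArg Subtype.val ((hker_iff f).1 hfker ⟨π k0, k0, hk0, rfl⟩))
  refine ⟨Φ', p, ⟨?_, hkerQ, h.two, h.rank⟩, ⟨hle, hK, fun x hx y hy => ?_, fun x hx => ?_, fun v => ?_, fun g x hx => ?_⟩⟩
  · rw [← MonoidHom.range_eq_top]
    refine Subgroup.eq_top_of_card_eq _ ?_
    rw [← Subgroup.index_ker, hkerQ, ← h.ker, Subgroup.index_ker, MonoidHom.range_eq_top.2 h.surj, Subgroup.card_top]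
  · rw [hp x hx, hp y hy, hp _ (mul_mem hx hy), ← hsymm]
    exact congrArg ec.symm (Subtype.ext (map_mul π x y))
  · rw [hp x hx]
    have h0 : ec 0 = 1 := by
      have := hec 0 0
      rw [add_zero] at this
      exact left_eq_mul.1 this
    rw [Equiv.symm_apply_eq, h0, Subtype.ext_iff]
    exact QuotientGroup.eq_one_iff x
  · obtain ⟨k, hk, hkv⟩ := (ec v).2
    refine ⟨k, hk, ?_⟩
    rw [hp k hk, Equiv.symm_apply_eq]
    exact Subtype.ext hkv
  · rw [hp x hx, hp _ (hK.conj_mem x hx g), hac, ec.apply_symm_apply]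
    exact congrArg ec.symm (Subtype.ext (by simp [cjN]))

/-- A generating set of three conjugates of a transvection. -/
theorem top_of_three (M : Subgroup G) (hQ : Q ≤ M)
    (hM : ∀ x ∈ ([ge, gp * ge * gp⁻¹, gp⁻¹ * ge * gp] : List GL32), ∃ m ∈ M, Φ m = x) : M = ⊤ := by
  have htop : M.map Φ = ⊤ := eq_top_of_three _ (hM _ (by simp)) (hM _ (by simp)) (hM _ (by simp))
  refine eq_top_iff.2 fun y _ => ?_
  obtain ⟨m, hm, hmy⟩ := (htop ▸ Subgroup.mem_top (Φ y) : Φ y ∈ M.map Φ)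
  have h1 : m⁻¹ * y ∈ M := hQ (by rw [h.mem, map_mul, map_inv, hmy, inv_mul_cancel])
  have := mul_mem hm h1
  rwa [mul_inv_cancel_left] at this

end Ctx

end Cfsg.Agent.L32Radical
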