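import Cfsg.Agent.Lib.L32Radical.Setup

/-!
An extension of a homocyclic `ℤ₄³` by `GL₃(2)`, acting naturally, has an elementary section of order 32.
-/

set_option autoImplicit false
set_option linter.unusedSectionVars false
set_option linter.style.haveILetI false

namespace Cfsg.Agent.L32Radical

variable {G : Type*} [Group G] [Finite G]

theorem n3_eq_of_add_eq_zero {v w : Nat3} (h : v + w = 0) : v = w := funext fun i => CharTwo.add_eq_zero.1 (congrFun h i)

theorem swap_mid {M : Type*} [Monoid M] {a b c d : M} (h : b * c = c * b) : a * b * (c * d) = a * c * (b * d) := by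
  rw [mul_assoc a b, ← mul_assoc b c, h, mul_assoc c b, ← mul_assoc a c]

theorem ac_ge_gu_add : ∀ w, ac ge (ac gu w + w) = ac gu w + w := by decide

theorem add_ac_ge1_eq_zero : ∀ m : Nat3, m + ac ge1 m = 0 → m 1 = 0 := by decide

theorem add_ac_ge : ∀ m : Nat3, m 2 = 1 → m + ac ge m = va := by decide

theorem n3_zero_or_a : ∀ v : Nat3, v 1 = 0 → v 2 = 0 → v = 0 ∨ v = va := by decide

theorem homocyclic_false (Φ : G →* GL32) (hsurj : Function.Surjective Φ) (K U : Subgroup G) (p : G → Nat3)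
    (hc : Coord Φ K U p) (hker : Φ.ker = K) (hcomm : ∀ x ∈ K, ∀ y ∈ K, x * y = y * x)
    (hU : ∀ x ∈ K, (x ∈ U ↔ x * x = 1)) (hroot : ∀ x ∈ U, ∃ k ∈ K, k * k = x)
    (hsr : Cfsg.SectionalPRankLE 2 4 G) : False := by
  classical
  haveI hKn := hc.norm
  let cj : G → G → G := fun g x => g * x * g⁻¹
  have cj_mul : ∀ g g' x, cj (g * g') x = cj g (cj g' x) := fun g g' x => by simp [cj, mul_assoc]
  have cj_map : ∀ g x y, cj g (x * y) = cj g x * cj g y := fun g x y => by simp [cj, mul_assoc]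
  have cjK : ∀ g x, x ∈ K → cj g x ∈ K := fun g x hx => hKn.conj_mem x hx g
  have hp : ∀ g, ∀ x ∈ K, p (cj g x) = ac (Φ g) (p x) := hc.equiv
  have hsame : ∀ g g', Φ g = Φ g' → ∀ x ∈ K, cj g x = cj g' x := fun g g' e x hx => by
    have hk : g'⁻¹ * g ∈ K := by rw [← hker, MonoidHom.mem_ker, map_mul, map_inv, e, inv_mul_cancel]
    rw [show g = g' * (g'⁻¹ * g) by rw [mul_inv_cancel_left], cj_mul]
    show cj g' (g'⁻¹ * g * x * (g'⁻¹ * g)⁻¹) = _
    rw [hcomm _ hk x hx, mul_inv_cancel_right]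
  have hfix1 : ∀ g, Φ g = 1 → ∀ x ∈ K, cj g x = x := fun g e x hx => by
    rw [hsame g 1 (by rw [e, map_one]) x hx]; simp [cj]
  -- squares
  choose sec hsecK hsecp using hc.onto
  let σ : Nat3 → G := fun v => sec v * sec v
  have hσU : ∀ v, σ v ∈ U := fun v => hc.sq (hsecK v)
  have hUK : ∀ x ∈ U, x ∈ K := fun x hx => hc.le hx
  have hσp : ∀ x ∈ K, x * x = σ (p x) := fun x hx => by
    have hw := hc.quot (hsecK (p x)) hx (hsecp _)
    have hw2 := (hU _ (hUK _ hw)).1 hw
    rw [show x = sec (p x) * ((sec (p x))⁻¹ * x) by rw [mul_inv_cancel_left]]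
    simp only [hc.add _ (hsecK _) _ (hUK _ hw), hsecp, (hc.zero _ (hUK _ hw)).2 hw, add_zero]
    rw [swap_mid (hcomm _ (hUK _ hw) _ (hsecK _)), hw2, mul_one]
  have hσadd : ∀ v w, σ (v + w) = σ v * σ w := fun v w => by
    have h1 := hσp _ (mul_mem (hsecK v) (hsecK w))
    rw [hc.add _ (hsecK v) _ (hsecK w), hsecp, hsecp, swap_mid (hcomm _ (hsecK w) _ (hsecK v))] at h1
    exact h1.symm
  have hσ0 : σ 0 = 1 := by
    rw [← hc.one, ← hσp 1 (one_mem K), one_mul]
  have hσcj : ∀ g v, cj g (σ v) = σ (ac (Φ g) v) := fun g v => by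
    show cj g (sec v * sec v) = _
    rw [cj_map, hσp _ (cjK g _ (hsecK v)), hp g _ (hsecK v), hsecp]
  have hσinj : ∀ v w, σ v = σ w → v = w := fun v w e => by
    have h1 : σ (v + w) = 1 := by
      rw [hσadd, e]; exact (hU _ (hUK _ (hσU w))).1 (hσU w)
    have h2 := (hU _ (hsecK (v + w))).2 h1
    rw [← hc.zero _ (hsecK _), hsecp] at h2
    exact n3_eq_of_add_eq_zero h2
  have hσon : ∀ x ∈ U, ∃ v, x = σ v := fun x hx => by
    obtain ⟨k, hk, rfl⟩ := hroot x hx
    exact ⟨p k, hσp k hk⟩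
  -- lifts
  obtain ⟨u, hu⟩ := hsurj gu
  obtain ⟨τ0, hτ0⟩ := hsurj gt
  obtain ⟨hgu2, hge2, hgu4, -⟩ := gu_facts
  obtain ⟨hgt3, hgt4, hgte, hgte1, -⟩ := gt_facts
  obtain ⟨hee1, hee1sq, he1sq, -, -⟩ := four_group
  set τ := τ0 * τ0 * (τ0 * τ0) with hτd
  have hτ : Φ τ = gt := by rw [hτd, map_mul, map_mul, hτ0, hgt4]
  have hτ3 : τ * τ * τ = 1 := by
    have hk : τ0 * τ0 * τ0 ∈ K := by rw [← hker, MonoidHom.mem_ker, map_mul, map_mul, hτ0, hgt3]
    have h4 := (hU _ (hUK _ (hc.sq hk))).1 (hc.sq hk)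
    rw [← h4, hτd]
    simp [mul_assoc]
  set e := u * u with hed
  have he : Φ e = ge := by rw [hed, map_mul, hu, hgu2]
  have hee : e * e ∈ K := by rw [← hker, MonoidHom.mem_ker, map_mul, he, hge2]
  have he2 : ∀ x ∈ K, cj e (cj e x) = x := fun x hx => by
    rw [← cj_mul]; exact hfix1 _ (by rw [map_mul, he, hge2]) x hx
  -- no fixed element over `b`
  have minus : ∀ g h, Φ g = h * ge * h⁻¹ → ∀ B ∈ K, cj g B = B → p B ≠ ac h vb := by
    have base : ∀ B ∈ K, cj e B = B → p B ≠ vb := fun B hB hfix hpB => by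
      set C := sec vc
      have hC := hsecK vc
      set k := cj u C * C⁻¹ * B⁻¹ with hkd
      have hkK : k ∈ K := mul_mem (mul_mem (cjK u C hC) (inv_mem hC)) (inv_mem hB)
      have hk0 : p k = 0 := by
        rw [hkd, hc.add _ (mul_mem (cjK u C hC) (inv_mem hC)) _ (inv_mem hB), hc.add _ (cjK u C hC) _ (inv_mem hC),
          hc.inv hC, hc.inv hB, hp u C hC, hu, hsecp, hpB]
        decide
      obtain ⟨w, hw⟩ := hσon k ((hc.zero k hkK).1 hk0)
      have huC : cj u C = k * B * C := by simp [hkd, mul_assoc]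
      set A' := cj u k * k * (cj u B * B) with hA'
      have huB := cjK u B hB
      have hA'K : A' ∈ K := mul_mem (mul_mem (cjK u k hkK) hkK) (mul_mem huB hB)
      have heC : cj e C = A' * C := by
        rw [hed, cj_mul, huC, cj_map, cj_map, huC, hA']
        calc cj u k * cj u B * (k * B * C) = cj u k * (cj u B * k) * B * C := by simp [mul_assoc]
          _ = cj u k * (k * cj u B) * B * C := by rw [hcomm _ huB k hkK]
          _ = _ := by simp [mul_assoc]
      have hA'fix : cj e A' = A' := by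
        rw [hA', cj_map, cj_map e (cj u B) B, hfix]
        congr 1
        · rw [hw, hσcj, hu, ← hσadd, hσcj, he]
          rw [ac_ge_gu_add]
        · congr 1
          rw [← cj_mul, show e * u = u * e by rw [hed, mul_assoc], cj_mul, hfix]
      have hA2 := he2 C hC
      rw [heC, cj_map, hA'fix, heC, ← mul_assoc] at hA2
      have h0 := (hc.zero A' hA'K).2 ((hU A' hA'K).2 (mul_eq_right.1 hA2))
      rw [hA', hc.add _ (mul_mem (cjK u k hkK) hkK) _ (mul_mem huB hB), hc.add _ (cjK u k hkK) _ hkK,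
        hc.add _ huB _ hB, hp u k hkK, hk0, hp u B hB, hpB, hu] at h0
      revert h0
      decide
    intro g h hg B hB hfix hpB
    obtain ⟨hl, hhl⟩ := hsurj h
    refine base (cj hl⁻¹ B) (cjK _ _ hB) ?_ (by rw [hp _ B hB, map_inv, hhl, hpB, ac_inv_ac])
    rw [hsame e (hl⁻¹ * g * hl) (by rw [he, map_mul, map_mul, map_inv, hhl, hg]; group) _ (cjK _ _ hB), ← cj_mul,
      show hl⁻¹ * g * hl * hl⁻¹ = hl⁻¹ * g by simp [mul_assoc], cj_mul, hfix]
  -- the line
  set P := Subgroup.zpowers (σ va) with hPd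
  have hP0a : ∀ v : Nat3, v = 0 ∨ v = va → σ v ∈ P := by
    rintro v (rfl | rfl)
    · rw [hσ0]; exact one_mem P
    · exact Subgroup.mem_zpowers _
  have hsmul : ∀ i : ZMod 2, σ (i • va) ∈ P := fun i => hP0a _ (by
    rcases (show i = 0 ∨ i = 1 by revert i; decide) with rfl | rfl
    · left; simp
    · right; simp)
  -- `ν`
  set C := sec vc with hCd
  have hC := hsecK vc
  set N := C * cj e C with hNd
  have hNK : N ∈ K := mul_mem hC (cjK e C hC)
  have hNp : p N = va := by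
    rw [hNd, hc.add _ hC _ (cjK e C hC), hp e C hC, he, hsecp]; decide
  have hNfix : cj e N = N := by
    rw [hNd, cj_map, he2 C hC, hcomm _ (cjK e C hC) C hC]
  -- an involutory lift modulo `P`
  obtain ⟨f1, hf1, hf1P⟩ : ∃ f1, Φ f1 = ge ∧ f1 * f1 ∈ P := by
    have hεfix : cj u (e * e) = e * e := by simp [cj, hed, mul_assoc]
    have hpε : p (e * e) = 0 ∨ p (e * e) = va := fix_gu _ (by rw [← hu, ← hp u _ hee, hεfix])
    rcases hpε with h0 | h0
    · obtain ⟨v, hv⟩ := hσon _ ((hc.zero _ hee).1 h0)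
      refine ⟨e, he, ?_⟩
      rw [hv]
      rw [hv, hσcj, hu] at hεfix
      exact hP0a v (fix_gu v (hσinj _ _ hεfix))
    · obtain ⟨v, hv⟩ := hσon _ (hc.quot hNK hee (by rw [hNp, h0]))
      have hεN : e * e = N * σ v := by rw [← hv, mul_inv_cancel_left]
      have hv2 : v 2 = 0 := by
        have h1 : cj e (e * e) = e * e := by simp [cj, mul_assoc]
        rw [hεN, cj_map, hNfix, hσcj, he, mul_right_inj] at h1
        have h2 := congrFun (hσinj _ _ h1) 0
        rw [ac_ge] at h2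
        simpa [va] using h2
      set f := τ * e * τ⁻¹ with hfd
      have hf : Φ f = ge1 := by rw [hfd, map_mul, map_mul, map_inv, hτ, he, hgte]
      have hminus : ∀ B ∈ K, cj f B = B → p B ≠ vc := fun B hB hfix => by
        have := minus f gt (by rw [hf, hgte]) B hB hfix
        rwa [values.2.2.2.2.2] at this
      obtain ⟨m, hm⟩ := hσon _ (hc.quot hC (cjK f C hC) (by rw [hp f C hC, hf, hsecp]; decide))
      have hfC : cj f C = C * σ m := by rw [← hm, mul_inv_cancel_left]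
      have hm1 : m 1 = 0 := by
        have h1 : cj f (cj f C) = C := by
          rw [← cj_mul]; exact hfix1 _ (by rw [map_mul, hf, he1sq]) C hC
        rw [hfC, cj_map, hσcj, hf, hfC, mul_assoc, ← hσadd, mul_eq_left, ← hσ0] at h1
        exact add_ac_ge1_eq_zero m (hσinj _ _ h1)
      have hm2 : m 2 = 1 := by
        by_contra hne
        have hm20 : m 2 = 0 := (show ∀ i : ZMod 2, i ≠ 1 → i = 0 by decide) _ hne
        rcases n3_zero_or_a m hm1 hm20 with rfl | rfl
        · exact hminus C hC (by rw [hfC, hσ0, mul_one]) (hsecp vc)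
        · refine hminus (C * σ vb) (mul_mem hC (hUK _ (hσU vb))) ?_ ?_
          · rw [cj_map, hfC, hσcj, hf, mul_assoc, ← hσadd]
            congr 2
            decide
          · rw [hc.add _ hC _ (hUK _ (hσU vb)), hsecp, (hc.zero _ (hUK _ (hσU vb))).2 (hσU vb), add_zero]
      have hfN : cj f N = N * σ va := by
        have hef : cj f (cj e C) = cj e (cj f C) := by
          rw [← cj_mul, ← cj_mul]
          exact hsame _ _ (by rw [Φ.map_mul f e, Φ.map_mul e f, he, hf, hee1]) C hC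
        rw [hNd, cj_map, hef, hfC, cj_map, hσcj, he]
        have hmm : m + ac ge m = va := add_ac_ge m hm2
        rw [swap_mid (hcomm _ (hUK _ (hσU m)) _ (cjK e C hC)), ← hσadd, hmm]
      have hv1 : v 1 = 0 := by
        by_contra hne
        have hv11 : v 1 = 1 := (show ∀ i : ZMod 2, i ≠ 0 → i = 1 by decide) _ hne
        have hfε : cj f (e * e) = e * e := by
          rw [hεN, cj_map, hfN, hσcj, hf, mul_assoc, ← hσadd, ac_ge1, hv11, one_smul, ← add_assoc,
            add_comm va v, add_assoc, show va + va = 0 by decide, add_zero]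
        refine minus (u * f) gsw (by rw [map_mul, hu, hf, ← gr_facts.1, gr_facts.2.1]) (e * e) hee ?_ ?_
        · rw [cj_mul, hfε, hεfix]
        · rw [h0, values.2.2.1]
      refine ⟨C⁻¹ * e, by rw [map_mul, map_inv, he, show Φ C = 1 from by
        rw [← MonoidHom.mem_ker, hker]; exact hC, inv_one, one_mul], ?_⟩
      have : C⁻¹ * e * (C⁻¹ * e) = σ v := by
        have h1 : C⁻¹ * e * (C⁻¹ * e) = C⁻¹ * cj e C⁻¹ * (e * e) := by simp [cj, mul_assoc]
        have h2 : cj e C⁻¹ = (cj e C)⁻¹ := by simp [cj, mul_assoc]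
        rw [h1, h2, ← mul_inv_rev, hcomm _ (cjK e C hC) C hC, ← hNd, hεN, inv_mul_cancel_left]
      rw [this]
      exact hP0a v (n3_zero_or_a v hv1 hv2)
  -- the elements over `0, a`
  let A : Subgroup G :=
    { carrier := {x | x ∈ K ∧ (p x = 0 ∨ p x = va)}
      one_mem' := ⟨one_mem K, Or.inl hc.one⟩
      mul_mem' := fun {x y} hx hy => ⟨mul_mem hx.1 hy.1, by
        rw [hc.add _ hx.1 _ hy.1]
        rcases hx.2 with h | h <;> rcases hy.2 with h' | h' <;> rw [h, h'] <;> decide⟩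
      inv_mem' := fun {x} hx => ⟨inv_mem hx.1, by rw [hc.inv hx.1]; exact hx.2⟩ }
  have hPA : P ≤ A := Subgroup.zpowers_le.2 ⟨hUK _ (hσU va), Or.inl ((hc.zero _ (hUK _ (hσU va))).2 (hσU va))⟩
  have hPK : ∀ x ∈ P, x ∈ K := fun x hx => (hPA hx).1
  have hAsq : ∀ x ∈ A, x * x ∈ P := fun x hx => by rw [hσp x hx.1]; exact hP0a _ hx.2
  have hPcj : ∀ g, ac (Φ g) va = va → ∀ c ∈ P, cj g c = c := fun g hg c hc' => by
    obtain ⟨i, rfl⟩ := Subgroup.mem_zpowers_iff.1 hc'
    have h1 : Commute g (σ va) := by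
      have := hσcj g va
      rw [hg] at this
      exact mul_inv_eq_iff_eq_mul.1 this
    show g * σ va ^ i * g⁻¹ = _
    rw [(h1.zpow_right i).eq, mul_inv_cancel_right]
  have key : ∀ g, Φ g = ge → ∀ q ∈ A, q * cj g q ∈ P := by
    intro g hg q hq
    rw [hsame g e (by rw [hg, he]) q hq.1]
    have hsmall : ∀ w, σ w * cj e (σ w) ∈ P := fun w => by
      rw [hσcj, he, ← hσadd, ac_ge, ← add_assoc, show w + w = 0 from funext fun i => CharTwo.add_self_eq_zero _, zero_add]
      exact hsmul _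
    rcases hq.2 with h | h
    · obtain ⟨w, rfl⟩ := hσon q ((hc.zero q hq.1).1 h)
      exact hsmall w
    · obtain ⟨w, hw⟩ := hσon _ (hc.quot hNK hq.1 (by rw [hNp, h]))
      rw [show q = N * σ w by rw [← hw, mul_inv_cancel_left], cj_map, hNfix,
        swap_mid (hcomm _ (hUK _ (hσU w)) _ hNK), hσp N hNK, hNp]
      exact mul_mem (hP0a _ (Or.inr rfl)) (hsmall w)
  have hAτ : ∀ g, ac (Φ g) va = va → ∀ q ∈ A, cj g q ∈ A := fun g hg q hq => ⟨cjK g q hq.1, by
    rw [hp g q hq.1]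
    rcases hq.2 with h | h <;> rw [h]
    · exact Or.inl (ac_zero _)
    · exact Or.inr hg⟩
  have hτa : ac (Φ τ) va = va := by rw [hτ]; exact values.2.1
  have hτia : ac (Φ τ⁻¹) va = va := by
    conv_lhs => rw [← hτa, map_inv, ac_inv_ac]
  have keyτ : ∀ x, (∀ g, Φ g = x → ∀ q ∈ A, q * cj g q ∈ P) →
      ∀ g, Φ g = gt * x * gt⁻¹ → ∀ q ∈ A, q * cj g q ∈ P := by
    intro x hx g hg q hq
    have h1 := hx (τ⁻¹ * g * τ) (by rw [map_mul, map_mul, map_inv, hτ, hg]; group) _ (hAτ τ⁻¹ hτia q hq)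
    have h2 := hPcj τ hτa _ h1
    rw [cj_map] at h2
    rw [← h2] at h1
    simpa [cj, mul_assoc] using h1
  have key1 : ∀ g, Φ g = ge1 → ∀ q ∈ A, q * cj g q ∈ P := fun g hg => keyτ ge key g (by rw [hg, hgte])
  have key2 : ∀ g, Φ g = ge * ge1 → ∀ q ∈ A, q * cj g q ∈ P := fun g hg => keyτ ge1 key1 g (by rw [hg, hgte1])
  set f2 := τ * f1 * τ⁻¹ with hf2d
  set f3 := τ * f2 * τ⁻¹ with hf3d
  have hf2 : Φ f2 = ge1 := by rw [hf2d, map_mul, map_mul, map_inv, hτ, hf1, hgte]
  have hf3 : Φ f3 = ge * ge1 := by rw [hf3d, map_mul, map_mul, map_inv, hτ, hf2, hgte1]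
  have hconj : ∀ x : G, τ * x * τ⁻¹ * (τ * x * τ⁻¹) = cj τ (x * x) := fun x => by simp [cj, mul_assoc]
  have hf2P : f2 * f2 ∈ P := by rw [hf2d, hconj, hPcj τ hτa _ hf1P]; exact hf1P
  have hf3P : f3 * f3 ∈ P := by rw [hf3d, hconj, hPcj τ hτa _ hf2P]; exact hf2P
  set z := f1 * f2 * f3 with hzd
  have hzK : z ∈ K := by rw [← hker, MonoidHom.mem_ker, hzd, map_mul, map_mul, hf1, hf2, hf3, hee1sq]
  have hz3 : z = f1 * τ * (f1 * τ) * (f1 * τ) := by
    rw [hzd, hf3d, hf2d]
    calc f1 * (τ * f1 * τ⁻¹) * (τ * (τ * f1 * τ⁻¹) * τ⁻¹)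
        = f1 * (τ * f1 * τ⁻¹) * (τ * (τ * f1 * τ⁻¹) * τ⁻¹) * (τ * τ * τ) := by rw [hτ3, mul_one]
      _ = _ := by simp [mul_assoc]
  have hzfix : cj (f1 * τ) z = z := by rw [hz3]; simp [cj, mul_assoc]
  have hzA : z ∈ A := ⟨hzK, fix_get _ (by rw [← hf1, ← hτ, ← map_mul, ← hp _ z hzK, hzfix])⟩
  have h12 : f1 * f2 * (f1 * f2) ∈ P := by
    have e1 : f1 * f2 = z * f3⁻¹ := by rw [hzd, mul_inv_cancel_right]
    have hΦ : Φ f3⁻¹ = ge * ge1 := by rw [map_inv, hf3, inv_eq_of_mul_eq_one_right hee1sq]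
    have h1 := mul_mem (key2 f3⁻¹ hΦ z hzA) (inv_mem hf3P)
    rw [e1]
    simpa [cj, mul_assoc] using h1
  -- the section
  let S : Set G := {x | x ∈ A ∨ x = f1 ∨ x = f2}
  have hAS : A ≤ Subgroup.closure S := fun x hx => Subgroup.subset_closure (Or.inl hx)
  have hf1S : f1 ∈ Subgroup.closure S := Subgroup.subset_closure (Or.inr (Or.inl rfl))
  have hf2S : f2 ∈ Subgroup.closure S := Subgroup.subset_closure (Or.inr (Or.inr rfl))
  have hfa : ac (Φ f1) va = va ∧ ac (Φ f2) va = va := by rw [hf1, hf2]; decide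
  have hkeyS : ∀ x, (x = f1 ∨ x = f2) → x * x ∈ P ∧ ac (Φ x) va = va ∧ ∀ q ∈ A, q * cj x q ∈ P := by
    rintro x (rfl | rfl)
    · exact ⟨hf1P, hfa.1, key _ hf1⟩
    · exact ⟨hf2P, hfa.2, key1 _ hf2⟩
  have hpair : ∀ x ∈ S, ∀ y ∈ S, x * y * (x * y) ∈ P := by
    intro x hx y hy
    rcases hx with hx | hx <;> rcases hy with hy | hy
    · exact hAsq _ (mul_mem hx hy)
    · obtain ⟨h1, -, h3⟩ := hkeyS y hy
      have := mul_mem (h3 x hx) h1
      simpa [cj, mul_assoc] using this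
    · obtain ⟨h1, -, h3⟩ := hkeyS x hx
      have hcK := cjK x y hy.1
      have := mul_mem (h3 y hy) h1
      rw [show x * y * (x * y) = cj x y * ((x * x) * y) by simp [cj, mul_assoc], hcomm _ (hPK _ h1) y hy.1,
        ← mul_assoc, hcomm _ hcK y hy.1]
      exact this
    · rcases hx with hx | hx <;> rcases hy with hy | hy <;> rw [hx, hy]
      · exact mul_mem hf1P hf1P
      · exact h12
      · have := hPcj f1⁻¹ (by rw [map_inv, hf1]; decide) _ h12
        rw [show cj f1⁻¹ (f1 * f2 * (f1 * f2)) = f2 * f1 * (f2 * f1) by simp [cj, mul_assoc]] at this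
        rw [this]; exact h12
      · exact mul_mem hf2P hf2P
  have hle := section_le hsr P S (hPA.trans hAS) (fun x hx c hc' => by
      rcases hx with hx | hx
      · exact hcomm x hx.1 c (hPK c hc')
      · exact mul_inv_eq_iff_eq_mul.1 (hPcj x (hkeyS x hx).2.1 c hc'))
    (fun x hx => by
      rcases hx with hx | hx
      · exact hAsq x hx
      · exact (hkeyS x hx).1) hpair
  have hP2 : Nat.card P ≤ 2 := by
    rw [hPd, Nat.card_zpowers]
    exact orderOf_le_of_pow_eq_one two_pos (by rw [pow_two]; exact (hU _ (hUK _ (hσU va))).1 (hσU va))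
  have hU8 : Nat.card U = 8 := by
    rw [← Nat.card_eq_of_bijective (fun v : Nat3 => (⟨σ v, hσU v⟩ : U))
      ⟨fun v w e => hσinj v w (congrArg Subtype.val e), fun ⟨x, hx⟩ => by
        obtain ⟨v, rfl⟩ := hσon x hx; exact ⟨v, rfl⟩⟩, Nat.card_eq_fintype_card]
    rfl
  have hA16 : 16 ≤ Nat.card A := by
    have hNA : N ∈ A := ⟨hNK, Or.inr hNp⟩
    have hUA : ∀ x ∈ U, x ∈ A := fun x hx => ⟨hUK x hx, Or.inl ((hc.zero x (hUK x hx)).2 hx)⟩
    have h := Nat.card_le_card_of_injective (fun q : Bool × U =>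
      (⟨(if q.1 then N else 1) * q.2.1, mul_mem (by split_ifs; exacts [hNA, one_mem A]) (hUA _ q.2.2)⟩ : A)) ?_
    · rw [Nat.card_prod, hU8, Nat.card_eq_fintype_card, Fintype.card_bool] at h
      exact h
    · rintro ⟨a, x⟩ ⟨b, y⟩ h
      have h' : (if a then N else 1) * x.1 = (if b then N else 1) * y.1 := congrArg Subtype.val h
      have hpa : ∀ a : Bool, ∀ x : U, p ((if a then N else 1) * x.1) = if a then va else 0 := fun a x => by
        rw [hc.add _ (by split_ifs; exacts [hNK, one_mem K]) _ (hUK _ x.2), (hc.zero _ (hUK _ x.2)).2 x.2, add_zero]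
        split_ifs
        exacts [hNp, hc.one]
      have hab := congrArg p h'
      rw [hpa, hpa] at hab
      have : a = b := by revert hab; cases a <;> cases b <;> decide
      subst this
      exact Prod.ext rfl (Subtype.ext (mul_left_cancel h'))
  let r : Fin 4 → G := ![1, f1, f2, f1 * f2]
  have hr : ∀ i, r i ∈ Subgroup.closure S := by
    intro i; fin_cases i
    exacts [one_mem _, hf1S, hf2S, mul_mem hf1S hf2S]
  have hrinj : Function.Injective (Φ ∘ r) := by
    have hlist : Φ ∘ r = ![1, ge, ge1, ge * ge1] := by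
      funext i; fin_cases i <;> simp [r, hf1, hf2]
    rw [hlist]
    decide
  have h64 : 64 ≤ Nat.card (Subgroup.closure S) := by
    have h := Nat.card_le_card_of_injective (fun q : Fin 4 × A =>
      (⟨r q.1 * q.2.1, mul_mem (hr q.1) (hAS q.2.2)⟩ : Subgroup.closure S)) ?_
    · rw [Nat.card_prod, Nat.card_fin] at h
      omega
    · rintro ⟨i, x⟩ ⟨j, y⟩ h
      have h' : r i * x.1 = r j * y.1 := congrArg Subtype.val h
      have hx : ∀ x : A, Φ x.1 = 1 := fun x => by rw [← MonoidHom.mem_ker, hker]; exact x.2.1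
      have : i = j := hrinj (by simpa [hx] using congrArg Φ h')
      subst this
      exact Prod.ext rfl (Subtype.ext (mul_left_cancel h'))
  omega

end Cfsg.Agent.L32Radical
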