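import Cfsg.Agent.Lib.L32Radical.Frame
import Cfsg.Agent.Lib.L32Radical.Homocyclic

/-!
A layer `U` below `Q` of elementary type: commutator calculus, and commutativity on a natural top.
-/

set_option autoImplicit false
set_option linter.unusedSectionVars false
set_option linter.style.haveILetI false

namespace Cfsg.Agent.L32Radical

open A5Radical (cm map_cm cm_eq_one cm_inv cm_mul_left sq_mul' Cfix mem_Cfix)

variable {G : Type*} [Group G]

/-- A layer. -/
structure Layer (Q U : Subgroup G) (Φ : G →* GL32) (f : G) : Prop where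
  ctx : Ctx Q Φ
  un : U.Normal
  le : U ≤ Q
  exp : ∀ u ∈ U, u * u = 1
  cen : ∀ u ∈ U, ∀ q ∈ Q, q * u = u * q
  sq : ∀ q ∈ Q, q * q ∈ U
  gen : ∀ M : Subgroup G, (∀ q ∈ Q, q * q ∈ M) → U ≤ M
  f7 : f ^ 7 ∈ Q
  fQ : f ∉ Q
  top : ∃ q ∈ Q, cm f q ∉ U
  low : ∃ u ∈ U, f * u ≠ u * f

namespace Layer

variable {Q U : Subgroup G} {Φ : G →* GL32} {f : G} (L : Layer Q U Φ f)
include L

theorem qn : Q.Normal := L.ctx.normal

theorem reframe {Φ' : G →* GL32} (h : Ctx Q Φ') : Layer Q U Φ' f := { L with ctx := h }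

theorem cm_mem {a b : G} (ha : a ∈ Q) (hb : b ∈ Q) : cm a b ∈ U := by
  rw [A5Radical.cm_eq_squares]
  exact mul_mem (mul_mem (L.sq _ (inv_mem ha)) (L.sq _ (mul_mem ha (inv_mem hb)))) (L.sq _ hb)

theorem cm_symm {a b : G} (ha : a ∈ Q) (hb : b ∈ Q) : cm a b = cm b a := by
  rw [← cm_inv a b]
  exact (inv_eq_of_mul_eq_one_right (L.exp _ (L.cm_mem ha hb))).symm

theorem cm_left {a b c : G} (ha : a ∈ Q) (hb : b ∈ Q) (hc : c ∈ Q) : cm (a * b) c = cm a c * cm b c := by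
  rw [cm_mul_left, mul_assoc b⁻¹, ← L.cen _ (L.cm_mem ha hc) b hb, inv_mul_cancel_left]

theorem cm_right {a b c : G} (ha : a ∈ Q) (hb : b ∈ Q) (hc : c ∈ Q) : cm a (b * c) = cm a b * cm a c := by
  rw [L.cm_symm ha (mul_mem hb hc), L.cm_left hb hc ha, L.cm_symm hb ha, L.cm_symm hc ha]

theorem cm_self (a : G) : cm a a = 1 := cm_eq_one.2 rfl

theorem cm_cen {a w : G} (hw : ∀ q ∈ Q, q * w = w * q) (ha : a ∈ Q) : cm a w = 1 ∧ cm w a = 1 :=
  ⟨cm_eq_one.2 (hw a ha), cm_eq_one.2 (hw a ha).symm⟩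

theorem cm_U_left {a b u : G} (ha : a ∈ Q) (hb : b ∈ Q) (hu : u ∈ U) : cm (a * u) b = cm a b := by
  rw [L.cm_left ha (L.le hu) hb, (L.cm_cen (L.cen u hu) hb).2, mul_one]

theorem sq_mul {a b : G} (ha : a ∈ Q) (hb : b ∈ Q) : a * b * (a * b) = a * a * (b * b) * cm a b := by
  rw [sq_mul', L.cm_symm hb ha, mul_assoc b, ← L.cen _ (L.cm_mem ha hb) b hb]
  simp [mul_assoc]

theorem sq_U {a u : G} (ha : a ∈ Q) (hu : u ∈ U) : a * u * (a * u) = a * a := by
  rw [L.sq_mul ha (L.le hu), L.exp u hu, mul_one, (L.cm_cen (L.cen u hu) ha).1, mul_one]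

theorem conj_cm (g a b : G) : g * cm a b * g⁻¹ = cm (g * a * g⁻¹) (g * b * g⁻¹) :=
  map_cm (MulAut.conj g).toMonoidHom a b

theorem f7_cen : ∀ u ∈ U, f ^ 7 * u = u * f ^ 7 := fun u hu => L.cen u hu _ L.f7

variable [Finite G]

/-- `f` on `U` of order eight. -/
theorem lower (hU : Nat.card U = 8) :
    ∃ w ∈ U, (∀ x y, cb f w x = cb f w y → x = y) ∧ CbRel f w ∧ ∀ u ∈ U, f * u = u * f → u = 1 := by
  haveI := L.un
  obtain ⟨w, hw, hinj, -, hrel, hcase⟩ := normal_seven U L.exp (by omega) f L.f7_cen L.low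
  obtain ⟨-, -, hfree⟩ := hcase.resolve_right (fun h => by omega)
  exact ⟨w, hw, hinj, hrel, hfree⟩

/-- No proper non-trivial normal subgroup below a `U` of order eight. -/
theorem irreducible (hU : Nat.card U = 8) (W : Subgroup G) [W.Normal] (hWU : W ≤ U) (hW : W ≠ ⊥) : W = U := by
  obtain ⟨-, -, -, -, hfree⟩ := L.lower hU
  obtain ⟨⟨w, hw⟩, hw1⟩ := Subgroup.ne_bot_iff_exists_ne_one.1 hW
  obtain ⟨_, -, -, -, -, hcase⟩ := normal_seven W (fun v hv => L.exp v (hWU hv))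
    ((Subgroup.card_le_of_le hWU).trans (by omega)) f (fun v hv => L.f7_cen v (hWU hv))
    ⟨w, hw, fun e => hw1 (Subtype.ext (hfree w (hWU hw) e))⟩
  refine Subgroup.eq_of_le_of_card_ge hWU ?_
  rcases hcase with ⟨h8, -⟩ | ⟨h16, -⟩ <;> omega

/-- The top section. -/
theorem upper [U.Normal] : ∃ v ∈ Q,
    (∀ x y, (cb f v x)⁻¹ * cb f v y ∈ U → x = y) ∧ CbRel (QuotientGroup.mk' U f) (QuotientGroup.mk' U v) ∧
      (∀ x y, (cb f v (x + y))⁻¹ * (cb f v x * cb f v y) ∈ U) ∧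
      ((Nat.card (Q.map (QuotientGroup.mk' U)) = 8 ∧ ∀ q ∈ Q, ∃ x, (cb f v x)⁻¹ * q ∈ U) ∨
        (Nat.card (Q.map (QuotientGroup.mk' U)) = 16 ∧ ∃ z ∈ Q, cm f z ∈ U ∧ z ∉ U ∧
          (∀ q ∈ Q, cm f q ∈ U → q ∈ U ∨ z⁻¹ * q ∈ U) ∧
          ∀ q ∈ Q, ∃ x, (cb f v x)⁻¹ * q ∈ U ∨ (z * cb f v x)⁻¹ * q ∈ U)) := by
  haveI := L.qn
  set π := QuotientGroup.mk' U with hπ
  haveI : (Q.map π).Normal := Subgroup.Normal.map inferInstance _ (QuotientGroup.mk'_surjective U)
  have hexp : ∀ v ∈ Q.map π, v * v = 1 := by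
    rintro _ ⟨k, hk, rfl⟩
    rw [← map_mul]
    exact (QuotientGroup.eq_one_iff _).2 (L.sq k hk)
  have hcomm : ∀ a b, a ∈ Q → b ∈ Q → π a * π b = π b * π a := fun a b ha hb =>
    A5Radical.comm_of_exp hexp ⟨a, ha, rfl⟩ ⟨b, hb, rfl⟩
  obtain ⟨q0, hq0, hq0'⟩ := L.top
  have hcmU : ∀ {q : G}, cm f q ∈ U ↔ π f * π q = π q * π f := fun {q} => by
    rw [← cm_eq_one, ← map_cm]; exact (QuotientGroup.eq_one_iff _).symm
  obtain ⟨_, ⟨v, hv, rfl⟩, hinj, hadd, hrel, hcase⟩ := normal_seven (Q.map π) hexp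
    (A5Radical.card_le_sixteen (A5Radical.sectional_map π (QuotientGroup.mk'_surjective U) L.ctx.rank) _ hexp) (π f)
    (by rintro _ ⟨k, hk, rfl⟩; rw [← map_pow]; exact hcomm _ _ L.f7 hk)
    ⟨π q0, ⟨q0, hq0, rfl⟩, fun e => hq0' (hcmU.2 e)⟩
  have heq : ∀ {a b : G}, π a = π b ↔ a⁻¹ * b ∈ U := fun {a b} => QuotientGroup.eq
  refine ⟨v, hv, fun x y e => hinj x y (by rw [← map_cb, ← map_cb]; exact heq.2 e), hrel,
    fun x y => heq.1 (by rw [map_mul, map_cb, map_cb, map_cb]; exact hadd x y), ?_⟩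
  rcases hcase with ⟨h8, honto, -⟩ | ⟨h16, _, ⟨z, hz, rfl⟩, hzf, hz1, hzu, hcov⟩
  · refine Or.inl ⟨h8, fun q hq => (honto (π q) ⟨q, hq, rfl⟩).imp fun x hx => heq.1 ?_⟩
    rw [map_cb, hx]
  · refine Or.inr ⟨h16, z, hz, hcmU.2 hzf, fun e => hz1 ((QuotientGroup.eq_one_iff z).2 e), fun q hq e => ?_,
      fun q hq => (hcov (π q) ⟨q, hq, rfl⟩).imp fun x hx => hx.imp (fun e => heq.1 ?_) fun e => heq.1 ?_⟩
    · exact (hzu _ ⟨q, hq, rfl⟩ (hcmU.1 e)).imp (QuotientGroup.eq_one_iff q).1 fun e' => heq.1 e'.symm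
    · rw [map_cb, e]
    · rw [map_mul, map_cb, e]

/-- On a natural top the group `Q` is abelian. -/
theorem natural_comm (hU : Nat.card U = 8) {Φ' : G →* GL32} (hctx : Ctx Q Φ') (U1 : Subgroup G) (p : G → Nat3)
    (hc : Coord Φ' Q U1 p) (hU1c : ∀ w ∈ U1, ∀ q ∈ Q, q * w = w * q) (hU1e : ∀ w ∈ U1, w * w = 1) :
    ∀ a ∈ Q, ∀ b ∈ Q, a * b = b * a := by
  classical
  haveI := L.qn
  haveI := L.un
  obtain ⟨A, hA, hAp⟩ := hc.onto va
  obtain ⟨B, hB, hBp⟩ := hc.onto vb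
  obtain ⟨C, hC, hCp⟩ := hc.onto vc
  -- values depend on coordinates only
  have hcp : ∀ a ∈ Q, ∀ a' ∈ Q, ∀ b ∈ Q, p a = p a' → cm a b = cm a' b := fun a ha a' ha' b hb e => by
    have hw := hc.quot ha ha' e
    rw [show a' = a * (a⁻¹ * a') by rw [mul_inv_cancel_left], L.cm_left ha (hc.le hw) hb,
      (L.cm_cen (hU1c _ hw) hb).2, mul_one]
  have hcp2 : ∀ a ∈ Q, ∀ a' ∈ Q, ∀ b ∈ Q, ∀ b' ∈ Q, p a = p a' → p b = p b' → cm a b = cm a' b' :=
    fun a ha a' ha' b hb b' hb' e e' => by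
      rw [hcp a ha a' ha' b hb e, L.cm_symm ha' hb, hcp b hb b' hb' a' ha' e', L.cm_symm hb' ha']
  have hsp : ∀ a ∈ Q, ∀ a' ∈ Q, p a = p a' → a * a = a' * a' := fun a ha a' ha' e => by
    have hw := hc.quot ha ha' e
    rw [show a' = a * (a⁻¹ * a') by rw [mul_inv_cancel_left], L.sq_mul ha (hc.le hw), hU1e _ hw, mul_one,
      (L.cm_cen (hU1c _ hw) ha).1, mul_one]
  -- `Q` is generated by three elements and `U1`
  let S : Set G := {A, B, C} ∪ (U1 : Set G)
  have hQS : ∀ q ∈ Q, q ∈ Subgroup.closure S := fun q hq => by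
    set r := A ^ (p q 0).val * B ^ (p q 1).val * C ^ (p q 2).val with hr
    have hrQ : r ∈ Q := mul_mem (mul_mem (pow_mem hA _) (pow_mem hB _)) (pow_mem hC _)
    have hrp : p r = p q := by
      have hpow : ∀ x ∈ Q, ∀ i : ZMod 2, p (x ^ i.val) = i • p x := fun x hx i => by
        rcases (show i = 0 ∨ i = 1 by revert i; decide) with rfl | rfl
        · simp [hc.one]
        · simp [ZMod.val_one]
      rw [hr, hc.add _ (mul_mem (pow_mem hA _) (pow_mem hB _)) _ (pow_mem hC _),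
        hc.add _ (pow_mem hA _) _ (pow_mem hB _), hpow A hA, hpow B hB, hpow C hC, hAp, hBp, hCp]
      funext i; fin_cases i <;> simp [va, vb, vc]
    have h1 := mul_mem (show r ∈ Subgroup.closure S from
      mul_mem (mul_mem (pow_mem (Subgroup.subset_closure (show A ∈ S from Or.inl (by simp))) _)
        (pow_mem (Subgroup.subset_closure (show B ∈ S from Or.inl (by simp))) _))
        (pow_mem (Subgroup.subset_closure (show C ∈ S from Or.inl (by simp))) _))
      (Subgroup.subset_closure (Or.inr (hc.quot hrQ hq hrp) : r⁻¹ * q ∈ S))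
    rwa [mul_inv_cancel_left] at h1
  let W := Subgroup.closure {x | ∃ a ∈ Q, ∃ b ∈ Q, x = cm a b}
  by_cases hW : W = ⊥
  · exact fun a ha b hb => cm_eq_one.1 ((Subgroup.eq_bot_iff_forall W).1 hW _
      (Subgroup.subset_closure ⟨a, ha, b, hb, rfl⟩))
  exfalso
  haveI : W.Normal := ⟨fun x hx g => by
    induction hx using Subgroup.closure_induction with
    | mem x hx =>
      obtain ⟨a, ha, b, hb, rfl⟩ := hx
      rw [L.conj_cm]
      exact Subgroup.subset_closure ⟨_, L.qn.conj_mem a ha g, _, L.qn.conj_mem b hb g, rfl⟩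
    | one => simp
    | mul x y _ _ hx hy => rw [show g * (x * y) * g⁻¹ = g * x * g⁻¹ * (g * y * g⁻¹) by simp [mul_assoc]]; exact mul_mem hx hy
    | inv x _ hx => rw [show g * x⁻¹ * g⁻¹ = (g * x * g⁻¹)⁻¹ by simp [mul_assoc]]; exact inv_mem hx⟩
  have hWU : W ≤ U := (Subgroup.closure_le _).2 (by rintro x ⟨a, ha, b, hb, rfl⟩; exact L.cm_mem ha hb)
  have hWeq := L.irreducible hU W hWU hW
  set X := cm A B with hX
  set Y := cm A C with hY
  set Z := cm B C with hZ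
  let T := Subgroup.closure ({X, Y, Z} : Set G)
  have hXT : X ∈ T ∧ Y ∈ T ∧ Z ∈ T := ⟨Subgroup.subset_closure (by simp), Subgroup.subset_closure (by simp),
    Subgroup.subset_closure (by simp)⟩
  have hSQ : ∀ s ∈ S, s ∈ Q := by
    rintro s (hs | hs)
    · rcases hs with rfl | rfl | rfl <;> assumption
    · exact hc.le hs
  have hclQ : ∀ x ∈ Subgroup.closure S, x ∈ Q := fun x hx => (Subgroup.closure_le Q).2 hSQ hx
  have hss : ∀ a ∈ S, ∀ b ∈ S, cm a b ∈ T := by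
    intro a ha b hb
    rcases ha with ha | ha
    · rcases hb with hb | hb
      · rcases ha with rfl | rfl | rfl <;> rcases hb with rfl | rfl | rfl
        exacts [by rw [L.cm_self]; exact one_mem T, hXT.1, hXT.2.1, by rw [L.cm_symm hB hA]; exact hXT.1,
          by rw [L.cm_self]; exact one_mem T, hXT.2.2, by rw [L.cm_symm hC hA]; exact hXT.2.1,
          by rw [L.cm_symm hC hB]; exact hXT.2.2, by rw [L.cm_self]; exact one_mem T]
      · rw [(L.cm_cen (hU1c b hb) (hSQ a (Or.inl ha))).1]; exact one_mem T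
    · rw [(L.cm_cen (hU1c a ha) (hSQ b hb)).2]; exact one_mem T
  have hleft : ∀ b ∈ S, ∀ a ∈ Subgroup.closure S, cm a b ∈ T := fun b hb a ha => by
    induction ha using Subgroup.closure_induction with
    | mem a ha => exact hss a ha b hb
    | one => rw [show cm (1 : G) b = 1 from cm_eq_one.2 (by simp)]; exact one_mem T
    | mul x y hx hy ihx ihy => rw [L.cm_left (hclQ x hx) (hclQ y hy) (hSQ b hb)]; exact mul_mem ihx ihy
    | inv x hx ihx =>
      have h1 := L.cm_left (hclQ x hx) (inv_mem (hclQ x hx)) (hSQ b hb)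
      rw [mul_inv_cancel, show cm (1 : G) b = 1 from cm_eq_one.2 (by simp)] at h1
      rw [eq_inv_of_mul_eq_one_right h1.symm]
      exact inv_mem ihx
  have hall : ∀ a ∈ Subgroup.closure S, ∀ b ∈ Subgroup.closure S, cm a b ∈ T := fun a ha b hb => by
    induction hb using Subgroup.closure_induction with
    | mem b hb => exact hleft b hb a ha
    | one => rw [show cm a (1 : G) = 1 from cm_eq_one.2 (by simp)]; exact one_mem T
    | mul x y hx hy ihx ihy => rw [L.cm_right (hclQ a ha) (hclQ x hx) (hclQ y hy)]; exact mul_mem ihx ihy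
    | inv x hx ihx =>
      have h1 := L.cm_right (hclQ a ha) (hclQ x hx) (inv_mem (hclQ x hx))
      rw [mul_inv_cancel, show cm a (1 : G) = 1 from cm_eq_one.2 (by simp)] at h1
      rw [eq_inv_of_mul_eq_one_right h1.symm]
      exact inv_mem ihx
  have hUT : U ≤ T := hWeq ▸ (Subgroup.closure_le T).2 (by
    rintro x ⟨a, ha, b, hb, rfl⟩
    exact hall a (hQS a ha) b (hQS b hb))
  letI : CommGroup U :=
    { (inferInstance : Group U) with mul_comm := fun a b => Subtype.ext (A5Radical.comm_of_exp L.exp a.2 b.2) }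
  have hUe : ∀ u : U, u * u = 1 := fun u => Subtype.ext (L.exp u u.2)
  let X' : U := ⟨X, L.cm_mem hA hB⟩
  let Y' : U := ⟨Y, L.cm_mem hA hC⟩
  let Z' : U := ⟨Z, L.cm_mem hB hC⟩
  let c3 : Nat3 → U := fun t => X' ^ (t 0).val * Y' ^ (t 1).val * Z' ^ (t 2).val
  have hpow : ∀ (w : U) (a b : ZMod 2), w ^ (a + b).val = w ^ a.val * w ^ b.val := fun w a b => by
    rw [← pow_add, ZMod.val_add, ← pow_eq_pow_mod _ (by rw [pow_two]; exact hUe w)]
  have hc3 : ∀ s t, c3 (s + t) = c3 s * c3 t := fun s t => by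
    simp only [c3, Pi.add_apply, hpow]
    simp [mul_assoc, mul_left_comm, mul_comm]
  have honto : Function.Surjective c3 := by
    rintro ⟨u, hu⟩
    have hu' := hUT hu
    suffices ∃ t, (c3 t : G) = u from this.imp fun t ht => Subtype.ext ht
    induction hu' using Subgroup.closure_induction with
    | mem x hx =>
      rcases hx with rfl | rfl | rfl
      · exact ⟨va, by simp [c3, va, ZMod.val_one, X']⟩
      · exact ⟨vb, by simp [c3, vb, ZMod.val_one, Y']⟩
      · exact ⟨vc, by simp [c3, vc, ZMod.val_one, Z']⟩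
    | one => exact ⟨0, by simp [c3]⟩
    | mul x y hx hy ihx ihy =>
      have hm : ∀ w ∈ T, w ∈ U := fun w hw => (Subgroup.closure_le U).2 (by
        rintro w (rfl | rfl | rfl)
        exacts [X'.2, Y'.2, Z'.2]) hw
      obtain ⟨s, hs⟩ := ihx (hm x hx)
      obtain ⟨t, ht⟩ := ihy (hm y hy)
      exact ⟨s + t, by rw [hc3, Subgroup.coe_mul, hs, ht]⟩
    | inv x hx ihx =>
      have hxU : x ∈ U := (Subgroup.closure_le U).2 (by
        rintro w (rfl | rfl | rfl)
        exacts [X'.2, Y'.2, Z'.2]) hx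
      obtain ⟨s, hs⟩ := ihx hxU
      exact ⟨s, by rw [hs, inv_eq_of_mul_eq_one_right (L.exp x hxU)]⟩
  have hinj : Function.Injective c3 := ((Nat.bijective_iff_surjective_and_card c3).2 ⟨honto, by
    rw [hU, Nat.card_eq_fintype_card]; rfl⟩).1
  obtain ⟨t, ht⟩ := honto ⟨A * A, L.sq A hA⟩
  -- the action of lifts
  have hgen : ∀ g : G, ∀ T' : Nat3 → Nat3, (∀ s t, T' (s + t) = T' s + T' t) →
      g * X * g⁻¹ = c3 (T' va) → g * Y * g⁻¹ = c3 (T' vb) → g * Z * g⁻¹ = c3 (T' vc) →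
      ac (Φ' g) va = va → T' t = t := by
    intro g T' hT hgX hgY hgZ hga
    have hcj : ∀ s, g * (c3 s : G) * g⁻¹ = c3 (T' s) := by
      intro s
      have hs : s = (s 0) • va + (s 1) • vb + (s 2) • vc := by funext i; fin_cases i <;> simp [va, vb, vc]
      have hT0 : T' 0 = 0 := by
        have := hT 0 0
        rw [add_zero] at this
        exact left_eq_add.mp this
      have hsm : ∀ (i : ZMod 2) (v : Nat3) (w : U), g * (w : G) * g⁻¹ = c3 (T' v) →
          g * ((w ^ i.val : U) : G) * g⁻¹ = c3 (T' (i • v)) := fun i v w hw => by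
        rcases (show i = 0 ∨ i = 1 by revert i; decide) with rfl | rfl
        · simp [hT0, c3]
        · simpa [ZMod.val_one] using hw
      conv_rhs => rw [hs]
      rw [hT, hT, hc3, hc3]
      show g * ((X' ^ (s 0).val * Y' ^ (s 1).val * Z' ^ (s 2).val : U) : G) * g⁻¹ = _
      simp only [Subgroup.coe_mul]
      rw [← hsm (s 0) va X' hgX, ← hsm (s 1) vb Y' hgY, ← hsm (s 2) vc Z' hgZ]
      simp [mul_assoc]
    refine hinj (Subtype.ext ?_)
    rw [← hcj, ht]
    show g * (A * A) * g⁻¹ = A * A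
    rw [show g * (A * A) * g⁻¹ = g * A * g⁻¹ * (g * A * g⁻¹) by simp [mul_assoc]]
    exact hsp _ (L.qn.conj_mem A hA g) A hA (by rw [hc.equiv g A hA, hAp, hga])
  have himg : ∀ (g : G) (x x' : G), x ∈ Q → x' ∈ Q → ∀ y y', y ∈ Q → y' ∈ Q →
      ac (Φ' g) (p x) = p x' → ac (Φ' g) (p y) = p y' → g * cm x y * g⁻¹ = cm x' y' :=
    fun g x x' hx hx' y y' hy hy' e e' => by
      rw [L.conj_cm]
      exact hcp2 _ (L.qn.conj_mem x hx g) x' hx' _ (L.qn.conj_mem y hy g) y' hy'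
        (by rw [hc.equiv g x hx, e]) (by rw [hc.equiv g y hy, e'])
  have hAB : p (A * B) = va + vb := by rw [hc.add _ hA _ hB, hAp, hBp]
  have hBC : p (B * C) = vb + vc := by rw [hc.add _ hB _ hC, hBp, hCp]
  obtain ⟨g1, hg1⟩ := hctx.surj gbc
  obtain ⟨g2, hg2⟩ := hctx.surj ge1
  obtain ⟨g3, hg3⟩ := hctx.surj gr
  have hXv : (c3 va : G) = X ∧ (c3 vb : G) = Y ∧ (c3 vc : G) = Z ∧ (c3 (vb + vc) : G) = Y * Z ∧
      (c3 (va + vb) : G) = X * Y := by
    refine ⟨?_, ?_, ?_, ?_, ?_⟩ <;> simp [c3, va, vb, vc, ZMod.val_one, X', Y', Z']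
  have e1 := hgen g1 (fun s => ![s 1, s 0, s 2]) (fun s t => by funext i; fin_cases i <;> simp)
    (by rw [hX, himg g1 A A hA hA B C hB hC (by rw [hg1, hAp]; decide) (by rw [hg1, hBp, hCp]; decide),
      show (![va 1, va 0, va 2] : Nat3) = vb by decide, hXv.2.1])
    (by rw [hY, himg g1 A A hA hA C B hC hB (by rw [hg1, hAp]; decide) (by rw [hg1, hBp, hCp]; decide),
      show (![vb 1, vb 0, vb 2] : Nat3) = va by decide, hXv.1])
    (by rw [hZ, himg g1 B C hB hC C B hC hB (by rw [hg1, hBp, hCp]; decide) (by rw [hg1, hBp, hCp]; decide),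
      show (![vc 1, vc 0, vc 2] : Nat3) = vc by decide, hXv.2.2.1, L.cm_symm hC hB])
    (by rw [hg1]; decide)
  have e2 := hgen g2 (fun s => ![s 0, s 1 + s 2, s 2]) (fun s t => by funext i; fin_cases i <;> simp <;> abel)
    (by rw [hX, himg g2 A A hA hA B (A * B) hB (mul_mem hA hB) (by rw [hg2, hAp]; decide)
        (by rw [hg2, hBp, hAB]; decide), L.cm_right hA hA hB, L.cm_self, one_mul,
      show (![va 0, va 1 + va 2, va 2] : Nat3) = va by decide, hXv.1])
    (by rw [hY, himg g2 A A hA hA C C hC hC (by rw [hg2, hAp]; decide) (by rw [hg2, hCp]; decide),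
      show (![vb 0, vb 1 + vb 2, vb 2] : Nat3) = vb by decide, hXv.2.1])
    (by rw [hZ, himg g2 B (A * B) hB (mul_mem hA hB) C C hC hC (by rw [hg2, hBp, hAB]; decide)
        (by rw [hg2, hCp]; decide), L.cm_left hA hB hC,
      show (![vc 0, vc 1 + vc 2, vc 2] : Nat3) = vb + vc by decide, hXv.2.2.2.1])
    (by rw [hg2]; decide)
  have e3 := hgen g3 (fun s => ![s 0 + s 1, s 1, s 2]) (fun s t => by funext i; fin_cases i <;> simp <;> abel)
    (by rw [hX, himg g3 A A hA hA B B hB hB (by rw [hg3, hAp]; decide) (by rw [hg3, hBp]; decide),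
      show (![va 0 + va 1, va 1, va 2] : Nat3) = va by decide, hXv.1])
    (by rw [hY, himg g3 A A hA hA C (B * C) hC (mul_mem hB hC) (by rw [hg3, hAp]; decide)
        (by rw [hg3, hCp, hBC]; decide), L.cm_right hA hB hC,
      show (![vb 0 + vb 1, vb 1, vb 2] : Nat3) = va + vb by decide, hXv.2.2.2.2])
    (by rw [hZ, himg g3 B B hB hB C (B * C) hC (mul_mem hB hC) (by rw [hg3, hBp]; decide)
        (by rw [hg3, hCp, hBC]; decide), L.cm_right hB hB hC, L.cm_self, one_mul,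
      show (![vc 0 + vc 1, vc 1, vc 2] : Nat3) = vc by decide, hXv.2.2.1])
    (by rw [hg3]; decide)
  have ht0 : t = 0 := by
    have a1 : t 1 = t 0 := congrFun e1 0
    have a2 : t 1 + t 2 = t 1 := congrFun e2 1
    have a3 : t 0 + t 1 = t 0 := congrFun e3 0
    have b2 : t 2 = 0 := add_eq_left.mp a2
    have b1 : t 1 = 0 := add_eq_left.mp a3
    funext i
    fin_cases i
    exacts [a1.symm.trans b1, b1, b2]
  have hA1 : A * A = 1 := by
    have := congrArg Subtype.val ht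
    rw [ht0] at this
    simpa [c3] using this.symm
  have hall1 : ∀ q ∈ Q, q * q = 1 := fun q hq => by
    by_cases h0 : p q = 0
    · exact hU1e q ((hc.zero q hq).1 h0)
    · obtain ⟨x, hx⟩ := exists_ac_a h0
      obtain ⟨g, hg⟩ := hctx.surj x
      rw [hsp q hq _ (L.qn.conj_mem A hA g) (by rw [hc.equiv g A hA, hg, hAp, hx]),
        show g * A * g⁻¹ * (g * A * g⁻¹) = g * (A * A) * g⁻¹ by simp [mul_assoc], hA1]
      simp
  have hbot := L.gen ⊥ fun q hq => Subgroup.mem_bot.2 (hall1 q hq)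
  rw [le_bot_iff] at hbot
  rw [hbot, Subgroup.card_bot] at hU
  omega

end Layer

end Cfsg.Agent.L32Radical
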