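import Cfsg.Agent.Lib.L32Radical.Twisted

/-!
A layer below `Q` on which `f` acts non-trivially is impossible.
-/

set_option autoImplicit false
set_option linter.unusedSectionVars false
set_option linter.style.haveILetI false

namespace Cfsg.Agent.L32Radical

open A5Radical (cm map_cm cm_eq_one Cfix mem_Cfix comm_of_exp)

/-- An involutory action on an elementary group: the image of `v ↦ v · v^e` consists of fixed points and has
complementary order. -/
theorem inv_split {G : Type*} [Group G] [Finite G] (N : Subgroup G) [N.Normal] (hexp : ∀ v ∈ N, v * v = 1) (e : G)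
    (he : ∀ v ∈ N, e * e * v = v * (e * e)) :
    ∃ D : Subgroup G, D ≤ Cfix N e ∧ Nat.card D * Nat.card (Cfix N e) = Nat.card N ∧
      ∀ d ∈ D, ∃ v ∈ N, v * (e * v * e⁻¹) = d := by
  let τ : N →* N := MonoidHom.mk' (fun v => v * MulAut.conjNormal e v) fun v w => by
    rw [map_mul]
    exact swap_mid (Subtype.ext (comm_of_exp hexp w.2 (MulAut.conjNormal e v).2))
  have hfix : ∀ v : N, τ v = 1 ↔ e * v = v * e := fun v => by
    rw [← mul_inv_eq_iff_eq_mul, Subtype.ext_iff]
    show (v : G) * (e * v * e⁻¹) = 1 ↔ _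
    rw [mul_eq_one_iff_inv_eq, inv_eq_of_mul_eq_one_right (hexp _ v.2), eq_comm]
  have hkm : τ.ker.map N.subtype = Cfix N e := by
    ext w
    constructor
    · rintro ⟨v, hv, rfl⟩
      exact mem_Cfix.2 ⟨v.2, (hfix v).1 hv⟩
    · intro hw
      obtain ⟨hwN, hwe⟩ := mem_Cfix.1 hw
      exact ⟨⟨w, hwN⟩, (hfix _).2 hwe, rfl⟩
  refine ⟨τ.range.map N.subtype, ?_, ?_, ?_⟩
  · rintro _ ⟨_, ⟨v, rfl⟩, rfl⟩
    refine mem_Cfix.2 ⟨(τ v).2, mul_inv_eq_iff_eq_mul.1 ?_⟩
    show e * ((v : G) * (e * v * e⁻¹)) * e⁻¹ = (v : G) * (e * v * e⁻¹)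
    rw [show e * ((v : G) * (e * v * e⁻¹)) * e⁻¹ = e * v * e⁻¹ * (e * e * v * (e * e)⁻¹) by simp [mul_assoc],
      he _ v.2, mul_inv_cancel_right]
    exact comm_of_exp hexp ((inferInstance : N.Normal).conj_mem _ v.2 e) v.2
  · rw [← hkm, Subgroup.card_map_of_injective N.subtype_injective, Subgroup.card_map_of_injective N.subtype_injective,
      mul_comm, ← Subgroup.index_ker, Subgroup.card_mul_index]
  · rintro _ ⟨_, ⟨v, rfl⟩, rfl⟩
    exact ⟨v, v.2, rfl⟩

namespace Layer

variable {G : Type*} [Group G] [Finite G] {Q U : Subgroup G} {Φ : G →* GL32} {f : G} (L : Layer Q U Φ f)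
include L

/-- The case `|U| = 8`. -/
theorem eight_false (hU : Nat.card U = 8) : False := by
  classical
  haveI := L.qn
  haveI := L.un
  obtain ⟨v, hv, hinj, hrel, hadd, hcase⟩ := L.upper
  obtain ⟨-, -, -, -, hfree⟩ := L.lower hU
  rcases hcase with ⟨h8, -⟩ | ⟨h16, z, hz, hzf, hzU, hzuniq, hcov⟩
  · obtain ⟨Φ', p, hctx, hc⟩ := L.ctx.exists_coord L.f7 L.fQ Q U L.le L.sq (fun k hk q hq => L.cm_mem hk hq) h8 L.top
    exact L.abelian_false hU (L.natural_comm hU hctx U p hc L.cen L.exp)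
  by_cases hψ : ∃ q ∈ Q, cm z q ≠ 1
  · exact L.twisted_false hU hv hrel hinj hadd hz hzf hcov hψ
  push Not at hψ
  let U1 : Subgroup G := Q ⊓ Subgroup.centralizer (Q : Set G)
  have hU1 : ∀ w, w ∈ U1 ↔ w ∈ Q ∧ ∀ q ∈ Q, q * w = w * q := fun w => by
    simp [U1, Subgroup.mem_inf, Subgroup.mem_centralizer_iff]
  haveI : U1.Normal := inferInstance
  have hUU1 : U ≤ U1 := fun u hu => (hU1 u).2 ⟨L.le hu, L.cen u hu⟩
  have hzU1 : z ∈ U1 := (hU1 z).2 ⟨hz, fun q hq => (cm_eq_one.1 (hψ q hq)).symm⟩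
  let π := QuotientGroup.mk' U
  let W := U1.map π
  haveI : W.Normal := Subgroup.Normal.map inferInstance _ (QuotientGroup.mk'_surjective U)
  have hWexp : ∀ a ∈ W, a * a = 1 := by
    rintro _ ⟨k, hk, rfl⟩
    rw [← map_mul]
    exact (QuotientGroup.eq_one_iff _).2 (L.sq k hk.1)
  have hW16 : Nat.card W ≤ 16 := h16 ▸ Subgroup.card_le_of_le (Subgroup.map_mono inf_le_left)
  by_cases hcomm : ∀ a ∈ Q, ∀ b ∈ Q, a * b = b * a
  · exact L.abelian_false hU hcomm
  have hWfix : ∀ w ∈ W, π f * w = w * π f := by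
    by_contra hne
    push Not at hne
    have hN : ∀ w ∈ W, π f ^ 7 * w = w * π f ^ 7 := by
      rintro _ ⟨k, hk, rfl⟩
      rw [← map_pow, ← map_mul, ← map_mul, ((hU1 k).1 hk).2 _ L.f7]
    obtain ⟨_, -, -, -, -, hc'⟩ := normal_seven W hWexp hW16 (π f) hN hne
    rcases hc' with ⟨-, -, hf0⟩ | ⟨hW, -⟩
    · exact hzU ((QuotientGroup.eq_one_iff z).1 (hf0 (π z) ⟨z, hzU1, rfl⟩
        (cm_eq_one.1 ((map_cm π f z).symm.trans ((QuotientGroup.eq_one_iff _).2 hzf)))))
    · refine hcomm fun a ha b hb => ?_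
      have htop : U1.map π = Q.map π := Subgroup.eq_of_le_of_card_ge (Subgroup.map_mono inf_le_left) (h16.trans_le hW.ge)
      obtain ⟨b', hb', hbb⟩ := (htop ▸ ⟨b, hb, rfl⟩ : π b ∈ U1.map π)
      have hbU1 := mul_mem hb' (hUU1 (QuotientGroup.eq.1 hbb))
      rw [mul_inv_cancel_left] at hbU1
      exact ((hU1 b).1 hbU1).2 a ha
  have hne : ∃ k ∈ Q, cm f k ∉ U1 := by
    obtain ⟨q0, hq0, hq0'⟩ := L.top
    refine ⟨q0, hq0, fun hm => hq0' ?_⟩
    -- `π (cm f q0)` is fixed by `π f`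
    have h1 := hWfix _ ⟨_, hm, rfl⟩
    set d := cm f q0 with hd
    have hq : π f⁻¹ * π q0 * π f = π q0 * (π d)⁻¹ := by
      simp only [← map_inv, ← map_mul, hd]
      congr 1
      simp [cm, mul_assoc]
    have hd2 : (π d)⁻¹ = π d := inv_eq_of_mul_eq_one_right (hWexp _ ⟨d, hm, rfl⟩)
    rw [hd2, map_inv] at hq
    have h2 : ∀ n : ℕ, (π f ^ n)⁻¹ * π q0 * π f ^ n = π q0 * π d ^ n := fun n => by
      induction n with
      | zero => simp
      | succ n ih =>
        have hdn : (π f)⁻¹ * π d ^ n * π f = π d ^ n := by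
          rw [mul_assoc, ← ((show Commute (π f) (π d) from h1).pow_right n).eq, inv_mul_cancel_left]
        calc (π f ^ (n + 1))⁻¹ * π q0 * π f ^ (n + 1) = (π f)⁻¹ * ((π f ^ n)⁻¹ * π q0 * π f ^ n) * π f := by
              simp [pow_succ, mul_assoc]
          _ = (π f)⁻¹ * π q0 * π f * ((π f)⁻¹ * π d ^ n * π f) := by rw [ih]; simp [mul_assoc]
          _ = _ := by rw [hq, hdn, mul_assoc, ← pow_succ']
    have h7 := h2 7
    have hf7q : π f ^ 7 * π q0 = π q0 * π f ^ 7 := by
      rw [← map_pow]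
      exact comm_of_exp (N := Q.map π) (by
        rintro _ ⟨k, hk, rfl⟩; rw [← map_mul]; exact (QuotientGroup.eq_one_iff _).2 (L.sq k hk))
        ⟨_, L.f7, rfl⟩ ⟨q0, hq0, rfl⟩
    rw [mul_assoc, ← hf7q, inv_mul_cancel_left, left_eq_mul] at h7
    have h8 : π d ^ 7 = π d := by
      rw [show (7 : ℕ) = 2 * 3 + 1 from rfl, pow_succ, pow_mul, pow_two, hWexp _ ⟨d, hm, rfl⟩, one_pow, one_mul]
    exact (QuotientGroup.eq_one_iff d).1 (h8.symm.trans h7)
  have hcmf : ∀ {q : G}, π f * π q = π q * π f → cm f q ∈ U := fun {q} e =>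
    (QuotientGroup.eq_one_iff _).1 ((map_cm π f q).trans (cm_eq_one.2 e))
  have hcovU1 : ∀ w ∈ U1, w ∈ U ∨ z⁻¹ * w ∈ U := fun w hw => hzuniq w hw.1 (hcmf (hWfix _ ⟨w, hw, rfl⟩))
  have hz2 : z * z = 1 := hfree _ (L.sq z hz) (mul_inv_eq_iff_eq_mul.1 (by
    have h1 : Commute (π f) (π z) := cm_eq_one.1 ((map_cm π f z).symm.trans ((QuotientGroup.eq_one_iff _).2 hzf))
    have hu : z⁻¹ * (f * z * f⁻¹) ∈ U := QuotientGroup.eq.1 (by
      show π z = π (f * z * f⁻¹)
      rw [map_mul, map_mul, map_inv, h1.eq, mul_inv_cancel_right])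
    rw [show f * (z * z) * f⁻¹ = z * (z⁻¹ * (f * z * f⁻¹)) * (z * (z⁻¹ * (f * z * f⁻¹))) by simp [mul_assoc],
      L.sq_U hz hu]))
  have hW2 : Nat.card W = 2 := by
    have hzW : π z ∈ W := ⟨z, hzU1, rfl⟩
    have hz1 : π z ≠ 1 := fun e => hzU ((QuotientGroup.eq_one_iff z).1 e)
    refine le_antisymm ?_ ?_
    · have := Nat.card_le_card_of_surjective (fun b : Bool => (⟨if b then π z else 1, by
        split_ifs; exacts [hzW, one_mem W]⟩ : W)) (fun ⟨y, w, hw, hwy⟩ => by
        rcases hcovU1 w hw with h | h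
        · exact ⟨false, Subtype.ext (((QuotientGroup.eq_one_iff w).2 h).symm.trans hwy)⟩
        · exact ⟨true, Subtype.ext ((QuotientGroup.eq.2 h).trans hwy)⟩)
      simpa using this
    · haveI : Nontrivial W := ⟨⟨⟨π z, hzW⟩, 1, fun e => hz1 (congrArg Subtype.val e)⟩⟩
      exact Finite.one_lt_card
  have hcQ := card_eq_map_mul U Q L.le
  have hcU1 := card_eq_map_mul U U1 hUU1
  have hU16 : Nat.card U1 = 16 := by rw [hcU1, hU]; show Nat.card W * 8 = 16; rw [hW2]
  have h8 : Nat.card (Q.map (QuotientGroup.mk' U1)) = 8 := by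
    have h1 := card_eq_map_mul U1 Q inf_le_left
    rw [hcQ, h16, hU, hU16] at h1
    omega
  obtain ⟨Φ', p, hctx, hc⟩ := L.ctx.exists_coord L.f7 L.fQ Q U1 inf_le_left (fun q hq => hUU1 (L.sq q hq))
    (fun k hk q hq => hUU1 (L.cm_mem hk hq)) h8 hne
  refine hcomm (L.natural_comm hU hctx U1 p hc (fun w hw => ((hU1 w).1 hw).2) fun w hw => ?_)
  rcases hcovU1 w hw with h | h
  · exact L.exp w h
  · rw [show w = z * (z⁻¹ * w) by rw [mul_inv_cancel_left], L.sq_U hz h, hz2]

/-- A layer with non-trivial action of `f` is impossible. -/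
theorem layer_false : False := by
  classical
  haveI := L.qn
  haveI := L.un
  let π := QuotientGroup.mk' U
  set N := Q.map π with hN
  haveI : N.Normal := Subgroup.Normal.map inferInstance _ (QuotientGroup.mk'_surjective U)
  have hNexp : ∀ a ∈ N, a * a = 1 := by
    rintro _ ⟨k, hk, rfl⟩
    rw [← map_mul]
    exact (QuotientGroup.eq_one_iff _).2 (L.sq k hk)
  obtain ⟨_, -, -, -, -, hlow⟩ := normal_seven U L.exp (A5Radical.card_le_sixteen L.ctx.rank U L.exp) f L.f7_cen L.low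
  rcases hlow with ⟨hU, -⟩ | ⟨hU, -⟩
  · exact L.eight_false hU
  -- the frame
  obtain ⟨vv, -, -, -, -, hcase⟩ := L.upper
  obtain ⟨Φ', hctx, hframe⟩ : ∃ Φ', Ctx Q Φ' ∧ (Nat.card N = 8 → ∃ p, Coord Φ' Q U p) := by
    by_cases h8 : Nat.card N = 8
    · obtain ⟨Φ', p, hctx, hc⟩ := L.ctx.exists_coord L.f7 L.fQ Q U L.le L.sq (fun k hk q hq => L.cm_mem hk hq) h8 L.top
      exact ⟨Φ', hctx, fun _ => ⟨p, hc⟩⟩
    · exact ⟨Φ, L.ctx, fun h => absurd h h8⟩
  obtain ⟨u', hu'⟩ := hctx.surj gu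
  obtain ⟨hgu2, hge2, -, hge1⟩ := gu_facts
  set e := u' * u' with hed
  have he : Φ' e = ge := by rw [hed, map_mul, hu', hgu2]
  have heQ : e ∉ Q := fun h => hge1 (he ▸ hctx.mem.1 h)
  have hee : e * e ∈ Q := by rw [hctx.mem, map_mul, he, hge2]
  have hecen : ∀ u ∈ U, e * e * u = u * (e * e) := fun u hu => L.cen u hu _ hee
  obtain ⟨D, hD, hDcard, -⟩ := inv_split U L.exp e hecen
  have hne16 : Nat.card (Cfix U e) ≠ 16 := fun h => by
    have heq := Subgroup.eq_of_le_of_card_ge (inf_le_left : Cfix U e ≤ U) (hU.trans h.symm).le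
    obtain ⟨u, hu, hu'⟩ := L.low
    exact hu' (L.ctx.centralizes U (fun q hq n hn => L.cen n hn q hq) heQ
      (fun n hn => (mem_Cfix.1 (heq.ge hn)).2) f u hu)
  have hC48 : Nat.card (Cfix U e) = 4 ∨ Nat.card (Cfix U e) = 8 := by
    obtain ⟨k, hk⟩ := A5Radical.card_two_pow (N := Cfix U e) fun v hv => L.exp v (mem_Cfix.1 hv).1
    have h1 := Subgroup.card_le_of_le hD
    have h2 : Nat.card (Cfix U e) ≤ 16 := hU ▸ Subgroup.card_le_of_le inf_le_left
    have h3 : 16 ≤ Nat.card (Cfix U e) * Nat.card (Cfix U e) := by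
      rw [← hU, ← hDcard]; exact Nat.mul_le_mul_right _ h1
    rw [hk] at h2 h3 hne16 ⊢
    have hk4 : k ≤ 4 := (Nat.pow_le_pow_iff_right (le_refl 2)).1 h2
    interval_cases k <;> simp_all
  rcases hC48 with hC | hC
  · -- a section of order 32
    set C := Cfix U e with hCdef
    have hπe2 : ∀ a ∈ N, π e * π e * a = a * (π e * π e) := fun a ha => by
      rw [← map_mul]; exact comm_of_exp hNexp ⟨_, hee, rfl⟩ ha
    have heeN : π e * π e ∈ N := ⟨e * e, hee, map_mul π e e⟩
    obtain ⟨DN, hDN, hDNcard, hDNmem⟩ := inv_split N hNexp (π e) hπe2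
    let H0 : Subgroup G := Q ⊓ (Subgroup.centralizer {π e}).comap π
    have hH0 : ∀ q, q ∈ H0 ↔ q ∈ Q ∧ π e * π q = π q * π e := fun q => by
      simp [H0, Subgroup.mem_inf, Subgroup.mem_centralizer_singleton_iff, eq_comm]
    have hUH : U ≤ H0 := fun u hu => (hH0 u).2 ⟨L.le hu, by
      rw [show π u = 1 from (QuotientGroup.eq_one_iff u).2 hu, mul_one, one_mul]⟩
    have hH0card : Nat.card H0 = Nat.card (Cfix N (π e)) * 16 := by
      have hmap : H0.map π = Cfix N (π e) := by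
        refine le_antisymm ?_ ?_
        · rintro _ ⟨q, hq, rfl⟩
          exact mem_Cfix.2 ⟨⟨q, ((hH0 q).1 hq).1, rfl⟩, ((hH0 q).1 hq).2⟩
        · intro a ha
          obtain ⟨⟨q, hq, rfl⟩, hqe⟩ := mem_Cfix.1 ha
          exact ⟨q, (hH0 q).2 ⟨hq, hqe⟩, rfl⟩
      rw [card_eq_map_mul U H0 hUH, hU]
      exact congrArg (fun T : Subgroup (G ⧸ U) => Nat.card T * 16) hmap
    have hmove : ∀ q ∈ H0, ∀ e', Φ' e' = ge → ∃ l ∈ U, e' * q * e'⁻¹ = q * l := by
      intro q hq e' he'
      obtain ⟨hqQ, hqe⟩ := (hH0 q).1 hq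
      have hk : e⁻¹ * e' ∈ Q := by rw [hctx.mem, map_mul, map_inv, he', he, inv_mul_cancel]
      have hke : π e' = π e * π (e⁻¹ * e') := by rw [← map_mul, mul_inv_cancel_left]
      refine ⟨_, QuotientGroup.eq.1 ?_, (mul_inv_cancel_left q _).symm⟩
      show π q = π (e' * q * e'⁻¹)
      rw [map_mul, map_mul, map_inv, hke, mul_assoc (π e),
        comm_of_exp hNexp ⟨_, hk, rfl⟩ ⟨q, hqQ, rfl⟩, ← mul_assoc, hqe]
      simp [mul_assoc]
    have hfixe : ∀ e', Φ' e' = ge → ∀ l ∈ U, e' * l * e'⁻¹ = e * l * e⁻¹ := fun e' he' l hl => by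
      have hk : e⁻¹ * e' ∈ Q := by rw [hctx.mem, map_mul, map_inv, he', he, inv_mul_cancel]
      rw [show e' * l * e'⁻¹ = e * ((e⁻¹ * e') * l * (e⁻¹ * e')⁻¹) * e⁻¹ by simp [mul_assoc],
        L.cen l hl _ hk, mul_inv_cancel_right]
    have hH0sq : ∀ q ∈ H0, q * q ∈ C := fun q hq => by
      obtain ⟨hqQ, -⟩ := (hH0 q).1 hq
      obtain ⟨l, hl, h1⟩ := hmove q hq e he
      refine mem_Cfix.2 ⟨L.sq q hqQ, mul_inv_eq_iff_eq_mul.1 ?_⟩
      rw [show e * (q * q) * e⁻¹ = e * q * e⁻¹ * (e * q * e⁻¹) by simp [mul_assoc], h1, L.sq_U hqQ hl]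
    have hCH : C ≤ H0 := fun c hc => hUH (mem_Cfix.1 hc).1
    by_cases hbig : 8 ≤ Nat.card (Cfix N (π e))
    · have hle := section_le L.ctx.rank C (H0 : Set G) (fun c hc => Subgroup.subset_closure (hCH hc))
        (fun q hq c hc => L.cen c (mem_Cfix.1 hc).1 q ((hH0 q).1 hq).1) hH0sq
        fun a ha b hb => hH0sq _ (mul_mem ha hb)
      rw [Subgroup.closure_eq, hH0card, hC] at hle
      omega
    have hN816 : Nat.card N = 8 ∨ Nat.card N = 16 := hcase.imp (fun h => h.1) fun h => h.1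
    have hCN4 : Nat.card (Cfix N (π e)) = 4 := by
      obtain ⟨k, hk⟩ := A5Radical.card_two_pow (N := Cfix N (π e)) fun v hv => hNexp v (mem_Cfix.1 hv).1
      have h1 := Nat.mul_le_mul_right (Nat.card (Cfix N (π e))) (Subgroup.card_le_of_le hDN)
      rw [hDNcard, hk] at h1
      rw [hk] at hbig ⊢
      have hk3 : k ≤ 3 := by
        by_contra hk3
        exact hbig ((show 8 ≤ 2 ^ 4 by norm_num).trans (Nat.pow_le_pow_right two_pos (by omega)))
      have key : ∀ k ≤ 3, ∀ n ∈ [8, 16], n ≤ 2 ^ k * 2 ^ k → ¬ 8 ≤ 2 ^ k → 2 ^ k = 4 := by decide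
      refine key k hk3 _ ?_ h1 hbig
      rcases hN816 with h | h <;> rw [h] <;> decide
    obtain ⟨e', he', hee'⟩ : ∃ e', Φ' e' = ge ∧ e' * e' ∈ U := by
      rcases hN816 with h | h
      · obtain ⟨p, hc⟩ := hframe h
        have hεfix : u' * (e * e) * u'⁻¹ = e * e := by simp [hed, mul_assoc]
        rcases fix_gu (p (e * e)) (by rw [← hu', ← hc.equiv u' _ hee, hεfix]) with h0 | h0
        · exact ⟨e, he, (hc.zero _ hee).1 h0⟩
        · obtain ⟨Y, hY, hYp⟩ := hc.onto vc
          refine ⟨e * Y, by rw [map_mul, he, hctx.mem.1 hY, mul_one], ?_⟩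
          have h1 := L.qn.conj_mem' Y hY e
          rw [show e * Y * (e * Y) = e * e * (e⁻¹ * Y * e * Y) by simp [mul_assoc]]
          refine (hc.zero _ (mul_mem hee (mul_mem h1 hY))).1 ?_
          have h2 : p (e⁻¹ * Y * e) = ac ge vc := by
            have := hc.equiv e⁻¹ Y hY
            rw [inv_inv, map_inv, he, inv_eq_of_mul_eq_one_right hge2, hYp] at this
            exact this
          rw [hc.add _ hee _ (mul_mem h1 hY), hc.add _ h1 _ hY, h2, h0, hYp]
          decide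
      · rw [h, hCN4] at hDNcard
        have heq := Subgroup.eq_of_le_of_card_ge hDN (by rw [hCN4]; omega)
        obtain ⟨_, ⟨y, hy, rfl⟩, hyeq⟩ := hDNmem _ (heq ▸ mem_Cfix.2 ⟨heeN, (mul_assoc _ _ _).symm⟩ :
          π e * π e ∈ DN)
        refine ⟨y * e, by rw [map_mul, hctx.mem.1 hy, he, one_mul], (QuotientGroup.eq_one_iff _).1 ?_⟩
        show π (y * e * (y * e)) = 1
        rw [map_mul, map_mul]
        calc π y * π e * (π y * π e) = π y * (π e * π y * (π e)⁻¹) * (π e * π e) := by simp [mul_assoc]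
          _ = 1 := by rw [hyeq]; exact hNexp _ heeN
    have he'Q : e' ∉ Q := fun h => hge1 (he' ▸ hctx.mem.1 h)
    have hee'C : e' * e' ∈ C := by
      refine mem_Cfix.2 ⟨hee', mul_inv_eq_iff_eq_mul.1 ?_⟩
      rw [← hfixe e' he' _ hee']
      simp [mul_assoc]
    have hmoveC : ∀ q ∈ H0, ∃ l ∈ C, e' * q * e'⁻¹ = q * l := fun q hq => by
      obtain ⟨l, hl, h1⟩ := hmove q hq e' he'
      refine ⟨l, mem_Cfix.2 ⟨hl, mul_inv_eq_iff_eq_mul.1 ?_⟩, h1⟩
      rw [← hfixe e' he' l hl]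
      have h2 : e' * e' * q * (e' * e')⁻¹ = q := by
        rw [← L.cen _ hee' q ((hH0 q).1 hq).1, mul_inv_cancel_right]
      rw [show e' * e' * q * (e' * e')⁻¹ = e' * (e' * q * e'⁻¹) * e'⁻¹ by simp [mul_assoc], h1,
        show e' * (q * l) * e'⁻¹ = e' * q * e'⁻¹ * (e' * l * e'⁻¹) by simp [mul_assoc], h1, mul_assoc,
        mul_eq_left] at h2
      rw [eq_inv_of_mul_eq_one_right h2, inv_eq_of_mul_eq_one_right (L.exp l hl)]
    let S : Set G := {g | g ∈ H0 ∨ g = e'}
    have hcenS : ∀ g ∈ S, ∀ c ∈ C, g * c = c * g := by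
      intro g hg c hc'
      rcases hg with hg | hg
      · exact L.cen c (mem_Cfix.1 hc').1 g ((hH0 g).1 hg).1
      · rw [hg]
        refine mul_inv_eq_iff_eq_mul.1 ?_
        rw [hfixe e' he' c (mem_Cfix.1 hc').1]
        exact mul_inv_eq_iff_eq_mul.2 (mem_Cfix.1 hc').2
    have hqe : ∀ q ∈ H0, q * e' * (q * e') ∈ C := fun q hq => by
      obtain ⟨l, hl, h1⟩ := hmoveC q hq
      rw [show q * e' * (q * e') = q * (e' * q * e'⁻¹) * (e' * e') by simp [mul_assoc], h1, ← mul_assoc q q l]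
      exact mul_mem (mul_mem (hH0sq q hq) hl) hee'C
    have hle := section_le L.ctx.rank C S (fun c hc => Subgroup.subset_closure (Or.inl (hCH hc))) hcenS
      (fun g hg => by
        rcases hg with hg | hg
        · exact hH0sq g hg
        · rw [hg]; exact hee'C) (fun a ha b hb => by
        rcases ha with ha | ha <;> rcases hb with hb | hb
        · exact hH0sq _ (mul_mem ha hb)
        · rw [hb]; exact hqe a ha
        · have h2 := hcenS b (Or.inl hb) _ (hqe b hb)
          rw [ha, show e' * b * (e' * b) = b⁻¹ * (b * e' * (b * e')) * b by simp [mul_assoc], mul_assoc, ← h2,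
            inv_mul_cancel_left]
          exact hqe b hb
        · rw [ha, hb]; exact mul_mem hee'C hee'C)
    have h128 : 128 ≤ Nat.card (Subgroup.closure S) := by
      have h1 := Nat.card_le_card_of_injective (fun q : Bool × H0 =>
        (⟨(if q.1 then e' else 1) * q.2.1, mul_mem (by
          split_ifs
          exacts [Subgroup.subset_closure (Or.inr rfl), one_mem _]) (Subgroup.subset_closure (Or.inl q.2.2))⟩ :
            Subgroup.closure S)) ?_
      · rw [Nat.card_prod, Nat.card_eq_fintype_card, Fintype.card_bool, hH0card, hCN4] at h1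
        exact h1
      · rintro ⟨a, q⟩ ⟨b, q'⟩ h
        have h' : (if a then e' else 1) * q.1 = (if b then e' else 1) * q'.1 := congrArg Subtype.val h
        have hΦq : ∀ q : H0, Φ' q.1 = 1 := fun q => hctx.mem.1 ((hH0 q).1 q.2).1
        have hab : a = b := by
          have := congrArg Φ' h'
          cases a <;> cases b <;> simp [hΦq, he', hge1, hge1.symm] at this ⊢
        subst hab
        exact Prod.ext rfl (Subtype.ext (mul_left_cancel h'))
    rw [hC] at hle
    omega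
  · -- three conjugates fix a point
    obtain ⟨P, hP⟩ := hctx.surj gp
    set A1 := Cfix U e
    set A2 := Cfix U (P * e * P⁻¹) with hA2
    set A3 := Cfix U (P⁻¹ * e * P) with hA3
    have h2 : Nat.card A2 = Nat.card A1 := card_Cfix_conj U e P
    have h3 : Nat.card A3 = Nat.card A1 := by
      have := card_Cfix_conj U e P⁻¹
      rwa [inv_inv] at this
    have h12 := mul_card_le_inf A1 A2 U inf_le_left inf_le_left
    have h123 := mul_card_le_inf (A1 ⊓ A2) A3 U (inf_le_left.trans inf_le_left) inf_le_left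
    have h12' : 4 ≤ Nat.card ↥(A1 ⊓ A2) := by
      rw [h2, hU, hC] at h12
      omega
    have h123' : 2 ≤ Nat.card ↥(A1 ⊓ A2 ⊓ A3) := by
      rw [h3, hU, hC] at h123
      omega
    obtain ⟨⟨u0, hu0⟩, hu01⟩ := Subgroup.ne_bot_iff_exists_ne_one.1 (show A1 ⊓ A2 ⊓ A3 ≠ ⊥ from fun h => by
      rw [h, Subgroup.card_bot] at h123'
      omega)
    have hu01' : u0 ≠ 1 := fun h => hu01 (Subtype.ext (by simpa using h))
    have hu0U : u0 ∈ U := (mem_Cfix.1 hu0.2).1
    have htop := hctx.top_of_three (Subgroup.centralizer {u0})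
      (fun q hq => Subgroup.mem_centralizer_singleton_iff.2 (L.cen u0 hu0U q hq)) (by
      intro x hx
      simp only [List.mem_cons, List.not_mem_nil, or_false] at hx
      rcases hx with rfl | rfl | rfl
      · exact ⟨e, Subgroup.mem_centralizer_singleton_iff.2 (mem_Cfix.1 hu0.1.1).2, he⟩
      · exact ⟨_, Subgroup.mem_centralizer_singleton_iff.2 (mem_Cfix.1 hu0.1.2).2, by simp [he, hP]⟩
      · exact ⟨_, Subgroup.mem_centralizer_singleton_iff.2 (mem_Cfix.1 hu0.2).2, by simp [he, hP]⟩)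
    have hcent : ∀ g : G, g * u0 = u0 * g := fun g =>
      Subgroup.mem_centralizer_singleton_iff.1 (htop ▸ Subgroup.mem_top g)
    set M := Subgroup.zpowers u0 with hM
    have hMU : M ≤ U := Subgroup.zpowers_le.2 hu0U
    haveI : M.Normal := ⟨fun x hx g => by
      obtain ⟨i, rfl⟩ := Subgroup.mem_zpowers_iff.1 hx
      rw [((show Commute g u0 from hcent g).zpow_right i).eq, mul_inv_cancel_right]
      exact hx⟩
    let ρ := QuotientGroup.mk' M
    have hρ := QuotientGroup.mk'_surjective M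
    have hker : ∀ x, ρ x ∈ U.map ρ → x ∈ U := by
      rintro x ⟨u, hu, hux⟩
      have := mul_mem hu (hMU (QuotientGroup.eq.1 hux))
      rwa [mul_inv_cancel_left] at this
    have L' : Layer (Q.map ρ) (U.map ρ) _ (ρ f) :=
      { ctx := L.ctx.quotient M (hMU.trans L.le)
        un := Subgroup.Normal.map L.un _ hρ
        le := Subgroup.map_mono L.le
        exp := by rintro _ ⟨u, hu, rfl⟩; rw [← map_mul, L.exp u hu, map_one]
        cen := by rintro _ ⟨u, hu, rfl⟩ _ ⟨q, hq, rfl⟩; rw [← map_mul, ← map_mul, L.cen u hu q hq]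
        sq := by rintro _ ⟨q, hq, rfl⟩; exact ⟨q * q, L.sq q hq, map_mul ρ q q⟩
        gen := fun T hT => Subgroup.map_le_iff_le_comap.2 (L.gen (T.comap ρ) fun q hq => by
          show ρ (q * q) ∈ T
          rw [map_mul]; exact hT _ ⟨q, hq, rfl⟩)
        f7 := ⟨f ^ 7, L.f7, map_pow ρ f 7⟩
        fQ := by
          rintro ⟨q, hq, hqf⟩
          have := mul_mem hq (L.le (hMU (QuotientGroup.eq.1 hqf)))
          rw [mul_inv_cancel_left] at this
          exact L.fQ this
        top := by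
          obtain ⟨q, hq, hq'⟩ := L.top
          exact ⟨ρ q, ⟨q, hq, rfl⟩, fun h => hq' (hker _ (by rw [map_cm]; exact h))⟩
        low := by
          by_contra hcon
          push Not at hcon
          obtain ⟨u, hu, hu'⟩ := L.low
          apply hu'
          have hz : u⁻¹ * (f * u * f⁻¹) ∈ M := QuotientGroup.eq.1 (by
            show ρ u = ρ (f * u * f⁻¹)
            rw [map_mul, map_mul, map_inv, hcon (ρ u) ⟨u, hu, rfl⟩, mul_inv_cancel_right])
          set m := u⁻¹ * (f * u * f⁻¹) with hm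
          have hfu : f * u * f⁻¹ = u * m := by rw [hm, mul_inv_cancel_left]
          have hmc : ∀ g, g * m = m * g := by
            obtain ⟨i, hi⟩ := Subgroup.mem_zpowers_iff.1 hz
            intro g
            rw [← hi, ((show Commute g u0 from hcent g).zpow_right i).eq]
          have hn : ∀ n : ℕ, f ^ n * u * (f ^ n)⁻¹ = u * m ^ n := fun n => by
            induction n with
            | zero => simp
            | succ n ih =>
              calc f ^ (n + 1) * u * (f ^ (n + 1))⁻¹ = f * (f ^ n * u * (f ^ n)⁻¹) * f⁻¹ := by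
                    simp [pow_succ', mul_assoc]
                _ = f * u * f⁻¹ * (f * m ^ n * f⁻¹) := by rw [ih]; simp [mul_assoc]
                _ = _ := by
                  rw [hfu, ((show Commute f m from hmc f).pow_right n).eq, mul_inv_cancel_right, mul_assoc,
                    ← pow_succ']
          have h7 := hn 7
          rw [L.f7_cen u hu, mul_inv_cancel_right, left_eq_mul] at h7
          have hm2 : m * m = 1 := L.exp m (hMU hz)
          rw [show (7 : ℕ) = 2 * 3 + 1 from rfl, pow_succ, pow_mul, pow_two, hm2, one_pow, one_mul] at h7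
          rw [h7, mul_one] at hfu
          exact mul_inv_eq_iff_eq_mul.1 hfu }
    refine L'.eight_false ?_
    have h1 : Nat.card U = Nat.card (U.map ρ) * Nat.card M := card_eq_map_mul M U hMU
    have hM2 : Nat.card M = 2 := by
      rw [hM, Nat.card_zpowers]
      exact orderOf_eq_prime (by rw [pow_two]; exact L.exp u0 hu0U) hu01'
    rw [hU, hM2] at h1
    omega

end Layer

end Cfsg.Agent.L32Radical
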