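import Cfsg.Agent.Lib.A8Sub.Linear

/-!
Elements of `GL₃(2)` and their action on the natural module with basis `a, b, c`.
-/

set_option autoImplicit false
set_option linter.style.haveILetI false

open Matrix

namespace Cfsg.Agent.L32Radical

/-- The natural module. -/
abbrev Nat3 : Type := Fin 3 → ZMod 2

/-- The group. -/
abbrev GL32 : Type := GL (Fin 3) (ZMod 2)

/-- The action on column vectors. -/
abbrev ac (g : GL32) (v : Nat3) : Nat3 := (g : Matrix (Fin 3) (Fin 3) (ZMod 2)) *ᵥ v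

theorem ac_mul (g h : GL32) (v : Nat3) : ac (g * h) v = ac g (ac h v) := by
  rw [ac, ac, ac, Units.val_mul, Matrix.mulVec_mulVec]

theorem ac_one (v : Nat3) : ac 1 v = v := by simp [ac]

theorem ac_inv_ac (g : GL32) (v : Nat3) : ac g⁻¹ (ac g v) = v := by
  rw [← ac_mul, inv_mul_cancel, ac_one]

theorem ac_add (g : GL32) (v w : Nat3) : ac g (v + w) = ac g v + ac g w := Matrix.mulVec_add _ _ _

theorem ac_zero (g : GL32) : ac g 0 = 0 := Matrix.mulVec_zero _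

def va : Nat3 := ![1, 0, 0]
def vb : Nat3 := ![0, 1, 0]
def vc : Nat3 := ![0, 0, 1]

/-- `a ↦ a, b ↦ b + a, c ↦ c + b`. -/
def gu : GL32 := ⟨!![1,1,0;0,1,1;0,0,1], !![1,1,1;0,1,1;0,0,1], by decide, by decide⟩
/-- `c ↦ c + a`. -/
def ge : GL32 := ⟨!![1,0,1;0,1,0;0,0,1], !![1,0,1;0,1,0;0,0,1], by decide, by decide⟩
/-- `b ↦ b + a`. -/
def ge1 : GL32 := ⟨!![1,1,0;0,1,0;0,0,1], !![1,1,0;0,1,0;0,0,1], by decide, by decide⟩
/-- `c ↦ c + b`. -/
def gr : GL32 := ⟨!![1,0,0;0,1,1;0,0,1], !![1,0,0;0,1,1;0,0,1], by decide, by decide⟩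
/-- `b ↦ c ↦ b + c`. -/
def gt : GL32 := ⟨!![1,0,0;0,0,1;0,1,1], !![1,0,0;0,1,1;0,1,0], by decide, by decide⟩
/-- `a ↔ b`. -/
def gsw : GL32 := ⟨!![0,1,0;1,0,0;0,0,1], !![0,1,0;1,0,0;0,0,1], by decide, by decide⟩
/-- `b ↔ c`. -/
def gbc : GL32 := ⟨!![1,0,0;0,0,1;0,1,0], !![1,0,0;0,0,1;0,1,0], by decide, by decide⟩
/-- A cyclic permutation of the basis. -/
def gp : GL32 := ⟨!![0,1,0;0,0,1;1,0,0], !![0,0,1;1,0,0;0,1,0], by decide, by decide⟩

theorem gu_facts : gu * gu = ge ∧ ge * ge = 1 ∧ gu * gu * (gu * gu) = 1 ∧ ge ≠ 1 := by decide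

theorem gt_facts : gt * gt * gt = 1 ∧ gt * gt * (gt * gt) = gt ∧ gt * ge * gt⁻¹ = ge1 ∧
    gt * ge1 * gt⁻¹ = ge * ge1 ∧ gt⁻¹ * gt⁻¹ * (ge * ge1) * (gt * gt) = ge := by decide

theorem four_group : ge * ge1 = ge1 * ge ∧ ge * ge1 * (ge * ge1) = 1 ∧ ge1 * ge1 = 1 ∧
    ge * gt * ge * gt * (ge * gt) = 1 ∧ ge * ge1 * (ge * ge1)⁻¹ = 1 := by decide

theorem gr_facts : gr = gu * ge1 ∧ gsw * ge * gsw⁻¹ = gr ∧ gsw * gsw = 1 ∧ gr * gr = 1 ∧
    gr * gu * (gr * gu) = 1 := by decide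

theorem four_distinct : [1, ge, ge1, ge * ge1].Nodup := by decide

theorem dihedral_distinct :
    [1, gu, gu * gu, gu * gu * gu, gr, gu * gr, gu * gu * gr, gu * gu * gu * gr].Nodup := by decide

theorem values : va ≠ 0 ∧ ac gt va = va ∧ ac gsw vb = va ∧ ac gsw (va + vb) = va + vb ∧
    ac gt (ac gt va) = va ∧ ac gt vb = vc := by decide

theorem fix_gu : ∀ v, ac gu v = v → v = 0 ∨ v = va := by decide

theorem fix_get : ∀ v, ac (ge * gt) v = v → v = 0 ∨ v = va := by decide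

theorem ac_ge : ∀ v, ac ge v = v + v 2 • va := by decide

theorem ac_ge1 : ∀ v, ac ge1 v = v + v 1 • va := by decide

/-- A vector fixed by the stabiliser generators of `a`. -/
theorem fix_stab : ∀ v, ac ge1 v = v → ac gr v = v → v = 0 ∨ v = va := by decide

theorem exists_map_a : ∀ v : Nat3, v ≠ 0 →
    v ∈ [1, gsw, gp, ge1 * gsw, ge * gp, gr * gp, ge1 * gr * gp].map (fun g => ac g va) := by decide

theorem exists_ac_a {v : Nat3} (hv : v ≠ 0) : ∃ g, ac g va = v := by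
  obtain ⟨g, -, hg⟩ := List.mem_map.1 (exists_map_a v hv)
  exact ⟨g, hg⟩

theorem three_orders : (ge * (gp * ge * gp⁻¹) * (gp⁻¹ * ge * gp)) ^ 7 = 1 ∧
    ge * (gp * ge * gp⁻¹) * (gp⁻¹ * ge * gp) ≠ 1 ∧
    (ge * (gp * ge * gp⁻¹)) ^ 2 ^ 2 = 1 ∧ ¬ (ge * (gp * ge * gp⁻¹)) ^ 2 ^ 1 = 1 ∧
    (ge * (gp * ge * gp⁻¹) * ge * (gp⁻¹ * ge * gp)) ^ 3 = 1 ∧
    ge * (gp * ge * gp⁻¹) * ge * (gp⁻¹ * ge * gp) ≠ 1 := by decide

/-- Three conjugates of a transvection generate. -/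
theorem eq_top_of_three (M : Subgroup GL32) (h0 : ge ∈ M) (h1 : gp * ge * gp⁻¹ ∈ M)
    (h2 : gp⁻¹ * ge * gp ∈ M) : M = ⊤ := by
  haveI : Fact (Nat.Prime 7) := ⟨by norm_num⟩
  haveI : Fact (Nat.Prime 3) := ⟨by norm_num⟩
  haveI : Fact (Nat.Prime 2) := ⟨Nat.prime_two⟩
  obtain ⟨a1, a2, a3, a4, a5, a6⟩ := three_orders
  have hord : ∀ {g : GL32} {n}, g ∈ M → orderOf g = n → n ∣ Nat.card M := fun {g n} hg hn => by
    rw [← hn, ← Subgroup.orderOf_mk g hg]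
    exact orderOf_dvd_natCard _
  have d7 := hord (mul_mem (mul_mem h0 h1) h2) (orderOf_eq_prime a1 a2)
  have d4 := hord (mul_mem h0 h1) (orderOf_eq_prime_pow (n := 1) a4 a3)
  have d3 := hord (mul_mem (mul_mem (mul_mem h0 h1) h0) h2) (orderOf_eq_prime a5 a6)
  have h84 : 84 ∣ Nat.card M :=
    Nat.Coprime.mul_dvd_of_dvd_of_dvd (m := 28) (n := 3) (by norm_num)
      (Nat.Coprime.mul_dvd_of_dvd_of_dvd (m := 4) (n := 7) (by norm_num) d4 d7) d3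
  have hmul := M.card_mul_index
  rw [A8Sub.card_GL_three] at hmul
  have hle : 84 ≤ Nat.card M := Nat.le_of_dvd Nat.card_pos h84
  haveI := A8Sub.isSimpleGroup_GL_three
  have hi : M.index = 1 ∨ M.index = 2 := by
    have h1' : M.index ≠ 0 := Subgroup.index_ne_zero_of_finite
    have h2' : 84 * M.index ≤ 168 := hmul ▸ Nat.mul_le_mul_right _ hle
    omega
  rcases hi with hi | hi
  · exact Subgroup.index_eq_one.1 hi
  · haveI := Subgroup.normal_of_index_eq_two hi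
    refine ((inferInstance : M.Normal).eq_bot_or_eq_top).resolve_left fun e => ?_
    rw [e, Subgroup.card_bot] at hle
    omega

end Cfsg.Agent.L32Radical
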