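import Cfsg.Agent.Lib.L32Radical.LayerMain
import Cfsg.Agent.Lib.L32Radical.Cyclic

/-!
The radical of a 2-constrained group of sectional 2-rank four over `GL₃(2)`.
-/

set_option autoImplicit false
set_option linter.unusedSectionVars false
set_option linter.style.haveILetI false

namespace Cfsg.Agent.L32Radical

open A5Radical (cm map_cm cm_eq_one cm_inv cm_mul_left sq_mul' rad rad_le rad_normal rad_ne sq_mem_rad cm_mem_rad comm_of_exp)

/-- Four conjugates `a, b, c, d` with a relation, and a fixed `z`: all commutators are trivial. -/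
theorem triv_comm {H : Type*} [Group H] (Qb Pb : Subgroup H) [hQ : Qb.Normal] (hPQ : Pb ≤ Qb)
    (hcen : ∀ p ∈ Pb, ∀ q ∈ Qb, q * p = p * q) (f : H)
    (hval : ∀ a ∈ Qb, ∀ b ∈ Qb, cm a b * cm a b = 1 ∧ f * cm a b = cm a b * f ∧ ∀ q ∈ Qb, q * cm a b = cm a b * q)
    {v z : H} (hv : v ∈ Qb) (hz : z ∈ Qb) (hzf : z⁻¹ * (f * z * f⁻¹) ∈ Pb)
    (hrel : (v * (f * v * f⁻¹))⁻¹ * (f * (f * (f * v * f⁻¹) * f⁻¹) * f⁻¹) ∈ Pb ∨
      (v * (f * (f * v * f⁻¹) * f⁻¹))⁻¹ * (f * (f * (f * v * f⁻¹) * f⁻¹) * f⁻¹) ∈ Pb)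
    (hcov : ∀ q ∈ Qb, ∃ x, (cb f v x)⁻¹ * q ∈ Pb ∨ (z * cb f v x)⁻¹ * q ∈ Pb) :
    ∀ a ∈ Qb, ∀ b ∈ Qb, a * b = b * a := by
  set b := f * v * f⁻¹ with hb
  set c := f * b * f⁻¹ with hc
  set d := f * c * f⁻¹ with hd
  have hbQ := hQ.conj_mem v hv f
  have hcQ := hQ.conj_mem b hbQ f
  have hdQ := hQ.conj_mem c hcQ f
  have hfix : ∀ x ∈ Qb, ∀ y ∈ Qb, cm (f * x * f⁻¹) (f * y * f⁻¹) = cm x y := fun x hx y hy => by
    rw [show cm (f * x * f⁻¹) (f * y * f⁻¹) = f * cm x y * f⁻¹ by simp [cm, mul_assoc], (hval x hx y hy).2.1,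
      mul_inv_cancel_right]
  have hsym : ∀ x ∈ Qb, ∀ y ∈ Qb, cm y x = cm x y := fun x hx y hy => by
    rw [← cm_inv x y]; exact inv_eq_of_mul_eq_one_right (hval x hx y hy).1
  have hleft : ∀ x ∈ Qb, ∀ x' ∈ Qb, ∀ y ∈ Qb, cm (x * x') y = cm x y * cm x' y := fun x hx x' hx' y hy => by
    rw [cm_mul_left, mul_assoc x'⁻¹, ← (hval x hx y hy).2.2 x' hx', inv_mul_cancel_left]
  have hp : ∀ x ∈ Qb, ∀ p ∈ Pb, ∀ y ∈ Qb, cm (x * p) y = cm x y := fun x hx p hp y hy => by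
    rw [hleft x hx p (hPQ hp) y hy, cm_eq_one.2 (hcen p hp y hy).symm, mul_one]
  have hcongr : ∀ x ∈ Qb, ∀ x', x⁻¹ * x' ∈ Pb → ∀ y ∈ Qb, cm x' y = cm x y := fun x hx x' h y hy => by
    conv_lhs => rw [← mul_inv_cancel_left x x', hp x hx _ h y hy]
  have hself : ∀ x : H, cm x x = 1 := fun x => cm_eq_one.2 rfl
  set A := cm v b with hA
  set B := cm v c with hB
  have hbc : cm b c = A := hfix v hv b hbQ
  have hbd : cm b d = B := hfix v hv c hcQ
  have hcd : cm c d = A := (hfix b hbQ c hcQ).trans hbc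
  have hA2 := (hval v hv b hbQ).1
  have hAB : A = 1 ∧ B = 1 := by
    rcases hrel with hr | hr
    · have e1 : cm d b = A := by
        rw [hcongr _ (mul_mem hv hbQ) d hr b hbQ, hleft v hv b hbQ b hbQ, hself, mul_one]
      have e2 : cm d c = B * A := by
        rw [hcongr _ (mul_mem hv hbQ) d hr c hcQ, hleft v hv b hbQ c hcQ, hbc]
      rw [hsym b hbQ d hdQ, hbd] at e1
      rw [hsym c hcQ d hdQ, hcd, e1, hA2] at e2
      exact ⟨e2, e1.trans e2⟩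
    · have e1 : cm d b = A * A := by
        rw [hcongr _ (mul_mem hv hcQ) d hr b hbQ, hleft v hv c hcQ b hbQ, hsym b hbQ c hcQ, hbc]
      have e2 : cm d c = B := by
        rw [hcongr _ (mul_mem hv hcQ) d hr c hcQ, hleft v hv c hcQ c hcQ, hself, mul_one]
      rw [hsym b hbQ d hdQ, hbd, hA2] at e1
      rw [hsym c hcQ d hdQ, hcd, e1] at e2
      exact ⟨e2, e1⟩
  have hzf' : ∀ x ∈ Qb, cm z (f * x * f⁻¹) = cm z x := fun x hx => by
    rw [← hfix z hz x hx, hcongr z hz (f * z * f⁻¹) hzf _ (hQ.conj_mem x hx f)]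
  have hzv : cm z v = 1 := by
    have hzb : cm z b = cm z v := hzf' v hv
    have hzc : cm z c = cm z v := (hzf' b hbQ).trans hzb
    have hzd : cm z d = cm z v := (hzf' c hcQ).trans hzc
    rcases hrel with hr | hr
    · rw [← hzd, ← hsym z hz d hdQ, hcongr _ (mul_mem hv hbQ) d hr z hz, hleft v hv b hbQ z hz, hsym z hz v hv,
        hsym z hz b hbQ, hzb]
      exact (hval z hz v hv).1
    · rw [← hzd, ← hsym z hz d hdQ, hcongr _ (mul_mem hv hcQ) d hr z hz, hleft v hv c hcQ z hz, hsym z hz v hv,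
        hsym z hz c hcQ, hzc]
      exact (hval z hz v hv).1
  have hzall : cm z b = 1 ∧ cm z c = 1 := ⟨(hzf' v hv).trans hzv, ((hzf' b hbQ).trans (hzf' v hv)).trans hzv⟩
  let S : Set H := {v, b, c, z} ∪ (Pb : Set H)
  have hcl : Qb ≤ Subgroup.closure S := fun q hq => by
    have hs : ∀ x ∈ ({v, b, c, z} : Set H), x ∈ Subgroup.closure S := fun x hx =>
      Subgroup.subset_closure (Or.inl hx)
    have hcbm : ∀ x, cb f v x ∈ Subgroup.closure S := fun x =>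
      mul_mem (mul_mem (pow_mem (hs v (by simp)) _) (pow_mem (hs b (by simp)) _)) (pow_mem (hs c (by simp)) _)
    obtain ⟨x, hx | hx⟩ := hcov q hq
    · rw [← mul_inv_cancel_left (cb f v x) q]
      exact mul_mem (hcbm x) (Subgroup.subset_closure (Or.inr hx))
    · rw [← mul_inv_cancel_left (z * cb f v x) q]
      exact mul_mem (mul_mem (hs z (by simp)) (hcbm x)) (Subgroup.subset_closure (Or.inr hx))
  have hSQ : ∀ x ∈ S, x ∈ Qb := by
    rintro x ((rfl | rfl | rfl | rfl) | hx) <;> first | assumption | exact hPQ hx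
  haveI hcommS : IsMulCommutative (Subgroup.closure S) := Subgroup.isMulCommutative_closure fun x hx y hy => by
    rcases hx with hx | hx
    · rcases hy with hy | hy
      · refine cm_eq_one.1 ?_
        rcases hx with rfl | rfl | rfl | rfl <;> rcases hy with rfl | rfl | rfl | rfl
        exacts [hself _, hAB.1, hAB.2, by rw [hsym _ hz _ hv]; exact hzv,
          by rw [hsym _ hv _ hbQ]; exact hAB.1, hself _, hbc.trans hAB.1, by rw [hsym _ hz _ hbQ]; exact hzall.1,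
          by rw [hsym _ hv _ hcQ]; exact hAB.2, by rw [hsym _ hbQ _ hcQ]; exact hbc.trans hAB.1, hself _,
          by rw [hsym _ hz _ hcQ]; exact hzall.2, hzv, hzall.1, hzall.2, hself _]
      · exact hcen y hy x (hSQ x (Or.inl hx))
    · exact (hcen x hx y (hSQ y hy)).symm
  exact fun a ha b' hb' => congrArg Subtype.val (hcommS.is_comm.comm ⟨a, hcl ha⟩ ⟨b', hcl hb'⟩)

/-- Squares fixed by `f`. -/
theorem triv_sq {H : Type*} [Group H] (Qb Pb : Subgroup H) [hQ : Qb.Normal] (hPQ : Pb ≤ Qb)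
    (hexp : ∀ p ∈ Pb, p * p = 1) (hsq : ∀ q ∈ Qb, q * q ∈ Pb) (hcomm : ∀ a ∈ Qb, ∀ b ∈ Qb, a * b = b * a) (f : H)
    (hfix : ∀ p ∈ Pb, f * p = p * f) {v : H} (hv : v ∈ Qb)
    (hrel : (v * (f * v * f⁻¹))⁻¹ * (f * (f * (f * v * f⁻¹) * f⁻¹) * f⁻¹) ∈ Pb ∨
      (v * (f * (f * v * f⁻¹) * f⁻¹))⁻¹ * (f * (f * (f * v * f⁻¹) * f⁻¹) * f⁻¹) ∈ Pb) (x : Nat3) :
    cb f v x * cb f v x = 1 := by
  have hbQ := hQ.conj_mem v hv f
  have hcQ := hQ.conj_mem _ hbQ f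
  have hdQ := hQ.conj_mem _ hcQ f
  have hmul : ∀ a ∈ Qb, ∀ b ∈ Qb, a * b * (a * b) = a * a * (b * b) := fun a ha b hb =>
    swap_mid (hcomm b hb a ha)
  have hcj : ∀ q ∈ Qb, f * q * f⁻¹ * (f * q * f⁻¹) = q * q := fun q hq => by
    rw [show f * q * f⁻¹ * (f * q * f⁻¹) = f * (q * q) * f⁻¹ by simp [mul_assoc], hfix _ (hsq q hq),
      mul_inv_cancel_right]
  have hb2 := hcj v hv
  have hc2 := (hcj _ hbQ).trans hb2
  have hd2 := (hcj _ hcQ).trans hc2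
  have hv2 : v * v = 1 := by
    have hcongr : ∀ y ∈ Qb, ∀ d, y⁻¹ * d ∈ Pb → d * d = y * y := fun y hy d h => by
      conv_lhs => rw [← mul_inv_cancel_left y d]
      rw [hmul y hy _ (hPQ h), hexp _ h, mul_one]
    rcases hrel with hr | hr
    · rw [← hd2, hcongr _ (mul_mem hv hbQ) _ hr, hmul v hv _ hbQ, hb2, hexp _ (hsq v hv)]
    · rw [← hd2, hcongr _ (mul_mem hv hcQ) _ hr, hmul v hv _ hcQ, hc2, hexp _ (hsq v hv)]
  have hpow : ∀ y : H, y * y = 1 → ∀ i : ℕ, y ^ i * y ^ i = 1 := fun y hy i => by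
    rw [← (Commute.refl y).mul_pow, hy, one_pow]
  rw [cb, hmul _ (mul_mem (pow_mem hv _) (pow_mem hbQ _)) _ (pow_mem hcQ _), hmul _ (pow_mem hv _) _ (pow_mem hbQ _),
    hpow v hv2, hpow _ (hb2.trans hv2), hpow _ (hc2.trans hv2), one_mul, one_mul]

namespace Ctx

variable {G : Type*} [Group G] [Finite G] {Q : Subgroup G} {Φ : G →* GL32} (h : Ctx Q Φ)
include h

/-- An element of order seven modulo `Q` is non-trivial on `Q` modulo `rad Q Q`. -/
theorem nontrivial_top (hcent : Subgroup.centralizer (Q : Set G) ≤ Q) {f : G} (hf7 : f ^ 7 ∈ Q) (hfQ : f ∉ Q) :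
    ∃ x ∈ Q, cm f x ∉ rad Q Q := by
  haveI : Fact (Nat.Prime 2) := ⟨Nat.prime_two⟩
  haveI := h.normal
  by_contra hcon
  push Not at hcon
  obtain ⟨j, hj⟩ := h.two ⟨f ^ 7, hf7⟩
  have hj' : (f ^ 7) ^ 2 ^ j = 1 := congrArg Subtype.val hj
  set d := f ^ 2 ^ j with hd
  have hd7 : d ^ 7 = 1 := by rw [hd, ← pow_mul, mul_comm, pow_mul, hj']
  have hP : rad Q Q ≤ (frattini Q).map Q.subtype := by
    have hsq : ∀ x ∈ Q, x * x ∈ (frattini Q).map Q.subtype := fun x hx =>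
      ⟨⟨x, hx⟩ ^ 2, PGroup.pow_mem_frattini h.two _, by simp [pow_two]⟩
    refine (Subgroup.closure_le _).2 ?_
    rintro x (⟨k, hk, rfl⟩ | ⟨k, hk, q, hq, rfl⟩)
    · exact hsq k hk
    · rw [A5Radical.cm_eq_squares]
      exact mul_mem (mul_mem (hsq _ (inv_mem hk)) (hsq _ (mul_mem hk (inv_mem hq)))) (hsq _ hq)
  haveI := rad_normal Q Q
  have hdC : ∀ x ∈ Q, cm d x ∈ rad Q Q := fun x hx => by
    let π := QuotientGroup.mk' (rad Q Q)
    have hc : Commute (π f) (π x) := cm_eq_one.1 ((map_cm π f x).symm.trans ((QuotientGroup.eq_one_iff _).2 (hcon x hx)))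
    refine (QuotientGroup.eq_one_iff _).1 ?_
    show π (cm d x) = 1
    rw [map_cm, hd, map_pow]
    exact cm_eq_one.2 (hc.pow_left _)
  have hdQ : d ∈ Subgroup.centralizer (Q : Set G) := by
    refine Coprime.le_centralizer_of_frattini (A := Subgroup.zpowers d) (K := Q)
      (by rw [Subgroup.normalizer_eq_top]; exact le_top) ?_ ?_ (Subgroup.mem_zpowers _)
    · obtain ⟨i, hi⟩ := IsPGroup.iff_card.1 (h.two.to_subgroup (frattini Q))
      rw [Nat.card_zpowers, hi]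
      exact (Nat.Coprime.coprime_dvd_left (orderOf_dvd_of_pow_eq_one hd7) (by norm_num)).pow_right i
    · intro a ha q hq
      refine hP ?_
      let π := QuotientGroup.mk' (rad Q Q)
      have hc : Commute (π d) (π q) := cm_eq_one.1 ((map_cm π d q).symm.trans ((QuotientGroup.eq_one_iff _).2 (hdC q hq)))
      obtain ⟨i, rfl⟩ := Subgroup.mem_zpowers_iff.1 ha
      refine (QuotientGroup.eq_one_iff _).1 ?_
      show π (d ^ i * q * (d ^ i)⁻¹ * q⁻¹) = 1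
      rw [map_mul, map_mul, map_mul, map_inv, map_inv, map_zpow, (hc.zpow_left i).eq, mul_inv_cancel_right,
        mul_inv_cancel]
  have hdker : Φ d = 1 := h.mem.1 (hcent hdQ)
  apply hfQ
  rw [h.mem]
  have hf7' : Φ f ^ 7 = 1 := by rw [← map_pow]; exact h.mem.1 hf7
  have hdk : Φ f ^ 2 ^ j = 1 := by rw [← map_pow]; exact hdker
  rw [← orderOf_eq_one_iff]
  exact Nat.eq_one_of_dvd_coprimes ((by norm_num : Nat.Coprime 2 7).pow_left j)
    (orderOf_dvd_of_pow_eq_one hdk) (orderOf_dvd_of_pow_eq_one hf7')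

/-- The conclusion. -/
theorem radical_structure (hcent : Subgroup.centralizer (Q : Set G) ≤ Q) :
    (((∀ a ∈ Q, a * a = 1) ∧ (Nat.card Q = 8 ∨ Nat.card Q = 16))) ∨
      Nonempty (Q ≃* Multiplicative (ZMod 4) × (Fin 3 → Multiplicative (ZMod 2))) := by
  classical
  haveI hQn := h.normal
  haveI hPn := rad_normal Q Q
  haveI hRn := rad_normal Q (rad Q Q)
  haveI hR2n := rad_normal Q (rad Q (rad Q Q))
  obtain ⟨f, hf⟩ := h.surj (ge * (gp * ge * gp⁻¹) * (gp⁻¹ * ge * gp))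
  have hf7 : f ^ 7 ∈ Q := by rw [h.mem, map_pow, hf]; exact three_orders.1
  have hfQ : f ∉ Q := fun e => three_orders.2.1 (hf ▸ h.mem.1 e)
  obtain ⟨q0, hq0, hq0'⟩ := h.nontrivial_top hcent hf7 hfQ
  set P := rad Q Q with hPd
  set R := rad Q P with hRd
  set R2 := rad Q R with hR2d
  have hPQ : P ≤ Q := rad_le Q Q
  have hRP : R ≤ P := rad_le Q P
  have hR2R : R2 ≤ R := rad_le Q R
  let πP := QuotientGroup.mk' P
  have hPsq : ∀ q ∈ Q, q * q ∈ P := fun q hq => sq_mem_rad hq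
  haveI : (Q.map πP).Normal := Subgroup.Normal.map inferInstance _ (QuotientGroup.mk'_surjective P)
  have hVexp : ∀ a ∈ Q.map πP, a * a = 1 := by
    rintro _ ⟨k, hk, rfl⟩
    rw [← map_mul]
    exact (QuotientGroup.eq_one_iff _).2 (hPsq k hk)
  have hπf : ∀ {q : G}, cm f q ∈ P ↔ πP f * πP q = πP q * πP f := fun {q} => by
    rw [← cm_eq_one, ← map_cm]; exact (QuotientGroup.eq_one_iff _).symm
  obtain ⟨_, ⟨v, hv, rfl⟩, hinj, -, hrel, hcase⟩ := normal_seven (Q.map πP) hVexp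
    (A5Radical.card_le_sixteen (A5Radical.sectional_map πP (QuotientGroup.mk'_surjective P) h.rank) _ hVexp) (πP f)
    (by rintro _ ⟨k, hk, rfl⟩; rw [← map_pow]; exact comm_of_exp hVexp ⟨_, hf7, rfl⟩ ⟨k, hk, rfl⟩)
    ⟨πP q0, ⟨q0, hq0, rfl⟩, fun e => hq0' (hπf.2 e)⟩
  have hbQ := hQn.conj_mem v hv f
  have hcQ := hQn.conj_mem _ hbQ f
  have hcbQ : ∀ x, cb f v x ∈ Q := cb_mem hv f
  obtain ⟨z0, hz0, hz0f, hcov, hV, h8z⟩ : ∃ z0 ∈ Q, z0⁻¹ * (f * z0 * f⁻¹) ∈ P ∧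
      (∀ q ∈ Q, ∃ x, (cb f v x)⁻¹ * q ∈ P ∨ (z0 * cb f v x)⁻¹ * q ∈ P) ∧
      (Nat.card (Q.map πP) = 8 ∨ Nat.card (Q.map πP) = 16) ∧ (Nat.card (Q.map πP) = 8 → z0 = 1) := by
    rcases hcase with ⟨h8, honto, -⟩ | ⟨h16, _, ⟨z, hz, rfl⟩, hzf, -, -, hc⟩
    · refine ⟨1, one_mem Q, by simp, fun q hq => (honto (πP q) ⟨q, hq, rfl⟩).imp fun x hx => Or.inl ?_, Or.inl h8,
        fun _ => rfl⟩
      exact QuotientGroup.eq.1 (by show πP (cb f v x) = πP q; rw [map_cb, hx])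
    · refine ⟨z, hz, ?_, fun q hq => (hc (πP q) ⟨q, hq, rfl⟩).imp fun x hx => hx.imp (fun e => ?_) fun e => ?_,
        Or.inr h16, fun e => by omega⟩
      · exact QuotientGroup.eq.1 (by show πP z = πP (f * z * f⁻¹); rw [map_mul, map_mul, map_inv, hzf, mul_inv_cancel_right])
      · exact QuotientGroup.eq.1 (by show πP (cb f v x) = πP q; rw [map_cb, e])
      · exact QuotientGroup.eq.1 (by show πP (z * cb f v x) = πP q; rw [map_mul, map_cb, e])
  have hrelP : (v * (f * v * f⁻¹))⁻¹ * (f * (f * (f * v * f⁻¹) * f⁻¹) * f⁻¹) ∈ P ∨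
      (v * (f * (f * v * f⁻¹) * f⁻¹))⁻¹ * (f * (f * (f * v * f⁻¹) * f⁻¹) * f⁻¹) ∈ P :=
    hrel.imp (fun e => QuotientGroup.eq.1 (Eq.symm (show πP _ = πP _ by simpa only [← map_mul, ← map_inv] using e)))
      fun e => QuotientGroup.eq.1 (Eq.symm (show πP _ = πP _ by simpa only [← map_mul, ← map_inv] using e))
  -- the first layer is trivial
  let ρ := QuotientGroup.mk' R
  have hρ1 : ∀ x, ρ x = 1 ↔ x ∈ R := fun x => QuotientGroup.eq_one_iff x
  haveI : (Q.map ρ).Normal := Subgroup.Normal.map inferInstance _ (QuotientGroup.mk'_surjective R)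
  have hUexp : ∀ a ∈ P.map ρ, a * a = 1 := by
    rintro _ ⟨p, hp, rfl⟩
    rw [← map_mul]; exact (hρ1 _).2 (sq_mem_rad hp)
  have hUcen : ∀ a ∈ P.map ρ, ∀ b ∈ Q.map ρ, b * a = a * b := by
    rintro _ ⟨p, hp, rfl⟩ _ ⟨q, hq, rfl⟩
    exact (cm_eq_one.1 ((map_cm ρ p q).symm.trans ((hρ1 _).2 (cm_mem_rad hp hq)))).symm
  have hUsq : ∀ a ∈ Q.map ρ, a * a ∈ P.map ρ := by
    rintro _ ⟨q, hq, rfl⟩
    exact ⟨q * q, hPsq q hq, map_mul ρ q q⟩
  have hkerP : ∀ x, ρ x ∈ P.map ρ → x ∈ P := by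
    rintro x ⟨p, hp, hpx⟩
    have := mul_mem hp (hRP (QuotientGroup.eq.1 hpx))
    rwa [mul_inv_cancel_left] at this
  have htriv : ∀ a ∈ P.map ρ, ρ f * a = a * ρ f := by
    by_contra hcon
    push Not at hcon
    have L : Layer (Q.map ρ) (P.map ρ) _ (ρ f) :=
      { ctx := h.quotient R (hRP.trans hPQ)
        un := Subgroup.Normal.map hPn _ (QuotientGroup.mk'_surjective R)
        le := Subgroup.map_mono hPQ
        exp := hUexp
        cen := hUcen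
        sq := hUsq
        gen := fun T hT => Subgroup.map_le_iff_le_comap.2 ((Subgroup.closure_le _).2 (by
          have hsq : ∀ q ∈ Q, q * q ∈ T.comap ρ := fun q hq => by
            show ρ (q * q) ∈ T
            rw [map_mul]; exact hT _ ⟨q, hq, rfl⟩
          rintro x (⟨k, hk, rfl⟩ | ⟨k, hk, q, hq, rfl⟩)
          · exact hsq k hk
          · rw [A5Radical.cm_eq_squares]
            exact mul_mem (mul_mem (hsq _ (inv_mem hk)) (hsq _ (mul_mem hk (inv_mem hq)))) (hsq _ hq)))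
        f7 := ⟨f ^ 7, hf7, map_pow ρ f 7⟩
        fQ := by
          rintro ⟨q, hq, hqf⟩
          have := mul_mem hq (hPQ (hRP (QuotientGroup.eq.1 hqf)))
          rw [mul_inv_cancel_left] at this
          exact hfQ this
        top := ⟨ρ q0, ⟨q0, hq0, rfl⟩, fun e => hq0' (hkerP _ (by rw [map_cm]; exact e))⟩
        low := hcon }
    exact L.layer_false
  have hmapcov : ∀ {H : Type _} [Group H] (ν : G →* H), ∀ a ∈ Q.map ν,
      ∃ x, (cb (ν f) (ν v) x)⁻¹ * a ∈ P.map ν ∨ (ν z0 * cb (ν f) (ν v) x)⁻¹ * a ∈ P.map ν := by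
    intro H _ ν a ha
    obtain ⟨q, hq, rfl⟩ := ha
    refine (hcov q hq).imp fun x hx => hx.imp (fun e => ⟨_, e, ?_⟩) fun e => ⟨_, e, ?_⟩ <;> simp [map_cb]
  have hmaprel : ∀ {H : Type _} [Group H] (ν : G →* H),
      (ν v * (ν f * ν v * (ν f)⁻¹))⁻¹ * (ν f * (ν f * (ν f * ν v * (ν f)⁻¹) * (ν f)⁻¹) * (ν f)⁻¹) ∈ P.map ν ∨
      (ν v * (ν f * (ν f * ν v * (ν f)⁻¹) * (ν f)⁻¹))⁻¹ *
        (ν f * (ν f * (ν f * ν v * (ν f)⁻¹) * (ν f)⁻¹) * (ν f)⁻¹) ∈ P.map ν := by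
    intro H _ ν
    refine hrelP.imp (fun e => ⟨_, e, ?_⟩) fun e => ⟨_, e, ?_⟩ <;> simp
  have hmapz : ∀ {H : Type _} [Group H] (ν : G →* H), (ν z0)⁻¹ * (ν f * ν z0 * (ν f)⁻¹) ∈ P.map ν := by
    intro H _ ν
    exact ⟨_, hz0f, by simp⟩
  have hsqcm : ∀ a ∈ Q.map ρ, ∀ b ∈ Q.map ρ, cm a b ∈ P.map ρ := fun a ha b hb => by
    rw [A5Radical.cm_eq_squares]
    exact mul_mem (mul_mem (hUsq _ (inv_mem ha)) (hUsq _ (mul_mem ha (inv_mem hb)))) (hUsq _ hb)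
  have hcommR := triv_comm (Q.map ρ) (P.map ρ) (Subgroup.map_mono hPQ) hUcen (ρ f)
    (fun a ha b hb => ⟨hUexp _ (hsqcm a ha b hb), htriv _ (hsqcm a ha b hb), hUcen _ (hsqcm a ha b hb)⟩)
    (v := ρ v) (z := ρ z0) ⟨v, hv, rfl⟩ ⟨z0, hz0, rfl⟩ (hmapz ρ) (hmaprel ρ) (hmapcov ρ)
  have hsqR : ∀ x, cb f v x * cb f v x ∈ R := fun x => by
    rw [← hρ1, map_mul, map_cb]
    exact triv_sq (Q.map ρ) (P.map ρ) (Subgroup.map_mono hPQ) hUexp hUsq hcommR (ρ f) htriv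
      (v := ρ v) ⟨v, hv, rfl⟩ (hmaprel ρ) x
  set z := z0 * z0 with hzd
  have hzP : z ∈ P := hPsq z0 hz0
  have hsquares : ∀ q ∈ Q, q * q ∈ R ∨ z⁻¹ * (q * q) ∈ R := by
    intro q hq
    obtain ⟨x, hx | hx⟩ := hcov q hq
    · left
      rw [← hρ1, map_mul, show ρ q = ρ (cb f v x) * ρ ((cb f v x)⁻¹ * q) by rw [← map_mul, mul_inv_cancel_left],
        swap_mid (hcommR _ ⟨_, hPQ hx, rfl⟩ _ ⟨_, hcbQ x, rfl⟩), hUexp _ ⟨_, hx, rfl⟩, mul_one, ← map_mul, hρ1]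
      exact hsqR x
    · right
      refine QuotientGroup.eq.1 ?_
      show ρ z = ρ (q * q)
      rw [map_mul ρ q q, show ρ q = ρ (z0 * cb f v x) * ρ ((z0 * cb f v x)⁻¹ * q) by rw [← map_mul, mul_inv_cancel_left],
        swap_mid (hcommR _ ⟨_, hPQ hx, rfl⟩ _ ⟨_, mul_mem hz0 (hcbQ x), rfl⟩), hUexp _ ⟨_, hx, rfl⟩, mul_one,
        map_mul ρ z0 (cb f v x), swap_mid (hcommR _ ⟨_, hcbQ x, rfl⟩ _ ⟨z0, hz0, rfl⟩),
        ← map_mul ρ (cb f v x) (cb f v x), (hρ1 _).2 (hsqR x), mul_one, hzd, map_mul]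
  -- `P` modulo `R`
  have hPR : ∀ p ∈ P, p ∈ R ∨ z⁻¹ * p ∈ R := by
    have hle : P.map ρ ≤ Subgroup.zpowers (ρ z) := by
      refine Subgroup.map_le_iff_le_comap.2 ((Subgroup.closure_le _).2 ?_)
      have hsq : ∀ q ∈ Q, q * q ∈ (Subgroup.zpowers (ρ z)).comap ρ := fun q hq => by
        show ρ (q * q) ∈ Subgroup.zpowers (ρ z)
        rcases hsquares q hq with e | e
        · rw [(hρ1 _).2 e]; exact one_mem _
        · rw [show ρ (q * q) = ρ z from (QuotientGroup.eq.2 e).symm]; exact Subgroup.mem_zpowers _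
      rintro x (⟨k, hk, rfl⟩ | ⟨k, hk, q, hq, rfl⟩)
      · exact hsq k hk
      · rw [A5Radical.cm_eq_squares]
        exact mul_mem (mul_mem (hsq _ (inv_mem hk)) (hsq _ (mul_mem hk (inv_mem hq)))) (hsq _ hq)
    intro p hp
    obtain ⟨i, hi⟩ := Subgroup.mem_zpowers_iff.1 (hle ⟨p, hp, rfl⟩)
    have h2 : ρ z ^ (2 : ℤ) = 1 := by rw [zpow_two]; exact hUexp _ ⟨z, hzP, rfl⟩
    rcases Int.even_or_odd i with ⟨j, rfl⟩ | ⟨j, rfl⟩
    · rw [← two_mul, zpow_mul, h2, one_zpow] at hi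
      exact Or.inl ((hρ1 p).1 hi.symm)
    · rw [zpow_add, zpow_mul, h2, one_zpow, one_mul, zpow_one] at hi
      exact Or.inr (QuotientGroup.eq.1 hi)
  have hQcard : Nat.card Q = Nat.card (Q.map πP) * Nat.card P := card_eq_map_mul P Q hPQ
  by_cases hP0 : P = ⊥
  · left
    refine ⟨fun a ha => Subgroup.mem_bot.1 (hP0 ▸ hPsq a ha), ?_⟩
    rw [hQcard, Subgroup.card_eq_one.2 hP0, mul_one]
    exact hV
  have hzR : z ∉ R := fun hm => rad_ne Q P h.two hPQ hP0 (le_antisymm hRP fun p hp => (hPR p hp).elim id fun e => by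
    have := mul_mem hm e; rwa [mul_inv_cancel_left] at this)
  have hV16 : Nat.card (Q.map πP) = 16 := hV.resolve_left fun e => hzR (by
    rw [hzd, h8z e, one_mul]; exact one_mem R)
  by_cases hR0 : R = ⊥
  · right
    have hR1 : ∀ {x : G}, x ∈ R → x = 1 := fun hx => Subgroup.mem_bot.1 (hR0 ▸ hx)
    have hcommQ : ∀ a ∈ Q, ∀ b ∈ Q, a * b = b * a := fun a ha b hb => cm_eq_one.1 (hR1 ((hρ1 _).1 (by
      rw [map_cm]; exact cm_eq_one.2 (hcommR _ ⟨a, ha, rfl⟩ _ ⟨b, hb, rfl⟩))))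
    letI : CommGroup Q := { (inferInstance : Group Q) with mul_comm := fun a b => Subtype.ext (hcommQ a a.2 b b.2) }
    let zQ : Q := ⟨z0, hz0⟩
    let vQ : Q := ⟨v, hv⟩
    let σ : MulAut Q := MulAut.conjNormal f
    have hcbσ : ∀ x, ((cmb σ vQ x : Q) : G) = cb f v x := fun x => rfl
    have hgen2 : ∀ g : Q, (g : G) ∈ P → g = 1 ∨ g = zQ * zQ := fun g hg =>
      (hPR g hg).imp (fun e => Subtype.ext (hR1 e)) fun e => Subtype.ext (inv_mul_eq_one.1 (hR1 e)).symm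
    have h4 : zQ ^ 4 = 1 := Subtype.ext (by
      rw [SubgroupClass.coe_pow, OneMemClass.coe_one, show (4 : ℕ) = 2 * 2 from rfl, pow_mul, pow_two z0,
        pow_two]
      exact hR1 (sq_mem_rad hzP))
    have hpow4 : ∀ i j : ZMod 4, zQ ^ (i + j).val = zQ ^ i.val * zQ ^ j.val := fun i j => by
      rw [← pow_add, ZMod.val_add, ← pow_eq_pow_mod _ h4]
    have hsq1 : ∀ w : Nat3, cmb σ vQ w * cmb σ vQ w = 1 := fun w => Subtype.ext (hR1 (hsqR w))
    have hv1 : vQ * vQ = 1 := by simpa [cmb, va, ZMod.val_one] using hsq1 va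
    have hv2 : σ vQ * σ vQ = 1 := by rw [← map_mul, hv1, map_one]
    have hv3 : σ (σ vQ) * σ (σ vQ) = 1 := by rw [← map_mul, hv2, map_one]
    have hpow2 : ∀ (w : Q), w * w = 1 → ∀ a b : ZMod 2, w ^ (a + b).val = w ^ a.val * w ^ b.val := fun w hw a b => by
      rw [← pow_add, ZMod.val_add, ← pow_eq_pow_mod _ (by rw [pow_two]; exact hw)]
    have hcbadd : ∀ x y, cmb σ vQ (x + y) = cmb σ vQ x * cmb σ vQ y := fun x y => by
      simp only [cmb, Pi.add_apply, hpow2 _ hv1, hpow2 _ hv2, hpow2 _ hv3]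
      rw [mul_mul_mul_comm (vQ ^ _) (vQ ^ _), mul_mul_mul_comm]
    let tw : (Fin 3 → Multiplicative (ZMod 2)) → Nat3 := fun x i => Multiplicative.toAdd (x i)
    let ψ : Multiplicative (ZMod 4) × (Fin 3 → Multiplicative (ZMod 2)) →* Q :=
      MonoidHom.mk' (fun q => zQ ^ (Multiplicative.toAdd q.1).val * cmb σ vQ (tw q.2)) fun q q' => by
        show zQ ^ (Multiplicative.toAdd (q.1 * q'.1)).val * cmb σ vQ (tw (q.2 * q'.2)) = _
        rw [toAdd_mul, hpow4, show tw (q.2 * q'.2) = tw q.2 + tw q'.2 from rfl, hcbadd, mul_mul_mul_comm]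
    have honto : Function.Surjective ψ := by
      rintro ⟨q, hq⟩
      have hex : ∃ i : ZMod 4, ∃ x, (⟨q, hq⟩ : Q) = zQ ^ i.val * cmb σ vQ x := by
        obtain ⟨x, hx | hx⟩ := hcov q hq
        · rcases hgen2 ((cmb σ vQ x)⁻¹ * (⟨q, hq⟩ : Q)) hx with e | e
          · exact ⟨0, x, by rw [ZMod.val_zero, pow_zero, one_mul, ← inv_mul_eq_one.1 e]⟩
          · exact ⟨2, x, by rw [show (2 : ZMod 4).val = 2 from rfl, pow_two, ← e, mul_comm ((cmb σ vQ x)⁻¹ * _),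
              mul_inv_cancel_left]⟩
        · rcases hgen2 ((zQ * cmb σ vQ x)⁻¹ * (⟨q, hq⟩ : Q)) hx with e | e
          · exact ⟨1, x, by rw [show (1 : ZMod 4).val = 1 from rfl, pow_one, ← inv_mul_eq_one.1 e]⟩
          · refine ⟨3, x, ?_⟩
            rw [show (3 : ZMod 4).val = 2 + 1 from rfl, pow_add, pow_two, pow_one, mul_assoc, ← e,
              mul_comm _ (zQ * cmb σ vQ x), mul_inv_cancel_left]
      obtain ⟨i, x, hix⟩ := hex
      exact ⟨(Multiplicative.ofAdd i, fun k => Multiplicative.ofAdd (x k)), hix.symm⟩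
    have hP2 : Nat.card P = 2 := by
      have hPe : P = Subgroup.zpowers z := by
        refine le_antisymm (fun p hp => ?_) (Subgroup.zpowers_le.2 hzP)
        rcases hPR p hp with e | e
        · rw [hR1 e]; exact one_mem _
        · rw [← inv_mul_eq_one.1 (hR1 e)]; exact Subgroup.mem_zpowers _
      rw [hPe, Nat.card_zpowers]
      exact orderOf_eq_prime (by rw [pow_two]; exact hR1 (sq_mem_rad hzP)) fun e => hzR (e ▸ one_mem R)
    have hcard : Nat.card (Multiplicative (ZMod 4) × (Fin 3 → Multiplicative (ZMod 2))) = Nat.card Q := by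
      rw [hQcard, hV16, hP2, Nat.card_eq_fintype_card]; rfl
    exact ⟨(MulEquiv.ofBijective ψ ((Nat.bijective_iff_surjective_and_card ψ).2 ⟨honto, hcard⟩)).symm⟩
  -- `R` non-trivial is impossible
  exfalso
  have hR2ne := rad_ne Q R h.two (hRP.trans hPQ) hR0
  let ν := QuotientGroup.mk' R2
  have hν1 : ∀ x, ν x = 1 ↔ x ∈ R2 := fun x => QuotientGroup.eq_one_iff x
  haveI : (Q.map ν).Normal := Subgroup.Normal.map inferInstance _ (QuotientGroup.mk'_surjective R2)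
  have hWexp : ∀ r ∈ R, ν r * ν r = 1 := fun r hr => by rw [← map_mul]; exact (hν1 _).2 (sq_mem_rad hr)
  have hWcen : ∀ r ∈ R, ∀ q ∈ Q, ν q * ν r = ν r * ν q := fun r hr q hq =>
    (cm_eq_one.1 ((map_cm ν r q).symm.trans ((hν1 _).2 (cm_mem_rad hr hq)))).symm
  have hcmR : ∀ a ∈ Q, ∀ b ∈ Q, cm a b ∈ R := fun a ha b hb => (hρ1 _).1 (by
    rw [map_cm]; exact cm_eq_one.2 (hcommR _ ⟨a, ha, rfl⟩ _ ⟨b, hb, rfl⟩))
  set Z := ν z0 with hZ
  set w := ν z * ν z with hwd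
  have hzcen : ∀ q ∈ Q, ν q * ν z = ν z * ν q := fun q hq => by
    have hsw : ν q * Z = Z * ν q * ν (cm q z0) := by rw [hZ, ← map_mul, ← map_mul, ← map_mul]; simp [cm, mul_assoc]
    have hr := hcmR q hq z0 hz0
    have hc := hWcen _ hr z0 hz0
    calc ν q * ν z = ν q * Z * Z := by rw [hzd, map_mul, ← mul_assoc]
      _ = Z * ν q * (ν (cm q z0) * Z) := by rw [hsw, mul_assoc]
      _ = Z * (ν q * Z) * ν (cm q z0) := by rw [← hc, mul_assoc, ← mul_assoc (ν q), ← mul_assoc Z]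
      _ = Z * Z * ν q * (ν (cm q z0) * ν (cm q z0)) := by rw [hsw]; simp [mul_assoc]
      _ = ν z * ν q := by rw [hWexp _ hr, mul_one, hzd, map_mul]
  have hPcases : ∀ p ∈ P, ∃ r ∈ R, p = r ∨ p = z * r := fun p hp => by
    rcases hPR p hp with e | e
    · exact ⟨p, e, Or.inl rfl⟩
    · exact ⟨_, e, Or.inr (mul_inv_cancel_left z p).symm⟩
  have hPcen : ∀ p ∈ P, ∀ q ∈ Q, ν q * ν p = ν p * ν q := fun p hp q hq => by
    obtain ⟨r, hr, rfl | rfl⟩ := hPcases p hp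
    · exact hWcen _ hr q hq
    · rw [map_mul, ← mul_assoc, hzcen q hq, mul_assoc, hWcen r hr q hq, ← mul_assoc]
  have hRle : R.map ν ≤ Subgroup.zpowers w := by
    refine Subgroup.map_le_iff_le_comap.2 ((Subgroup.closure_le _).2 ?_)
    rintro x (⟨p, hp, rfl⟩ | ⟨p, hp, q, hq, rfl⟩)
    · show ν (p * p) ∈ Subgroup.zpowers w
      obtain ⟨r, hr, rfl | rfl⟩ := hPcases p hp
      · rw [map_mul, hWexp _ hr]; exact one_mem _
      · rw [map_mul, map_mul, swap_mid (hWcen r hr z (hPQ hzP)).symm, hWexp r hr, mul_one]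
        exact Subgroup.mem_zpowers _
    · show ν (cm p q) ∈ Subgroup.zpowers w
      rw [map_cm, cm_eq_one.2 (hPcen p hp q hq).symm]
      exact one_mem _
  have hzzR : z * z ∈ R := sq_mem_rad hzP
  have hw2 : w * w = 1 := by rw [hwd, ← map_mul]; exact hWexp _ hzzR
  have hW01 : ∀ r ∈ R, ν r = 1 ∨ ν r = w := fun r hr => by
    obtain ⟨i, hi⟩ := Subgroup.mem_zpowers_iff.1 (hRle ⟨r, hr, rfl⟩)
    rw [← hi]
    have h2 : w ^ (2 : ℤ) = 1 := by rw [zpow_two]; exact hw2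
    rcases Int.even_or_odd i with ⟨j, rfl⟩ | ⟨j, rfl⟩
    · left; rw [← two_mul, zpow_mul, h2, one_zpow]
    · right; rw [zpow_add, zpow_mul, h2, one_zpow, one_mul, zpow_one]
  have hw1 : w ≠ 1 := fun e => hR2ne (le_antisymm hR2R fun r hr => (hν1 r).1 ((hW01 r hr).elim id fun e' => e'.trans e))
  have hwcent : ∀ g : G ⧸ R2, g * w = w * g := by
    intro g
    obtain ⟨y, rfl⟩ := QuotientGroup.mk'_surjective R2 g
    have h1 : y * (z * z) * y⁻¹ ∈ R := hRn.conj_mem _ hzzR y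
    rcases hW01 _ h1 with e | e
    · exfalso
      have hwν : w = ν (z * z) := (map_mul ν z z).symm
      rw [map_mul, map_mul, map_inv, ← hwν] at e
      exact hw1 (by
        rw [mul_inv_eq_one, mul_eq_left] at e
        exact e)
    · rw [map_mul, map_mul, map_inv, map_mul, ← hwd, mul_inv_eq_iff_eq_mul] at e
      exact e
  have hPfix : ∀ g : G, ∀ r ∈ R, ν g * ν r = ν r * ν g := fun g r hr => by
    rcases hW01 r hr with e | e <;> rw [e]
    · rw [mul_one, one_mul]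
    · exact hwcent _
  have hcomm2 := triv_comm (Q.map ν) (P.map ν) (Subgroup.map_mono hPQ)
    (by rintro _ ⟨p, hp, rfl⟩ _ ⟨q, hq, rfl⟩; exact hPcen p hp q hq) (ν f)
    (by
      rintro _ ⟨a, ha, rfl⟩ _ ⟨b, hb, rfl⟩
      rw [← map_cm]
      refine ⟨hWexp _ (hcmR a ha b hb), hPfix f _ (hcmR a ha b hb), ?_⟩
      rintro _ ⟨q, hq, rfl⟩
      exact hWcen _ (hcmR a ha b hb) q hq)
    (v := ν v) (z := ν z0) ⟨v, hv, rfl⟩ ⟨z0, hz0, rfl⟩ (hmapz ν) (hmaprel ν) (hmapcov ν)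
  have hctx := h.quotient R2 (hR2R.trans (hRP.trans hPQ))
  -- `z` is central
  have hfz : ν f * ν z = ν z * ν f := by
    have hzQ : ν z ∈ Q.map ν := ⟨z, hPQ hzP, rfl⟩
    set p := z0⁻¹ * (f * z0 * f⁻¹) with hpd
    have h1 : ν f * ν z * (ν f)⁻¹ = ν z * (ν p * ν p) := by
      rw [← map_inv, ← map_mul, ← map_mul, show f * z * f⁻¹ = z0 * p * (z0 * p) by simp [hpd, hzd, mul_assoc],
        map_mul, map_mul, swap_mid (hPcen p hz0f z0 hz0).symm, hzd, ← map_mul ν z0 z0]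
    have hpp : ν p * ν p = 1 ∨ ν p * ν p = w := by rw [← map_mul]; exact hW01 _ (sq_mem_rad hz0f)
    have hn : ∀ n : ℕ, ν f ^ n * ν z * (ν f ^ n)⁻¹ = ν z * (ν p * ν p) ^ n := fun n => by
      induction n with
      | zero => simp
      | succ n ih =>
        have hc : ν f * (ν p * ν p) = ν p * ν p * ν f := by
          rcases hpp with e | e <;> rw [e]
          · rw [mul_one, one_mul]
          · exact hwcent _
        calc ν f ^ (n + 1) * ν z * (ν f ^ (n + 1))⁻¹ = ν f * (ν f ^ n * ν z * (ν f ^ n)⁻¹) * (ν f)⁻¹ := by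
              simp [pow_succ', mul_assoc]
          _ = ν f * ν z * (ν f)⁻¹ * (ν f * (ν p * ν p) ^ n * (ν f)⁻¹) := by rw [ih]; simp [mul_assoc]
          _ = _ := by
            rw [h1, ((show Commute (ν f) (ν p * ν p) from hc).pow_right n).eq, mul_inv_cancel_right, mul_assoc,
              ← pow_succ']
    have h7 := hn 7
    rw [← map_pow, hcomm2 _ ⟨_, hf7, rfl⟩ _ hzQ, mul_inv_cancel_right, left_eq_mul] at h7
    have hpp1 : ν p * ν p = 1 := by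
      rcases hpp with e | e
      · exact e
      · rw [e, show (7 : ℕ) = 2 * 3 + 1 from rfl, pow_succ, pow_mul, pow_two, hw2, one_pow, one_mul] at h7
        exact absurd h7 hw1
    rw [hpp1, mul_one] at h1
    exact mul_inv_eq_iff_eq_mul.1 h1
  haveI : (P.map ν).Normal := Subgroup.Normal.map hPn _ (QuotientGroup.mk'_surjective R2)
  have hfQ' : ν f ∉ Q.map ν := by
    rintro ⟨q, hq, hqf⟩
    have := mul_mem hq (hPQ (hRP (hR2R (QuotientGroup.eq.1 hqf))))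
    rw [mul_inv_cancel_left] at this
    exact hfQ this
  have hzall : ∀ g, g * ν z = ν z * g := fun g =>
    hctx.centralizes (P.map ν) (by rintro _ ⟨q, hq, rfl⟩ _ ⟨p, hp, rfl⟩; exact hPcen p hp q hq) hfQ' (by
      rintro _ ⟨p, hp, rfl⟩
      obtain ⟨r, hr, rfl | rfl⟩ := hPcases p hp
      · exact hPfix f _ hr
      · rw [map_mul, ← mul_assoc, hfz, mul_assoc, hPfix f r hr, ← mul_assoc]) g (ν z) ⟨z, hzP, rfl⟩
  -- the involutions
  have hcomm2' : ∀ a ∈ Q, ∀ b ∈ Q, ν a * ν b = ν b * ν a := fun a ha b hb => hcomm2 _ ⟨a, ha, rfl⟩ _ ⟨b, hb, rfl⟩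
  let Ω : Subgroup (G ⧸ R2) :=
    { carrier := {a | a ∈ Q.map ν ∧ a * a = 1}
      one_mem' := ⟨one_mem _, one_mul 1⟩
      mul_mem' := fun {a b} ha hb => ⟨mul_mem ha.1 hb.1, by
        rw [swap_mid (hcomm2 b hb.1 a ha.1), ha.2, hb.2, one_mul]⟩
      inv_mem' := fun {a} ha => ⟨inv_mem ha.1, by rw [← mul_inv_rev, ha.2, inv_one]⟩ }
  haveI hΩn : Ω.Normal := ⟨fun x hx g => ⟨(inferInstance : (Q.map ν).Normal).conj_mem x hx.1 g, by
    rw [show g * x * g⁻¹ * (g * x * g⁻¹) = g * (x * x) * g⁻¹ by simp [mul_assoc], hx.2]; simp⟩⟩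
  let W : Subgroup (G ⧸ R2) := R.map ν
  haveI : W.Normal := Subgroup.Normal.map hRn _ (QuotientGroup.mk'_surjective R2)
  have hWΩ : W ≤ Ω := by
    rintro _ ⟨r, hr, rfl⟩
    exact ⟨⟨r, hPQ (hRP hr), rfl⟩, hWexp r hr⟩
  have hW : ∀ a ∈ W, a = 1 ∨ a = w := by rintro _ ⟨r, hr, rfl⟩; exact hW01 r hr
  have hZQ : Z ∈ Q.map ν := ⟨z0, hz0, rfl⟩
  have hzZ : ν z = Z * Z := by rw [hzd, map_mul]
  have ht : ∀ x, ∃ t ∈ Ω, ∃ i : ℤ, ν (cb f v x) = ν z ^ i * t := fun x => by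
    have hm : ν (cb f v x) ∈ Q.map ν := ⟨_, hcbQ x, rfl⟩
    rcases hW01 _ (hsqR x) with e | e
    · exact ⟨_, ⟨hm, by rw [← map_mul]; exact e⟩, 0, by rw [zpow_zero, one_mul]⟩
    · refine ⟨(ν z)⁻¹ * ν (cb f v x), ⟨mul_mem (inv_mem ⟨z, hPQ hzP, rfl⟩) hm, ?_⟩, 1, by rw [zpow_one, mul_inv_cancel_left]⟩
      rw [swap_mid (hcomm2 _ hm _ (inv_mem ⟨z, hPQ hzP, rfl⟩)), ← map_mul ν (cb f v x), e, ← mul_inv_rev, inv_mul_cancel]
  choose t htΩ ti hti using ht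
  have hgen : ∀ a ∈ Q.map ν, ∃ x, ∃ i : ℤ, ∃ r ∈ W, a = Z ^ i * (t x * r) := by
    rintro _ ⟨q, hq, rfl⟩
    have hp : ∀ p ∈ P, ∃ j : ℤ, ∃ r ∈ W, ν p = ν z ^ j * r := fun p hp => by
      obtain ⟨r, hr, rfl | rfl⟩ := hPcases p hp
      · exact ⟨0, ν p, ⟨p, hr, rfl⟩, by rw [zpow_zero, one_mul]⟩
      · exact ⟨1, ν r, ⟨r, hr, rfl⟩, by rw [zpow_one, map_mul]⟩
    have hcz : ∀ j : ℤ, ∀ a, a * ν z ^ j = ν z ^ j * a := fun j a =>
      ((show Commute a (ν z) from hzall a).zpow_right j).eq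
    have hZ2 : ∀ j : ℤ, ν z ^ j = Z ^ (2 * j) := fun j => by rw [zpow_mul, zpow_two, ← hzZ]
    obtain ⟨x, hx | hx⟩ := hcov q hq
    · obtain ⟨j, r, hr, e⟩ := hp _ hx
      refine ⟨x, 2 * (ti x + j), r, hr, ?_⟩
      rw [show ν q = ν (cb f v x) * ν ((cb f v x)⁻¹ * q) by rw [← map_mul, mul_inv_cancel_left], e, hti, mul_assoc,
        ← mul_assoc (t x), hcz j, mul_assoc, ← mul_assoc, ← zpow_add, hZ2]
    · obtain ⟨j, r, hr, e⟩ := hp _ hx
      refine ⟨x, 1 + 2 * (ti x + j), r, hr, ?_⟩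
      rw [show ν q = Z * ν (cb f v x) * ν ((z0 * cb f v x)⁻¹ * q) by
          rw [hZ, ← map_mul, ← map_mul, mul_inv_cancel_left], e, hti, zpow_add, zpow_one, ← hZ2, zpow_add]
      simp only [mul_assoc]
      rw [← mul_assoc (t x) (ν z ^ j), hcz j, mul_assoc]
  have hZ8 : ¬ (Z ^ 2 ^ 2 = 1) := fun e => hw1 (by
    rw [hwd, hzZ]
    simpa [pow_succ, mul_assoc] using e)
  have hordZ : orderOf Z = 8 := by
    haveI : Fact (Nat.Prime 2) := ⟨Nat.prime_two⟩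
    refine (orderOf_eq_prime_pow (n := 2) hZ8 ?_).trans (by norm_num)
    rw [show Z ^ 2 ^ (2 + 1) = (Z * Z * (Z * Z)) * (Z * Z * (Z * Z)) by simp [pow_succ, mul_assoc], ← hzZ, ← hwd]
    exact hw2
  have hΩrep : ∀ a ∈ Ω, ∃ x, (t x)⁻¹ * a ∈ W := fun a ha => by
    obtain ⟨x, i, r, hr, rfl⟩ := hgen a ha.1
    have htr : t x * r ∈ Ω := mul_mem (htΩ x) (hWΩ hr)
    have hZi : Z ^ i ∈ Ω := by
      have := mul_mem ha (inv_mem htr)
      rwa [mul_inv_cancel_right] at this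
    have h8 : (8 : ℤ) ∣ i + i := by
      have := hZi.2
      rw [← zpow_add, ← orderOf_dvd_iff_zpow_eq_one, hordZ] at this
      exact_mod_cast this
    obtain ⟨m, hm⟩ : (4 : ℤ) ∣ i := by omega
    refine ⟨x, ?_⟩
    have hZiW : Z ^ i ∈ W := by
      rw [hm, zpow_mul, show Z ^ (4 : ℤ) = w by
        rw [hwd, hzZ]; simp [zpow_ofNat, pow_succ, mul_assoc]]
      exact zpow_mem (show w ∈ W from ⟨z * z, hzzR, map_mul ν z z⟩) m
    rw [show (t x)⁻¹ * (Z ^ i * (t x * r)) = Z ^ i * r by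
      rw [← mul_assoc (Z ^ i), hcomm2 _ hZi.1 _ (htΩ x).1]; simp [mul_assoc]]
    exact mul_mem hZiW hr
  have htinj : ∀ x y, (t x)⁻¹ * t y ∈ W → x = y := fun x y e => by
    let κ := QuotientGroup.mk' (P.map ν)
    have hzκ : κ (ν z) = 1 := (QuotientGroup.eq_one_iff _).2 ⟨z, hzP, rfl⟩
    have hκx : ∀ x, κ (ν (cb f v x)) = κ (t x) := fun x => by rw [hti, map_mul, map_zpow, hzκ, one_zpow, one_mul]
    have h1 : κ (ν (cb f v x)) = κ (ν (cb f v y)) := by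
      rw [hκx, hκx]
      exact QuotientGroup.eq.2 (Subgroup.map_mono hRP e)
    have h2 := QuotientGroup.eq.1 h1
    rw [← map_inv, ← map_mul] at h2
    obtain ⟨p, hp, hpe⟩ := h2
    have h3 := mul_mem hp (hRP (hR2R (QuotientGroup.eq.1 hpe)))
    rw [mul_inv_cancel_left] at h3
    exact hinj x y (by rw [← map_cb, ← map_cb]; exact QuotientGroup.eq.2 h3)
  have h8 : Nat.card (Ω.map (QuotientGroup.mk' W)) = 8 := by
    rw [← Nat.card_eq_of_bijective (fun x => (⟨QuotientGroup.mk' W (t x), _, htΩ x, rfl⟩ : Ω.map (QuotientGroup.mk' W)))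
      ⟨fun x y e => htinj x y (QuotientGroup.eq.1 (congrArg Subtype.val e)), fun ⟨_, a, ha, rfl⟩ =>
        (hΩrep a ha).imp fun x hx => Subtype.ext (QuotientGroup.eq.2 hx)⟩, Nat.card_eq_fintype_card]
    rfl
  have hne : ∃ k ∈ Ω, cm (ν f) k ∉ W := by
    refine ⟨t va, htΩ va, fun hm => ?_⟩
    have hzc : cm (ν f) (ν (cb f v va)) = cm (ν f) (t va) := by
      rw [hti]
      have hc := (show Commute (ν f) (ν z) from hzall _).zpow_right (ti va)
      simp [cm, mul_assoc]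
      rw [← mul_assoc ((ν z ^ ti va)⁻¹) (ν f), ← hc.inv_right.eq]
      simp [mul_assoc]
    rw [← hzc, ← map_cm] at hm
    obtain ⟨r, hr, hre⟩ := hm
    have h1 : cm f (cb f v va) ∈ P := by
      have := mul_mem (hRP hr) (hRP (hR2R (QuotientGroup.eq.1 hre)))
      rwa [mul_inv_cancel_left] at this
    have h2 : Commute (πP f) (πP (cb f v va)) := hπf.1 h1
    exact absurd (hinj vb va (by
      have h3 : Commute (πP f) (πP v) := by simpa [cb, va, ZMod.val_one] using h2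
      simp [cb, va, vb, ZMod.val_one, h3.eq])) (by decide)
  have hcmΩ : ∀ k ∈ Ω, ∀ q ∈ Q.map ν, cm k q ∈ W := fun k hk q hq => by
    rw [cm_eq_one.2 (hcomm2 k hk.1 q hq)]; exact one_mem _
  obtain ⟨Φ', p, hctx', hc⟩ := hctx.exists_coord (f := ν f) ⟨f ^ 7, hf7, map_pow ν f 7⟩ hfQ' Ω W hWΩ
    (fun k hk => by rw [hk.2]; exact one_mem W) hcmΩ h8 hne
  have hx0c : ∀ g, g * Z * g⁻¹ * Z⁻¹ ∈ Ω := fun g => by
    refine ⟨mul_mem ((inferInstance : (Q.map ν).Normal).conj_mem Z hZQ g) (inv_mem hZQ), ?_⟩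
    rw [swap_mid (hcomm2 _ (inv_mem hZQ) _ ((inferInstance : (Q.map ν).Normal).conj_mem Z hZQ g)),
      show g * Z * g⁻¹ * (g * Z * g⁻¹) = g * (Z * Z) * g⁻¹ by simp [mul_assoc], ← hzZ, hzall g, mul_inv_cancel_right,
      ← mul_inv_rev, ← hzZ, mul_inv_cancel]
  have hgenΩ : ∀ a ∈ Q.map ν, ∃ i : ℤ, (Z ^ i)⁻¹ * a ∈ Ω := fun a ha => by
    obtain ⟨x, i, r, hr, rfl⟩ := hgen a ha
    exact ⟨i, by rw [inv_mul_cancel_left]; exact mul_mem (htΩ x) (hWΩ hr)⟩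
  have hΩiff : ∀ a ∈ Q.map ν, (a ∈ Ω ↔ a * a = 1) := fun a ha => ⟨fun e => e.2, fun e => ⟨ha, e⟩⟩
  exact cyclic_false hctx' Ω W p hc (fun a ha => ha.1) hcomm2 hΩiff Z hZQ hx0c hgenΩ
    (fun g => by rw [← hzZ]; exact hzall g) (by rw [← hzZ]; exact hw1) (by rw [← hzZ]; exact ⟨z * z, hzzR, map_mul ν z z⟩)
    (fun a ha => by rw [← hzZ]; exact hW a ha)

end Ctx

end Cfsg.Agent.L32Radical
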