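import Cfsg.Agent.Lib.A5Radical.Core
import Cfsg.Agent.Lib.L32Radical.Linear

/-!
The setting of a normal 2-subgroup `Q` with quotient `GL₃(2)`, coordinates on sections of order eight and the
counting of elementary sections.
-/

set_option autoImplicit false
set_option linter.unusedSectionVars false
set_option linter.style.haveILetI false

namespace Cfsg.Agent.L32Radical

open A5Radical (cm Cfix mem_Cfix)

variable {G : Type*} [Group G]

/-- `D = ⟨S⟩` modulo a central `C` with squares and squares of products in `C` has order at most 16. -/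
theorem section_le [Finite G] (hsr : Cfsg.SectionalPRankLE 2 4 G) (C : Subgroup G) (S : Set G)
    (hCS : C ≤ Subgroup.closure S) (hcen : ∀ s ∈ S, ∀ c ∈ C, s * c = c * s)
    (hsq : ∀ x ∈ S, x * x ∈ C) (hpair : ∀ x ∈ S, ∀ y ∈ S, x * y * (x * y) ∈ C) :
    Nat.card (Subgroup.closure S) ≤ 16 * Nat.card C := by
  set D := Subgroup.closure S with hD
  have hDC : ∀ d ∈ D, ∀ c ∈ C, d * c = c * d := by
    intro d hd c hc
    have hle : D ≤ Subgroup.centralizer (C : Set G) :=
      (Subgroup.closure_le _).2 fun x hx c hc => (hcen x hx c hc).symm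
    exact (hle hd c hc).symm
  let K : Subgroup D := C.subgroupOf D
  haveI : K.Normal := ⟨fun k hk d => by
    have e : d * k = k * d := Subtype.ext (hDC d d.2 k hk)
    rw [e, mul_inv_cancel_right]
    exact hk⟩
  let p : D →* D ⧸ K := QuotientGroup.mk' K
  have hp1 : ∀ x : D, (x : G) ∈ C → p x = 1 := fun x hx => (QuotientGroup.eq_one_iff x).2 hx
  let S' : Set D := {x | (x : G) ∈ S}
  have hS' : Subgroup.closure S' = ⊤ := Subgroup.closure_closure_coe_preimage (k := S)
  have hsqS : ∀ x ∈ S', p x * p x = 1 := fun x hx => by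
    rw [← map_mul]; exact hp1 _ (hsq _ hx)
  have hcommS : ∀ x ∈ p '' S', ∀ y ∈ p '' S', x * y = y * x := by
    rintro _ ⟨x, hx, rfl⟩ _ ⟨y, hy, rfl⟩
    have h1 : p x * p y * (p x * p y) = 1 := by
      rw [← map_mul, ← map_mul]; exact hp1 _ (hpair _ hx _ hy)
    rw [← inv_eq_of_mul_eq_one_right h1, mul_inv_rev, inv_eq_of_mul_eq_one_right (hsqS x hx),
      inv_eq_of_mul_eq_one_right (hsqS y hy)]
  have htop : Subgroup.closure (p '' S') = ⊤ := by
    rw [← MonoidHom.map_closure, hS', Subgroup.map_top_of_surjective _ (QuotientGroup.mk'_surjective K)]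
  haveI hQc : IsMulCommutative (Subgroup.closure (p '' S')) := Subgroup.isMulCommutative_closure hcommS
  have hQc' : ∀ a b : D ⧸ K, a * b = b * a := fun a b =>
    congrArg Subtype.val (hQc.is_comm.comm ⟨a, htop ▸ Subgroup.mem_top a⟩ ⟨b, htop ▸ Subgroup.mem_top b⟩)
  have hexpQ : ∀ a : D ⧸ K, a ^ 2 = 1 := fun a => by
    induction (htop ▸ Subgroup.mem_top a : a ∈ Subgroup.closure (p '' S')) using Subgroup.closure_induction with
    | mem x hx => obtain ⟨x, hx', rfl⟩ := hx; rw [pow_two, hsqS x hx']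
    | one => exact one_pow 2
    | mul x y _ _ hx hy => rw [Commute.mul_pow (hQc' x y), hx, hy, one_mul]
    | inv x _ hx => rw [inv_pow, hx, inv_one]
  have hbound := hsr D K ⊤ ⟨⟨fun a b => Subtype.ext (hQc' a b)⟩⟩ fun a _ => hexpQ a
  rw [Subgroup.card_top] at hbound
  have hmul := K.card_mul_index
  rw [Subgroup.index_eq_card, Nat.card_congr (Subgroup.subgroupOfEquivOfLe hCS).toEquiv] at hmul
  rw [← hmul, mul_comm]
  exact Nat.mul_le_mul_right _ (by simpa using hbound)

/-- Splitting a cardinality along a normal subgroup. -/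
theorem card_eq_map_mul (N S : Subgroup G) [N.Normal] (hNS : N ≤ S) :
    Nat.card S = Nat.card (S.map (QuotientGroup.mk' N)) * Nat.card N := by
  let g := (QuotientGroup.mk' N).subgroupMap S
  have hg : g.ker = N.subgroupOf S := by
    ext w
    rw [MonoidHom.mem_ker, Subgroup.mem_subgroupOf]
    exact ⟨fun e1 => (QuotientGroup.eq_one_iff _).1 (congrArg Subtype.val e1),
      fun e1 => Subtype.ext ((QuotientGroup.eq_one_iff _).2 e1)⟩
  have hi := g.ker.card_mul_index
  rw [Subgroup.index_ker, hg, Nat.card_congr (Subgroup.subgroupOfEquivOfLe hNS).toEquiv,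
    MonoidHom.range_eq_top.2 (MonoidHom.subgroupMap_surjective _ _), Subgroup.card_top] at hi
  rw [← hi, mul_comm]

/-- Coordinates on `K / U`. -/
structure Coord (Φ : G →* GL32) (K U : Subgroup G) (p : G → Nat3) : Prop where
  le : U ≤ K
  norm : K.Normal
  add : ∀ x ∈ K, ∀ y ∈ K, p (x * y) = p x + p y
  zero : ∀ x ∈ K, (p x = 0 ↔ x ∈ U)
  onto : ∀ v, ∃ x ∈ K, p x = v
  equiv : ∀ g, ∀ x ∈ K, p (g * x * g⁻¹) = ac (Φ g) (p x)

namespace Coord

variable {Φ : G →* GL32} {K U : Subgroup G} {p : G → Nat3} (hc : Coord Φ K U p)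
include hc

theorem one : p 1 = 0 := (hc.zero 1 (one_mem K)).2 (one_mem U)

theorem inv {x : G} (hx : x ∈ K) : p x⁻¹ = p x := by
  have h1 := hc.add x hx x⁻¹ (inv_mem hx)
  rw [mul_inv_cancel, hc.one] at h1
  rw [eq_neg_of_add_eq_zero_right h1.symm]
  funext i
  exact ZMod.neg_eq_self_mod_two _

theorem sq {x : G} (hx : x ∈ K) : x * x ∈ U := by
  rw [← hc.zero _ (mul_mem hx hx), hc.add x hx x hx]
  funext i
  exact CharTwo.add_self_eq_zero _

theorem quot {x y : G} (hx : x ∈ K) (hy : y ∈ K) (h : p x = p y) : x⁻¹ * y ∈ U := by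
  rw [← hc.zero _ (mul_mem (inv_mem hx) hy), hc.add _ (inv_mem hx) y hy, hc.inv hx, h]
  funext i
  exact CharTwo.add_self_eq_zero _

theorem card [Finite G] [U.Normal] : Nat.card K = 8 * Nat.card U := by
  haveI := hc.norm
  rw [card_eq_map_mul U K hc.le]
  congr 1
  have hb : Function.Bijective (fun v : Nat3 =>
      (⟨QuotientGroup.mk' U (hc.onto v).choose, _, (hc.onto v).choose_spec.1, rfl⟩ : K.map (QuotientGroup.mk' U))) := by
    refine ⟨fun v w h => ?_, fun ⟨_, x, hx, rfl⟩ => ⟨p x, Subtype.ext ?_⟩⟩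
    · have h' := QuotientGroup.eq.1 (congrArg Subtype.val h)
      obtain ⟨hv, hv'⟩ := (hc.onto v).choose_spec
      obtain ⟨hw, hw'⟩ := (hc.onto w).choose_spec
      rw [← hc.zero _ (mul_mem (inv_mem hv) hw), hc.add _ (inv_mem hv) _ hw, hc.inv hv, hv', hw'] at h'
      funext i
      exact CharTwo.add_eq_zero.1 (congrFun h' i)
    · exact QuotientGroup.eq.2 (hc.quot (hc.onto _).choose_spec.1 hx (hc.onto _).choose_spec.2)
  rw [← Nat.card_eq_of_bijective _ hb, Nat.card_eq_fintype_card]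
  rfl

end Coord

/-- The setting. -/
structure Ctx (Q : Subgroup G) (Φ : G →* GL32) : Prop where
  surj : Function.Surjective Φ
  ker : Φ.ker = Q
  two : IsPGroup 2 Q
  rank : Cfsg.SectionalPRankLE 2 4 G

namespace Ctx

variable {Q : Subgroup G} {Φ : G →* GL32} (h : Ctx Q Φ)
include h

theorem normal : Q.Normal := h.ker ▸ inferInstance

theorem mem {x : G} : x ∈ Q ↔ Φ x = 1 := by rw [← h.ker, MonoidHom.mem_ker]

/-- A normal subgroup above `Q` is `Q` or everything. -/
theorem top_of_mem (M : Subgroup G) [M.Normal] (hQM : Q ≤ M) {f : G} (hf : f ∈ M) (hfQ : f ∉ Q) : M = ⊤ := by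
  haveI := A8Sub.isSimpleGroup_GL_three
  haveI : (M.map Φ).Normal := Subgroup.Normal.map inferInstance _ h.surj
  have htop : M.map Φ = ⊤ := ((inferInstance : (M.map Φ).Normal).eq_bot_or_eq_top).resolve_left fun e => hfQ (by
    rw [← h.ker]
    exact (Subgroup.mem_bot (G := GL32)).1 (e ▸ ⟨f, hf, rfl⟩))
  refine eq_top_iff.2 fun y _ => ?_
  obtain ⟨m, hm, hmy⟩ := (htop ▸ Subgroup.mem_top (Φ y) : Φ y ∈ M.map Φ)
  have h1 : m⁻¹ * y ∈ M := hQM (by rw [h.mem, map_mul, map_inv, hmy, inv_mul_cancel])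
  have := mul_mem hm h1
  rwa [mul_inv_cancel_left] at this

/-- If `Q` and some element outside centralise a normal subset then everything does. -/
theorem centralizes (N : Subgroup G) [N.Normal] (hQ : ∀ q ∈ Q, ∀ n ∈ N, q * n = n * q) {f : G} (hfQ : f ∉ Q)
    (hf : ∀ n ∈ N, f * n = n * f) (y : G) : ∀ n ∈ N, y * n = n * y := by
  have htop := h.top_of_mem (Subgroup.centralizer (N : Set G)) (fun q hq n hn => (hQ q hq n hn).symm) (f := f)
    (fun n hn => (hf n hn).symm) hfQ
  intro n hn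
  exact ((htop ▸ Subgroup.mem_top y : y ∈ Subgroup.centralizer (N : Set G)) n hn).symm

/-- The image in a quotient by a normal subgroup inside `Q`. -/
theorem quotient (N : Subgroup G) [N.Normal] (hN : N ≤ Q) :
    Ctx (Q.map (QuotientGroup.mk' N)) (QuotientGroup.lift N Φ (h.ker.symm ▸ hN)) where
  surj := fun g => by
    obtain ⟨y, hy⟩ := h.surj g
    exact ⟨QuotientGroup.mk' N y, hy⟩
  ker := (QuotientGroup.ker_lift N Φ _).trans (congrArg (Subgroup.map (QuotientGroup.mk' N)) h.ker)
  two := h.two.map _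
  rank := A5Radical.sectional_map _ (QuotientGroup.mk'_surjective N) h.rank

end Ctx

end Cfsg.Agent.L32Radical
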