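import Cfsg.Agent.Lib.L32Radical.Setup

/-!
An automorphism of order seven of an elementary abelian group of order at most 16.
-/

set_option autoImplicit false
set_option linter.unusedSectionVars false
set_option linter.style.haveILetI false

namespace Cfsg.Agent.L32Radical

variable {V : Type*} [CommGroup V]

/-- The combination `v^x₀ (σ v)^x₁ (σ² v)^x₂`. -/
def cmb (σ : MulAut V) (v : V) (x : Nat3) : V := v ^ (x 0).val * σ v ^ (x 1).val * σ (σ v) ^ (x 2).val

theorem cmb_add (σ : MulAut V) (hV : ∀ w : V, w * w = 1) (v : V) (x y : Nat3) :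
    cmb σ v (x + y) = cmb σ v x * cmb σ v y := by
  have hpow : ∀ (w : V) (a b : ZMod 2), w ^ (a + b).val = w ^ a.val * w ^ b.val := fun w a b => by
    rw [← pow_add, ZMod.val_add, ← pow_eq_pow_mod _ (by rw [pow_two]; exact hV w)]
  simp only [cmb, Pi.add_apply, hpow]
  simp [mul_assoc, mul_left_comm, mul_comm]

theorem cmb_cases (σ : MulAut V) (v : V) (x : Nat3) :
    cmb σ v x ∈ [1, v, σ v, v * σ v, σ (σ v), v * σ (σ v), σ v * σ (σ v), v * σ v * σ (σ v)] ∧
      (x ≠ 0 → cmb σ v x ∈ [v, σ v, v * σ v, σ (σ v), v * σ (σ v), σ v * σ (σ v), v * σ v * σ (σ v)]) := by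
  have h : ∀ a : ZMod 2, a = 0 ∨ a = 1 := by decide
  refine ⟨?_, fun hx => ?_⟩
  all_goals
    rcases h (x 0) with h0 | h0 <;> rcases h (x 1) with h1 | h1 <;> rcases h (x 2) with h2 | h2
  all_goals first
    | (simp [cmb, h0, h1, h2, ZMod.val_one]; done)
    | exact absurd (funext fun i => by fin_cases i <;> assumption) hx

/-- The relation satisfied by an automorphism of order seven. -/
def Rel (σ : MulAut V) (v : V) : Prop := σ (σ (σ v)) = v * σ v ∨ σ (σ (σ v)) = v * σ (σ v)

/-- A fixed-point of two coprime powers. -/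
theorem fix_of_pow {σ : MulAut V} (h7 : σ ^ 7 = 1) {w : V} {n : ℕ} (hn : n ∈ [2, 3, 4]) (hw : (σ ^ n) w = w) :
    σ w = w := by
  have hmul : ∀ m, ((σ ^ n) ^ m) w = w := fun m => by
    induction m with
    | zero => rfl
    | succ m ih => rw [pow_succ, MulAut.mul_apply, hw, ih]
  obtain ⟨m, hm⟩ : ∃ m, n * m % 7 = 1 := by
    simp only [List.mem_cons, List.not_mem_nil, or_false] at hn
    rcases hn with rfl | rfl | rfl
    exacts [⟨4, rfl⟩, ⟨5, rfl⟩, ⟨2, rfl⟩]
  have := hmul m
  rwa [← pow_mul, pow_eq_pow_mod _ h7, hm, pow_one] at this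

/-- A non-fixed element spans eight. -/
theorem cmb_injective (hV : ∀ w : V, w * w = 1) {σ : MulAut V} (h7 : σ ^ 7 = 1) {v : V} (hv : σ v ≠ v) :
    Function.Injective (cmb σ v) := by
  have hv1 : v ≠ 1 := fun e => hv (by rw [e, map_one])
  have h2v : σ (σ v) ≠ v := fun e => hv (fix_of_pow h7 (n := 2) (by simp) e)
  have h3v : σ (σ (σ v)) ≠ v := fun e => hv (fix_of_pow h7 (n := 3) (by simp) e)
  have h22 : σ (σ v) ≠ v * σ v := fun e => h3v (by
    conv_lhs => rw [e, map_mul, e, mul_left_comm, hV, mul_one])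
  have hinv : ∀ w : V, w⁻¹ = w := fun w => inv_eq_of_mul_eq_one_right (hV w)
  have hone : ∀ {a b : V}, a * b = 1 → a = b := fun {a b} e => by rw [eq_inv_of_mul_eq_one_left e, hinv]
  have hσne : σ v ≠ 1 := fun e => hv1 (σ.injective (e.trans (map_one σ).symm))
  intro x y e
  by_contra hne'
  have hxy : x + y ≠ 0 := fun e' => hne' (funext fun i => CharTwo.add_eq_zero.1 (congrFun e' i))
  have h1 : cmb σ v (x + y) = 1 := by rw [cmb_add σ hV, e, hV]
  have h2 := (cmb_cases σ v (x + y)).2 hxy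
  rw [h1] at h2
  simp only [List.mem_cons, List.not_mem_nil, or_false] at h2
  rcases h2 with h | h | h | h | h | h | h
  · exact hv1 h.symm
  · exact hσne h.symm
  · exact hv (hone h.symm).symm
  · exact hσne (σ.injective (h.symm.trans (map_one σ).symm))
  · exact h2v (hone h.symm).symm
  · exact hv (σ.injective (hone h.symm)).symm
  · exact h22 (hone (by rw [← h])).symm

/-- A basis adapted to an automorphism of order seven. -/
theorem seven_basis [Finite V] (hV : ∀ w : V, w * w = 1) (h16 : Nat.card V ≤ 16) (σ : MulAut V) (h7 : σ ^ 7 = 1)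
    (hne : ∃ w, σ w ≠ w) : ∃ v, Function.Injective (cmb σ v) ∧ Rel σ v ∧
      ((Nat.card V = 8 ∧ Function.Surjective (cmb σ v) ∧ ∀ w, σ w = w → w = 1) ∨
        (Nat.card V = 16 ∧ ∃ z, σ z = z ∧ z ≠ 1 ∧ (∀ w, σ w = w → w = 1 ∨ w = z) ∧
          ∀ w, ∃ x, w = cmb σ v x ∨ w = z * cmb σ v x)) := by
  classical
  haveI : Fact (Nat.Prime 7) := ⟨by norm_num⟩
  haveI : Fact (Nat.Prime 2) := ⟨Nat.prime_two⟩
  set F := ThreeInvol.fixedSubgroup σ with hF
  have hmem : ∀ w, w ∈ F ↔ σ w = w := fun w => Iff.rfl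
  have hmod : Nat.card V ≡ Nat.card F [MOD 7] := ThreeInvol.card_fixed_modEq_prime h7
  have hd := Subgroup.card_subgroup_dvd_card F
  obtain ⟨k, hk⟩ := IsPGroup.iff_card.1 (show IsPGroup 2 V from fun w => ⟨1, by rw [pow_one, pow_two, hV]⟩)
  obtain ⟨w0, hw0⟩ := hne
  have hlt : Nat.card F ≠ Nat.card V := fun e => hw0 ((hmem w0).1 (Subgroup.eq_top_of_card_eq _ e ▸ Subgroup.mem_top _))
  have hk4 : k ≤ 4 := (Nat.pow_le_pow_iff_right (le_refl 2)).1 (show 2 ^ k ≤ 2 ^ 4 by rw [← hk]; exact h16)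
  have hcards : (Nat.card V = 8 ∧ Nat.card F = 1) ∨ (Nat.card V = 16 ∧ Nat.card F = 2) := by
    rw [hk] at hd hmod hlt ⊢
    have key : ∀ k ≤ 4, ∀ d ∈ List.range (2 ^ k + 1), d ∣ 2 ^ k → d ≠ 2 ^ k → 2 ^ k % 7 = d % 7 →
        (k = 3 ∧ d = 1) ∨ (k = 4 ∧ d = 2) := by decide
    rcases key k hk4 _ (List.mem_range.2 (Nat.lt_succ_of_le (Nat.le_of_dvd (by positivity) hd))) hd hlt hmod with
      ⟨rfl, h1⟩ | ⟨rfl, h1⟩
    · exact Or.inl ⟨rfl, h1⟩
    · exact Or.inr ⟨rfl, h1⟩
  let τ : V →* V := MonoidHom.mk' (fun w => w * σ w) fun a b => by rw [map_mul, mul_mul_mul_comm]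
  have hτ : ∀ w, τ w = w * σ w := fun _ => rfl
  have hker : τ.ker = F := by
    ext w
    rw [MonoidHom.mem_ker, hτ, hmem, mul_eq_one_iff_inv_eq, inv_eq_of_mul_eq_one_right (hV w), eq_comm]
  have hrange : Nat.card τ.range = 8 := by
    have hi := τ.ker.card_mul_index
    rw [Subgroup.index_ker, hker] at hi
    rcases hcards with ⟨a, b⟩ | ⟨a, b⟩ <;> rw [a, b] at hi <;> omega
  have hRF : ∀ w ∈ τ.range, σ w = w → w = 1 := by
    rintro _ ⟨w, rfl⟩ hfix
    rw [hτ, map_mul, mul_comm w, mul_right_inj] at hfix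
    rw [hτ, fix_of_pow h7 (n := 2) (by simp) (w := w) hfix, hV]
  have hσR : ∀ w ∈ τ.range, σ w ∈ τ.range := by
    rintro _ ⟨w, rfl⟩
    exact ⟨σ w, by rw [hτ, hτ, map_mul]⟩
  obtain ⟨v, hvR, hv1⟩ : ∃ v ∈ τ.range, v ≠ 1 := by
    by_contra hc
    push Not at hc
    rw [(Subgroup.eq_bot_iff_forall _).2 hc, Subgroup.card_bot] at hrange
    omega
  have hv : σ v ≠ v := fun e => hv1 (hRF v hvR e)
  have h2v : σ (σ v) ≠ v := fun e => hv (fix_of_pow h7 (n := 2) (by simp) e)
  have h3v : σ (σ (σ v)) ≠ v := fun e => hv (fix_of_pow h7 (n := 3) (by simp) e)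
  have h4v : σ (σ (σ (σ v))) ≠ v := fun e => hv (fix_of_pow h7 (n := 4) (by simp) e)
  have hσne : σ v ≠ 1 := fun e => hv1 (σ.injective (e.trans (map_one σ).symm))
  have h22 : σ (σ v) ≠ v * σ v := fun e => h3v (by
    conv_lhs => rw [e, map_mul, e, mul_left_comm, hV, mul_one])
  have hinj := cmb_injective hV h7 hv
  have hmemR : ∀ x, cmb σ v x ∈ τ.range := fun x =>
    mul_mem (mul_mem (pow_mem hvR _) (pow_mem (hσR v hvR) _)) (pow_mem (hσR _ (hσR v hvR)) _)
  have honto : ∀ w ∈ τ.range, ∃ x, w = cmb σ v x := fun w hw => by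
    obtain ⟨x, hx⟩ := (Function.Injective.bijective_of_nat_card_le (f := fun x => (⟨cmb σ v x, hmemR x⟩ : τ.range))
      (fun a b e => hinj (congrArg Subtype.val e)) (by rw [hrange, Nat.card_eq_fintype_card]; rfl)).2 ⟨w, hw⟩
    exact ⟨x, (congrArg Subtype.val hx).symm⟩
  have hrel : Rel σ v := by
    obtain ⟨x, hx⟩ := honto _ (hσR _ (hσR _ (hσR v hvR)))
    have h2 := (cmb_cases σ v x).1
    rw [← hx] at h2
    simp only [List.mem_cons, List.not_mem_nil, or_false] at h2
    rcases h2 with h | h | h | h | h | h | h | h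
    · exact absurd (σ.injective (σ.injective (h.trans ((congrArg σ (map_one σ)).trans (map_one σ)).symm))) hσne
    · exact absurd h h3v
    · exact absurd (σ.injective h) h2v
    · exact Or.inl h
    · exact absurd (σ.injective (σ.injective h)) hv
    · exact Or.inr h
    · exact absurd (σ.injective (h.trans (map_mul σ _ _).symm)) h22
    · refine absurd ?_ h4v
      conv_lhs => rw [h, map_mul, map_mul, h]
      simp [mul_assoc, mul_left_comm, mul_comm, hV, fun a b : V => show a * (a * b) = b by rw [← mul_assoc, hV, one_mul]]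
  refine ⟨v, hinj, hrel, ?_⟩
  rcases hcards with ⟨hc, hFc⟩ | ⟨hc, hFc⟩
  · refine Or.inl ⟨hc, (Function.Injective.bijective_of_nat_card_le hinj
      (by rw [hc, Nat.card_eq_fintype_card]; rfl)).2, fun w hw => ?_⟩
    rw [Subgroup.card_eq_one] at hFc
    exact Subgroup.mem_bot.1 (hFc ▸ (hmem w).2 hw)
  · obtain ⟨z, hz, hz1⟩ : ∃ z ∈ F, z ≠ 1 := by
      by_contra hcon
      push Not at hcon
      rw [(Subgroup.eq_bot_iff_forall _).2 hcon, Subgroup.card_bot] at hFc
      omega
    have hFz : ∀ w, σ w = w → w = 1 ∨ w = z := fun w hw => by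
      by_contra hcon
      push Not at hcon
      have h3 := Nat.card_le_card_of_injective ![(⟨1, one_mem F⟩ : F), ⟨z, hz⟩, ⟨w, (hmem w).2 hw⟩] (by
        intro i j e
        fin_cases i <;> fin_cases j <;> simp [Subtype.ext_iff] at e ⊢ <;> grind)
      rw [Nat.card_fin, hFc] at h3
      omega
    refine Or.inr ⟨hc, z, (hmem z).1 hz, hz1, hFz, fun w => ?_⟩
    have hg : Function.Injective (fun p : Bool × Nat3 => (if p.1 then z else 1) * cmb σ v p.2) := by
      rintro ⟨a, x⟩ ⟨b, y⟩ e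
      simp only at e
      have hzR : z ∉ τ.range := fun hm => hz1 (hRF z hm ((hmem z).1 hz))
      cases a <;> cases b <;> simp only [Bool.false_eq_true, if_false, if_true, one_mul] at e
      · rw [hinj e]
      · refine absurd ?_ hzR
        rw [← eq_mul_inv_of_mul_eq e.symm |>.symm]
        exact mul_mem (hmemR x) (inv_mem (hmemR y))
      · refine absurd ?_ hzR
        rw [eq_mul_inv_of_mul_eq e]
        exact mul_mem (hmemR y) (inv_mem (hmemR x))
      · rw [hinj (mul_left_cancel e)]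
    obtain ⟨⟨a, x⟩, hx⟩ := (Function.Injective.bijective_of_nat_card_le hg (by
      rw [hc, Nat.card_eq_fintype_card]; rfl)).2 w
    refine ⟨x, ?_⟩
    cases a <;> simp at hx
    · exact Or.inl hx.symm
    · exact Or.inr hx.symm

variable {U : Type*} [CommGroup U]

/-- An invariant alternating map is trivial on the span of `v, σ v, σ² v`. -/
theorem forms_trivial (hU : ∀ u : U, u * u = 1) (σ : MulAut V) (τ : MulAut U) (β : V → V → U)
    (hbil : ∀ a b c, β (a * b) c = β a c * β b c) (hbil' : ∀ a b c, β a (b * c) = β a b * β a c)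
    (halt : ∀ a, β a a = 1) (heq : ∀ a b, τ (β a b) = β (σ a) (σ b)) (v : V)
    (hv : (σ (σ (σ v)) = v * σ v ∧ ((∀ u, τ u = u) ∨ ∀ u, τ (τ (τ u)) = u * τ u)) ∨
      (σ (σ (σ v)) = v * σ (σ v) ∧ ((∀ u, τ u = u) ∨ ∀ u, τ (τ (τ u)) = u * τ (τ u)))) (x y : Nat3) :
    β (cmb σ v x) (cmb σ v y) = 1 := by
  have hsym : ∀ a b, β a b = β b a := fun a b => by
    have h := halt (a * b)
    rw [hbil, hbil', hbil', halt, halt, one_mul, mul_one] at h
    rw [eq_inv_of_mul_eq_one_left h, inv_eq_of_mul_eq_one_right (hU _)]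
  set v1 := σ v with hv1
  set v2 := σ v1 with hv2
  set A := β v v1 with hA
  set B := β v v2 with hB
  have h12 : β v1 v2 = τ A := by rw [hA, heq]
  have e13 : τ B = β v1 (σ v2) := by rw [hB, heq]
  have e23 : τ (τ A) = β v2 (σ v2) := by rw [← h12, heq]
  have hAB : A = 1 ∧ B = 1 := by
    rcases hv with ⟨hr, hτ⟩ | ⟨hr, hτ⟩ <;> rw [hr, hbil'] at e13 e23
    · rw [halt, mul_one, hsym, ← hA] at e13
      rw [hsym v2 v, hsym v2 v1, ← hB, h12] at e23
      rcases hτ with hτ | hτ
      · rw [hτ] at e13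
        rw [hτ, hτ, e13, hU] at e23
        exact ⟨e23, e13.trans e23⟩
      · have h3 := congrArg τ e23
        rw [map_mul, e13, hτ, mul_right_inj] at h3
        have hfix : τ A = A := τ.injective h3.symm
        have hA1 : A = 1 := by
          have := hτ A
          rw [hfix, hfix, hfix, hU] at this
          exact this
        refine ⟨hA1, τ.injective ?_⟩
        rw [e13, hA1, map_one]
    · rw [hsym v1 v, ← hA, h12] at e13
      rw [halt, mul_one, hsym, ← hB] at e23
      rcases hτ with hτ | hτ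
      · rw [hτ, hτ, hU] at e13
        rw [hτ, hτ, e13] at e23
        exact ⟨e23, e13⟩
      · have h3 := congrArg τ e23
        rw [e13, hτ, mul_right_inj] at h3
        have hfix : τ A = A := τ.injective h3
        have hA1 : A = 1 := by
          have := hτ A
          rw [hfix, hfix, hfix, hU] at this
          exact this
        exact ⟨hA1, by rw [← e23, hA1, map_one, map_one]⟩
  obtain ⟨hA1, hB1⟩ := hAB
  have h1 : ∀ a, β 1 a = 1 := fun a => by
    have := hbil 1 1 a
    rw [one_mul] at this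
    exact left_eq_mul.1 this
  have hgen : ∀ p ∈ [v, v1, v2], ∀ q ∈ [v, v1, v2], β p q = 1 := by
    intro p hp q hq
    simp only [List.mem_cons, List.not_mem_nil, or_false] at hp hq
    rcases hp with rfl | rfl | rfl <;> rcases hq with rfl | rfl | rfl
    exacts [halt _, hA1, hB1, by rw [hsym]; exact hA1, halt _, by rw [h12, hA1, map_one],
      by rw [hsym]; exact hB1, by rw [hsym, h12, hA1, map_one], halt _]
  have hspan : ∀ p ∈ [v, v1, v2], ∀ y, β p (cmb σ v y) = 1 := fun p hp y => by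
    have := (cmb_cases σ v y).1
    simp only [List.mem_cons, List.not_mem_nil, or_false] at this
    rw [← hv1, ← hv2] at this
    rcases this with e | e | e | e | e | e | e | e <;> rw [e]
    · rw [hsym, h1]
    all_goals simp [hbil', hgen p hp]
  have := (cmb_cases σ v x).1
  simp only [List.mem_cons, List.not_mem_nil, or_false] at this
  rw [← hv1, ← hv2] at this
  rcases this with e | e | e | e | e | e | e | e <;> rw [e]
  · rw [h1]
  all_goals simp [hbil, hspan]

end Cfsg.Agent.L32Radical
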