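import Cfsg.Agent.Lib.L32Radical.Layer
import Cfsg.Agent.Lib.L32Radical.Abelian
import Cfsg.Agent.Lib.Coprime.Gaschutz

/-!
The twisted layer: an element `x₀` outside the natural part inverts a homocyclic `K`.
-/

set_option autoImplicit false
set_option linter.unusedSectionVars false
set_option linter.style.haveILetI false

namespace Cfsg.Agent.L32Radical

open A5Radical (cm map_cm cm_eq_one)

variable {G : Type*} [Group G]

/-- Sectional rank passes to subgroups. -/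
theorem sectional_sub {p k : ℕ} (h : Cfsg.SectionalPRankLE p k G) (Y : Subgroup G) :
    Cfsg.SectionalPRankLE p k Y := by
  intro H N hN B hB hexp
  haveI := hN
  let r : H.map Y.subtype ≃* H := (H.equivMapOfInjective Y.subtype Y.subtype_injective).symm
  let e := QuotientGroup.congr (N.comap r.toMonoidHom) N r
    (Subgroup.map_comap_eq_self_of_surjective r.surjective N)
  have := h (H.map Y.subtype) (N.comap r.toMonoidHom) (B.map e.symm.toMonoidHom)
    ⟨⟨fun ⟨_, a, ha, rfl⟩ ⟨_, b, hb, rfl⟩ => Subtype.ext (by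
      show e.symm a * e.symm b = e.symm b * e.symm a
      rw [← map_mul, ← map_mul,
        show a * b = b * a from congrArg Subtype.val (hB.is_comm.comm ⟨a, ha⟩ ⟨b, hb⟩)])⟩⟩
    (by rintro _ ⟨a, ha, rfl⟩; rw [← map_pow, hexp a ha, map_one])
  exact (Nat.card_congr (B.equivMapOfInjective e.symm.toMonoidHom e.symm.injective).toEquiv).trans_le this

/-- The eight elements of a Sylow 2-subgroup of `GL₃(2)`. -/
def syl : List GL32 := [1, gu, gu * gu, gu * gu * gu, gr, gu * gr, gu * gu * gr, gu * gu * gu * gr]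

/-- Upper unitriangular matrices. -/
def upper (t : Nat3) : GL32 := ⟨!![1, t 0, t 1; 0, 1, t 2; 0, 0, 1], !![1, t 0, t 0 * t 2 + t 1; 0, 1, t 2; 0, 0, 1],
  by revert t; decide, by revert t; decide⟩

theorem upper_mul (s t : Nat3) : upper s * upper t = upper ![s 0 + t 0, t 1 + s 0 * t 2 + s 1, s 2 + t 2] := by
  refine Units.ext ?_
  ext i j
  fin_cases i <;> fin_cases j <;> simp [upper, Matrix.mul_apply, Fin.sum_univ_three] <;> ring

theorem upper_mem_syl : ∀ t, upper t ∈ syl := by decide +kernel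

theorem upper_injective : Function.Injective upper := fun s t e => by
  have h : ∀ i j, (upper s : Matrix (Fin 3) (Fin 3) (ZMod 2)) i j = (upper t : Matrix (Fin 3) (Fin 3) (ZMod 2)) i j :=
    fun i j => by rw [e]
  funext i
  fin_cases i
  exacts [h 0 1, h 0 2, h 1 2]

theorem syl_gr_gu : gr * gu = ge1 := by decide

theorem syl_ne_one : ∀ i : Fin 4, gu ^ i.val * gr ≠ 1 ∧ (i ≠ 0 → gu ^ i.val ≠ 1) := by decide

/-- The Sylow subgroup. -/
def sylow : Subgroup GL32 where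
  carrier := Set.range upper
  one_mem' := ⟨0, Units.ext (by decide)⟩
  mul_mem' := by
    rintro _ _ ⟨s, rfl⟩ ⟨t, rfl⟩
    exact ⟨_, (upper_mul s t).symm⟩
  inv_mem' := by
    rintro _ ⟨t, rfl⟩
    exact ⟨![t 0, t 0 * t 2 + t 1, t 2], Units.ext rfl⟩

theorem index_sylow : sylow.index = 21 := by
  have hc : Nat.card sylow = 8 := by
    show Nat.card ↥(Set.range upper) = 8
    rw [Nat.card_range_of_injective upper_injective, Nat.card_eq_fintype_card]
    rfl
  have h := sylow.card_mul_index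
  rw [hc, A8Sub.card_GL_three] at h
  omega

theorem gu_mem_sylow : gu ∈ sylow := ⟨![1, 0, 1], Units.ext (by decide)⟩

theorem gr_mem_sylow : gr ∈ sylow := ⟨![0, 0, 1], Units.ext (by decide)⟩

variable [Finite G]

/-- An element inverting a homocyclic normal `K` of index two in `Q` gives a contradiction. -/
theorem inverted_false {Q : Subgroup G} {Φ : G →* GL32} (h : Ctx Q Φ) (K U : Subgroup G) (p : G → Nat3)
    (hc : Coord Φ K U p) (hKQ : K ≤ Q) (hcomm : ∀ x ∈ K, ∀ y ∈ K, x * y = y * x)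
    (hU : ∀ x ∈ K, (x ∈ U ↔ x * x = 1)) (hroot : ∀ x ∈ U, ∃ k ∈ K, k * k = x) (x0 : G) (hx0 : x0 ∈ Q)
    (hx2 : x0 * x0 = 1) (hcov : ∀ q ∈ Q, q ∈ K ∨ x0⁻¹ * q ∈ K) (hinv : ∀ k ∈ K, x0⁻¹ * k * x0 = k⁻¹) : False := by
  classical
  haveI hKn := hc.norm
  haveI := h.normal
  -- squares of lifts of transvections lie in `K`
  have hbase : ∀ g, Φ g = ge → g * g ∈ K := by
    intro g hg
    have hgQ : g * g ∈ Q := by rw [h.mem, map_mul, hg]; exact gu_facts.2.1
    refine (hcov _ hgQ).resolve_right fun hk => ?_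
    obtain ⟨B, hB, hBp⟩ := hc.onto vb
    have hgB : p (g * B * g⁻¹) = vb := by rw [hc.equiv g B hB, hg, hBp]; decide
    set l := B⁻¹ * (g * B * g⁻¹) with hl
    have hlU : l ∈ U := hc.quot hB (hKn.conj_mem B hB g) (by rw [hBp, hgB])
    have hgl : g * B * g⁻¹ = B * l := by rw [hl, mul_inv_cancel_left]
    have hlK := hc.le hlU
    obtain ⟨k, hk', hkl⟩ := hroot l hlU
    -- `g²` inverts `B`
    set w := x0⁻¹ * (g * g) with hw
    have h2 : (g * g)⁻¹ * B * (g * g) = B⁻¹ := by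
      rw [show g * g = x0 * w by rw [hw, mul_inv_cancel_left], mul_inv_rev,
        show w⁻¹ * x0⁻¹ * B * (x0 * w) = w⁻¹ * (x0⁻¹ * B * x0) * w by simp [mul_assoc], hinv B hB,
        hcomm _ (inv_mem hk) _ (inv_mem hB), inv_mul_cancel_right]
    have h3 : g * g * B * (g * g)⁻¹ = B⁻¹ := by
      have h4 : g * g * B⁻¹ * (g * g)⁻¹ = B := by rw [← h2]; simp [mul_assoc]
      conv_rhs => rw [← h4]
      simp [mul_assoc]
    have h6 : g * g * B * (g * g)⁻¹ = B * (l * (g * l * g⁻¹)) := by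
      rw [show g * g * B * (g * g)⁻¹ = g * (g * B * g⁻¹) * g⁻¹ by simp [mul_assoc], hgl,
        show g * (B * l) * g⁻¹ = g * B * g⁻¹ * (g * l * g⁻¹) by simp [mul_assoc], hgl, mul_assoc]
    -- compare
    set m := k * (g * k * g⁻¹) with hm
    have hgk := hKn.conj_mem k hk' g
    have hmm : m * m = B * B := by
      rw [hm, swap_mid (hcomm _ hgk k hk'), hkl,
        show g * k * g⁻¹ * (g * k * g⁻¹) = g * (k * k) * g⁻¹ by simp [mul_assoc], hkl]
      have h7 : B * (l * (g * l * g⁻¹)) = B⁻¹ := h6.symm.trans h3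
      rw [eq_inv_iff_mul_eq_one, mul_assoc, hcomm _ (mul_mem hlK (hKn.conj_mem l hlK g)) B hB, ← mul_assoc] at h7
      rw [eq_inv_of_mul_eq_one_right h7]
      exact inv_eq_of_mul_eq_one_right ((hU _ (hc.le (hc.sq hB))).1 (hc.sq hB))
    have hmK : m ∈ K := mul_mem hk' hgk
    have hmB := hc.zero _ (mul_mem (inv_mem hB) hmK)
    have h8 : p (B⁻¹ * m) = 0 := hmB.2 ((hU _ (mul_mem (inv_mem hB) hmK)).2 (by
      rw [swap_mid (hcomm m hmK _ (inv_mem hB)), hmm, ← mul_inv_rev, inv_mul_cancel]))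
    rw [hc.add _ (inv_mem hB) _ hmK, hc.inv hB, hm, hc.add _ hk' _ hgk, hc.equiv g k hk', hg, hBp] at h8
    revert h8
    generalize p k = v
    revert v
    decide
  have hconj : ∀ g x, Φ g = x * ge * x⁻¹ → g * g ∈ K := by
    intro g x hg
    obtain ⟨y, rfl⟩ := h.surj x
    have h1 := hbase (y⁻¹ * g * y) (by rw [map_mul, map_mul, map_inv, hg]; group)
    have := hKn.conj_mem _ h1 y
    simpa [mul_assoc] using this
  -- the complement on a Sylow subgroup modulo `K`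
  let π := QuotientGroup.mk' K
  let Kb : Subgroup (G ⧸ K) := Q.map π
  haveI : Kb.Normal := Subgroup.Normal.map inferInstance _ (QuotientGroup.mk'_surjective K)
  have hπ1 : ∀ x, π x = 1 ↔ x ∈ K := fun x => QuotientGroup.eq_one_iff x
  have hKb : ∀ y ∈ Kb, y = 1 ∨ y = π x0 := by
    rintro _ ⟨q, hq, rfl⟩
    exact (hcov q hq).imp (hπ1 q).2 fun e => (QuotientGroup.eq.2 e).symm
  haveI : IsMulCommutative Kb := ⟨⟨fun ⟨a, ha⟩ ⟨b, hb⟩ => Subtype.ext (by
    show a * b = b * a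
    rcases hKb a ha with rfl | rfl <;> rcases hKb b hb with rfl | rfl <;> simp)⟩⟩
  obtain ⟨u, hu⟩ := h.surj gu
  obtain ⟨r, hr⟩ := h.surj gr
  set U' := π u with hU'
  set R := π r with hR
  have hu4 : U' * U' * (U' * U') = 1 := by
    rw [hU', ← map_mul, ← map_mul, hπ1]
    exact hbase _ (by rw [map_mul, hu]; exact gu_facts.1)
  have hR2 : R * R = 1 := by
    rw [hR, ← map_mul, hπ1]
    exact hconj r gsw (by rw [hr]; exact gr_facts.2.1.symm)
  have hRU : R * U' * (R * U') = 1 := by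
    rw [hR, hU', ← map_mul, ← map_mul, hπ1]
    exact hconj _ gt (by rw [map_mul, hr, hu, syl_gr_gu]; exact gt_facts.2.2.1.symm)
  have hsemi : SemiconjBy R U' U'⁻¹ := by
    show R * U' = U'⁻¹ * R
    rw [eq_inv_mul_iff_mul_eq]
    have h1 := congrArg (fun y => R * y) hRU
    simp only [← mul_assoc, hR2, one_mul, mul_one] at h1
    calc U' * (R * U') = U' * R * U' := (mul_assoc _ _ _).symm
      _ = R := h1
  let A : Subgroup (G ⧸ K) :=
    { carrier := {y | ∃ i : ℤ, ∃ b : Bool, y = U' ^ i * (if b then R else 1)}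
      one_mem' := ⟨0, false, by simp⟩
      mul_mem' := by
        rintro _ _ ⟨i, b, rfl⟩ ⟨j, c, rfl⟩
        cases b
        · exact ⟨i + j, c, by simp [zpow_add, mul_assoc]⟩
        · refine ⟨i + -j, !c, ?_⟩
          have hs : R * U' ^ j = U' ^ (-j) * R := by
            rw [(hsemi.zpow_right j).eq, zpow_neg, inv_zpow]
          calc U' ^ i * R * (U' ^ j * if c then R else 1) = U' ^ i * (R * U' ^ j) * if c then R else 1 := by
                simp [mul_assoc]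
            _ = U' ^ i * U' ^ (-j) * (R * if c then R else 1) := by rw [hs]; simp [mul_assoc]
            _ = _ := by rw [← zpow_add]; cases c <;> simp [hR2]
      inv_mem' := by
        rintro _ ⟨i, b, rfl⟩
        cases b
        · exact ⟨-i, false, by simp⟩
        · refine ⟨i, true, ?_⟩
          have hs : R * U' ^ (-i) = U' ^ i * R := by
            rw [(hsemi.zpow_right (-i)).eq, inv_zpow, ← zpow_neg, neg_neg]
          simp only [if_true]
          rw [mul_inv_rev, inv_eq_of_mul_eq_one_right hR2, ← zpow_neg, hs] }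
  let S : Subgroup (G ⧸ K) := (sylow.comap Φ).map π
  have hQS : Q ≤ sylow.comap Φ := fun q hq => by
    show Φ q ∈ sylow
    rw [h.mem.1 hq]; exact one_mem _
  have hKS : Kb ≤ S := Subgroup.map_mono hQS
  have hAS : A ≤ S := by
    rintro _ ⟨i, b, rfl⟩
    have hu' : U' ∈ S := ⟨u, show Φ u ∈ sylow by rw [hu]; exact gu_mem_sylow, rfl⟩
    have hr' : R ∈ S := ⟨r, show Φ r ∈ sylow by rw [hr]; exact gr_mem_sylow, rfl⟩
    refine mul_mem (zpow_mem hu' i) ?_
    cases b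
    exacts [one_mem _, hr']
  have hAK : A ⊓ Kb = ⊥ := by
    refine (Subgroup.eq_bot_iff_forall _).2 ?_
    rintro _ ⟨⟨i, b, rfl⟩, hk⟩
    obtain ⟨j, hj⟩ : ∃ j : Fin 4, U' ^ i = U' ^ j.val := by
      have h4 : U' ^ 4 = 1 := by rw [← hu4]; simp [pow_succ, mul_assoc]
      refine ⟨⟨(i % 4).toNat, by omega⟩, ?_⟩
      rw [zpow_eq_zpow_emod' i h4, ← zpow_natCast]
      congr 1
      exact (Int.toNat_of_nonneg (Int.emod_nonneg i (by norm_num))).symm
    rw [hj] at hk ⊢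
    obtain ⟨q, hq, hqe⟩ := hk
    cases b
    · by_cases hj0 : j = 0
      · simp [hj0]
      · exfalso
        have h1 : q⁻¹ * u ^ j.val ∈ K := QuotientGroup.eq.1 (by
          rw [show (QuotientGroup.mk q : G ⧸ K) = π q from rfl, hqe]; simp [hU', π])
        have h2 := h.mem.1 (hKQ h1)
        rw [map_mul, map_inv, h.mem.1 hq, map_pow, hu, inv_one, one_mul] at h2
        exact (syl_ne_one j).2 hj0 h2
    · exfalso
      have h1 : q⁻¹ * (u ^ j.val * r) ∈ K := QuotientGroup.eq.1 (by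
        rw [show (QuotientGroup.mk q : G ⧸ K) = π q from rfl, hqe]; simp [hU', hR, π])
      have h2 := h.mem.1 (hKQ h1)
      rw [map_mul, map_inv, h.mem.1 hq, map_mul, map_pow, hu, hr, inv_one, one_mul] at h2
      exact (syl_ne_one j).1 h2
  have hKA : Kb ⊔ A = S := by
    refine le_antisymm (sup_le hKS hAS) ?_
    rintro _ ⟨x, hx, rfl⟩
    have hx' : Φ x ∈ syl := by
      obtain ⟨t, ht⟩ := (show Φ x ∈ sylow from hx)
      rw [← ht]; exact upper_mem_syl t
    obtain ⟨a, haA, haΦ⟩ : ∃ a, π a ∈ A ∧ Φ a = Φ x := by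
      have hum : π u ∈ A := ⟨1, false, by simp [hU']⟩
      have hrm : π r ∈ A := ⟨0, true, by simp [hR]⟩
      simp only [syl, List.mem_cons, List.not_mem_nil, or_false] at hx'
      rcases hx' with e | e | e | e | e | e | e | e
      · exact ⟨1, by rw [map_one]; exact one_mem A, by rw [e, map_one]⟩
      · exact ⟨u, hum, by rw [e, hu]⟩
      · exact ⟨u * u, by rw [map_mul]; exact mul_mem hum hum, by rw [e, map_mul, hu]⟩
      · exact ⟨u * u * u, by rw [map_mul, map_mul]; exact mul_mem (mul_mem hum hum) hum,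
          by rw [e, map_mul, map_mul, hu]⟩
      · exact ⟨r, hrm, by rw [e, hr]⟩
      · exact ⟨u * r, by rw [map_mul]; exact mul_mem hum hrm, by rw [e, map_mul, hu, hr]⟩
      · exact ⟨u * u * r, by rw [map_mul, map_mul]; exact mul_mem (mul_mem hum hum) hrm,
          by rw [e, map_mul, map_mul, hu, hr]⟩
      · exact ⟨u * u * u * r, by rw [map_mul, map_mul, map_mul]; exact mul_mem (mul_mem (mul_mem hum hum) hum) hrm,
          by rw [e, map_mul, map_mul, map_mul, hu, hr]⟩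
    have h1 : x * a⁻¹ ∈ Q := by rw [h.mem, map_mul, map_inv, haΦ, mul_inv_cancel]
    have := mul_mem (Subgroup.mem_sup_left (S := Kb) (T := A) (Subgroup.mem_map_of_mem π h1))
      (Subgroup.mem_sup_right haA)
    rwa [← map_mul, inv_mul_cancel_right] at this
  have hindex : S.index = 21 := by
    rw [Subgroup.index_map_eq _ (QuotientGroup.mk'_surjective K)
      (by rw [QuotientGroup.ker_mk']; exact hKQ.trans hQS), Subgroup.index_comap_of_surjective _ h.surj, index_sylow]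
  have hKb2 : Nat.card Kb ∣ 2 := by
    have hle : Nat.card Kb ≤ 2 := by
      have := Nat.card_le_card_of_surjective (fun b : Bool => (⟨if b then π x0 else 1, by
        split_ifs
        exacts [⟨x0, hx0, rfl⟩, one_mem _]⟩ : Kb)) (fun ⟨y, hy⟩ => by
        rcases hKb y hy with rfl | rfl
        · exact ⟨false, rfl⟩
        · exact ⟨true, rfl⟩)
      simpa using this
    have h0 : 0 < Nat.card Kb := Nat.card_pos
    interval_cases (Nat.card Kb) <;> norm_num
  obtain ⟨H, hH⟩ := Coprime.exists_complement_of_gaschutz Kb S hKS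
    (by rw [hindex]; exact Nat.Coprime.coprime_dvd_left hKb2 (by norm_num)) A hAS hAK hKA
  let Y1 : Subgroup G := H.comap π
  have hKY : K ≤ Y1 := fun k hk => by
    show π k ∈ H
    rw [(hπ1 k).2 hk]; exact one_mem H
  have hYQ : ∀ y ∈ Y1, Φ y = 1 → y ∈ K := fun y hy e => by
    have h1 : π y ∈ Kb ⊓ H := ⟨⟨y, h.mem.2 e, rfl⟩, hy⟩
    rw [hH.disjoint.eq_bot, Subgroup.mem_bot] at h1
    exact (hπ1 y).1 h1
  let Φ1 : Y1 →* GL32 := Φ.comp Y1.subtype
  have hsurj : Function.Surjective Φ1 := fun x => by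
    obtain ⟨g, rfl⟩ := h.surj x
    obtain ⟨⟨⟨kb, q, hq, rfl⟩, ⟨hh, hhH⟩⟩, hkh⟩ := hH.existsUnique (π g) |>.exists
    have hkh' : π q * hh = π g := hkh
    refine ⟨⟨q⁻¹ * g, ?_⟩, ?_⟩
    · show π (q⁻¹ * g) ∈ H
      rw [map_mul, map_inv, ← hkh', inv_mul_cancel_left]
      exact hhH
    · show Φ (q⁻¹ * g) = Φ g
      rw [map_mul, map_inv, h.mem.1 hq, inv_one, one_mul]
  have hker1 : Φ1.ker = K.subgroupOf Y1 := by
    ext y
    rw [MonoidHom.mem_ker, Subgroup.mem_subgroupOf]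
    exact ⟨fun e => hYQ y y.2 e, fun e => h.mem.1 (hKQ e)⟩
  have hc1 : Coord Φ1 (K.subgroupOf Y1) (U.subgroupOf Y1) (fun y => p y) := by
    refine ⟨fun x hx => hc.le hx, hker1 ▸ inferInstance, fun x hx y hy => ?_, fun x hx => hc.zero x hx, fun v => ?_,
      fun g x hx => ?_⟩
    · exact hc.add x hx y hy
    · obtain ⟨x, hx, hxv⟩ := hc.onto v
      exact ⟨⟨x, hKY hx⟩, hx, hxv⟩
    · exact hc.equiv g x hx
  refine homocyclic_false Φ1 hsurj _ _ _ hc1 hker1 (fun x hx y hy => Subtype.ext (hcomm x hx y hy)) (fun x hx => ?_)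
    (fun x hx => ?_) (sectional_sub h.rank Y1)
  · rw [Subgroup.mem_subgroupOf, hU x hx, Subtype.ext_iff, Subgroup.coe_mul, OneMemClass.coe_one]
  · obtain ⟨k, hk, hkx⟩ := hroot x hx
    exact ⟨⟨k, hKY hk⟩, hk, Subtype.ext hkx⟩

namespace Layer

variable {Q U : Subgroup G} {Φ : G →* GL32} {f : G} (L : Layer Q U Φ f)
include L

theorem twisted_false [U.Normal] (hU : Nat.card U = 8) {v x0 : G} (hv : v ∈ Q)
    (hrel : CbRel (QuotientGroup.mk' U f) (QuotientGroup.mk' U v))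
    (hinj : ∀ x y, (cb f v x)⁻¹ * cb f v y ∈ U → x = y)
    (hadd : ∀ x y, (cb f v (x + y))⁻¹ * (cb f v x * cb f v y) ∈ U)
    (hx0 : x0 ∈ Q) (hx0f : cm f x0 ∈ U)
    (hcov : ∀ q ∈ Q, ∃ x, (cb f v x)⁻¹ * q ∈ U ∨ (x0 * cb f v x)⁻¹ * q ∈ U)
    (hψ : ∃ q ∈ Q, cm x0 q ≠ 1) : False := by
  classical
  haveI := L.qn
  let π := QuotientGroup.mk' U
  have hπeq : ∀ {a b : G}, π a = π b ↔ a⁻¹ * b ∈ U := fun {a b} => QuotientGroup.eq
  obtain ⟨-, -, -, -, hfree⟩ := L.lower hU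
  have hcbQ : ∀ x, cb f v x ∈ Q := cb_mem hv f
  have hcmc : ∀ {a a' b b'}, a ∈ Q → a' ∈ Q → b ∈ Q → b' ∈ Q → π a = π a' → π b = π b' → cm a b = cm a' b' :=
    fun {a a' b b'} ha ha' hb hb' e e' => by
      have h1 := hπeq.1 e
      have h2 := hπeq.1 e'
      rw [show a' = a * (a⁻¹ * a') by rw [mul_inv_cancel_left], L.cm_U_left ha hb' h1,
        show b' = b * (b⁻¹ * b') by rw [mul_inv_cancel_left], L.cm_symm ha (mul_mem hb (L.le h2)),
        L.cm_U_left hb ha h2, L.cm_symm hb ha]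
  have hx0fix : π (f * x0 * f⁻¹) = π x0 := by
    have h1 : Commute (π f) (π x0) := cm_eq_one.1 ((map_cm π f x0).symm.trans ((QuotientGroup.eq_one_iff _).2 hx0f))
    rw [map_mul, map_mul, map_inv, h1.eq, mul_inv_cancel_right]
  have hfx0Q := L.qn.conj_mem x0 hx0 f
  have hx2 : x0 * x0 = 1 := hfree _ (L.sq x0 hx0) (mul_inv_eq_iff_eq_mul.1 (by
    have hu := hπeq.1 hx0fix.symm
    rw [show f * (x0 * x0) * f⁻¹ = x0 * (x0⁻¹ * (f * x0 * f⁻¹)) * (x0 * (x0⁻¹ * (f * x0 * f⁻¹))) by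
      simp [mul_assoc], L.sq_U hx0 hu]))
  -- the values
  set P0 := cm x0 v with hP0
  have hP0U : P0 ∈ U := L.cm_mem hx0 hv
  have hψcj : ∀ q ∈ Q, f * cm x0 q * f⁻¹ = cm x0 (f * q * f⁻¹) := fun q hq => by
    rw [L.conj_cm]
    exact hcmc hfx0Q hx0 (L.qn.conj_mem q hq f) (L.qn.conj_mem q hq f) hx0fix rfl
  have hψpow : ∀ q ∈ Q, ∀ i : ZMod 2, cm x0 (q ^ i.val) = cm x0 q ^ i.val := fun q hq i => by
    rcases (show i = 0 ∨ i = 1 by revert i; decide) with rfl | rfl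
    · simp [cm]
    · simp [ZMod.val_one]
  have hψcb : ∀ x, cm x0 (cb f v x) = cb f P0 x := fun x => by
    have h1 := L.qn.conj_mem v hv f
    have h2 := L.qn.conj_mem _ h1 f
    rw [cb, cb, L.cm_right hx0 (mul_mem (pow_mem hv _) (pow_mem h1 _)) (pow_mem h2 _),
      L.cm_right hx0 (pow_mem hv _) (pow_mem h1 _), hψpow v hv, hψpow _ h1, hψpow _ h2, hψcj v hv, hψcj _ h1]
  letI : CommGroup U :=
    { (inferInstance : Group U) with mul_comm := fun a b => Subtype.ext (A5Radical.comm_of_exp L.exp a.2 b.2) }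
  have hUe : ∀ u : U, u * u = 1 := fun u => Subtype.ext (L.exp u u.2)
  set τ : MulAut U := MulAut.conjNormal f with hτd
  have hτ7 : τ ^ 7 = 1 := by
    rw [hτd, ← map_pow]
    exact MulEquiv.ext fun w => Subtype.ext (by
      show f ^ 7 * w * (f ^ 7)⁻¹ = w
      rw [L.f7_cen _ w.2, mul_inv_cancel_right])
  let P : U := ⟨P0, hP0U⟩
  have hPτ : τ P ≠ P := fun e => by
    have h1 : P0 = 1 := hfree P0 hP0U (mul_inv_eq_iff_eq_mul.1 (congrArg Subtype.val e))
    obtain ⟨q, hq, hq'⟩ := hψ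
    apply hq'
    obtain ⟨x, hx | hx⟩ := hcov q hq
    · rw [hcmc hx0 hx0 hq (hcbQ x) rfl (hπeq.2 hx).symm, hψcb, h1]
      simp [cb]
    · rw [hcmc hx0 hx0 hq (mul_mem hx0 (hcbQ x)) rfl (hπeq.2 hx).symm, L.cm_right hx0 hx0 (hcbQ x), L.cm_self,
        one_mul, hψcb, h1]
      simp [cb]
  have hψinj : ∀ x y, cm x0 (cb f v x) = cm x0 (cb f v y) → x = y := fun x y e =>
    cmb_injective hUe hτ7 hPτ (Subtype.ext (by rw [hψcb, hψcb] at e; exact e))
  have hψon : ∀ u ∈ U, ∃ x, u = cm x0 (cb f v x) := fun u hu => by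
    obtain ⟨x, hx⟩ := (Function.Injective.bijective_of_nat_card_le (cmb_injective hUe hτ7 hPτ)
      (by rw [hU, Nat.card_eq_fintype_card]; rfl)).2 ⟨u, hu⟩
    exact ⟨x, by rw [hψcb]; exact (congrArg Subtype.val hx).symm⟩
  -- the natural part is isotropic
  have hNexp : ∀ a ∈ Q.map π, a * a = 1 := by
    rintro _ ⟨k, hk, rfl⟩
    rw [← map_mul]
    exact (QuotientGroup.eq_one_iff _).2 (L.sq k hk)
  haveI : (Q.map π).Normal := Subgroup.Normal.map inferInstance _ (QuotientGroup.mk'_surjective U)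
  letI : CommGroup (Q.map π) :=
    { (inferInstance : Group (Q.map π)) with
      mul_comm := fun a b => Subtype.ext (A5Radical.comm_of_exp hNexp a.2 b.2) }
  set σ : MulAut (Q.map π) := MulAut.conjNormal (π f) with hσd
  let vN : Q.map π := ⟨π v, v, hv, rfl⟩
  have hlift : ∀ a : Q.map π, ∃ q ∈ Q, π q = (a : G ⧸ U) := fun a => a.2
  choose lq hlqQ hlq using hlift
  let β : Q.map π → Q.map π → U := fun a b => ⟨cm (lq a) (lq b), L.cm_mem (hlqQ a) (hlqQ b)⟩
  have hrelτ : ∀ {w : Nat3 → Nat3}, ∀ u : U, ∃ x, u = cmb τ P x := fun {_} u => by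
    obtain ⟨x, hx⟩ := hψon u u.2
    exact ⟨x, Subtype.ext (hx.trans (hψcb x))⟩
  have hcmbmul : ∀ a b : U, ∀ x, cmb τ (a * b) x = cmb τ a x * cmb τ b x := fun a b x => by
    simp only [cmb, map_mul, mul_pow]
    rw [mul_mul_mul_comm (a ^ _) (b ^ _), mul_mul_mul_comm]
  have hcmbτ : ∀ a : U, ∀ x, τ (cmb τ a x) = cmb τ (τ a) x := fun a x => by simp [cmb, map_mul, map_pow]
  have h3v : cm x0 (f * (f * (f * v * f⁻¹) * f⁻¹) * f⁻¹) = (τ (τ (τ P)) : U) := by
    rw [← hψcj _ (L.qn.conj_mem _ (L.qn.conj_mem v hv f) f), ← hψcj _ (L.qn.conj_mem v hv f), ← hψcj v hv]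
    rfl
  have hQ1 := L.qn.conj_mem v hv f
  have hQ2 := L.qn.conj_mem _ hQ1 f
  have hQ3 := L.qn.conj_mem _ hQ2 f
  have hcmβ : ∀ x y, cm (cb f v x) (cb f v y) = 1 := by
    have hfor := fun hh => forms_trivial hUe σ τ β
      (fun a b c => Subtype.ext ((hcmc (hlqQ _) (mul_mem (hlqQ a) (hlqQ b)) (hlqQ c) (hlqQ c)
        (by rw [map_mul, hlq, hlq, hlq]; rfl) rfl).trans (L.cm_left (hlqQ a) (hlqQ b) (hlqQ c))))
      (fun a b c => Subtype.ext ((hcmc (hlqQ a) (hlqQ a) (hlqQ _) (mul_mem (hlqQ b) (hlqQ c)) rfl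
        (by rw [map_mul, hlq, hlq, hlq]; rfl)).trans (L.cm_right (hlqQ a) (hlqQ b) (hlqQ c))))
      (fun a => Subtype.ext (L.cm_self _))
      (fun a b => Subtype.ext ((L.conj_cm f _ _).trans (hcmc (L.qn.conj_mem _ (hlqQ a) f) (hlqQ _)
        (L.qn.conj_mem _ (hlqQ b) f) (hlqQ _) (by rw [map_mul, map_mul, map_inv, hlq, hlq]; rfl)
        (by rw [map_mul, map_mul, map_inv, hlq, hlq]; rfl))))
      vN hh
    intro x y
    have hv' : ((σ (σ (σ vN)) = vN * σ vN ∧ ((∀ u, τ u = u) ∨ ∀ u, τ (τ (τ u)) = u * τ u)) ∨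
        (σ (σ (σ vN)) = vN * σ (σ vN) ∧ ((∀ u, τ u = u) ∨ ∀ u, τ (τ (τ u)) = u * τ (τ u)))) := by
      rcases hrel with hr | hr
      · refine Or.inl ⟨Subtype.ext hr, Or.inr fun u => ?_⟩
        have hP3 : τ (τ (τ P)) = P * τ P := Subtype.ext (by
          rw [← h3v, hcmc hx0 hx0 hQ3 (mul_mem hv hQ1) rfl (by simpa only [map_mul, map_inv] using hr),
            L.cm_right hx0 hv hQ1, ← hψcj v hv]
          rfl)
        obtain ⟨x, rfl⟩ := hrelτ (w := id) u
        rw [hcmbτ, hcmbτ, hcmbτ, hP3, hcmbmul]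
      · refine Or.inr ⟨Subtype.ext hr, Or.inr fun u => ?_⟩
        have hP3 : τ (τ (τ P)) = P * τ (τ P) := Subtype.ext (by
          rw [← h3v, hcmc hx0 hx0 hQ3 (mul_mem hv hQ2) rfl (by simpa only [map_mul, map_inv] using hr),
            L.cm_right hx0 hv hQ2, ← hψcj _ hQ1, ← hψcj v hv]
          rfl)
        obtain ⟨x, rfl⟩ := hrelτ (w := id) u
        rw [hcmbτ, hcmbτ, hcmbτ, hP3, hcmbmul]
    have h1 := congrArg Subtype.val (hfor hv' x y)
    have hmapc : ∀ x, π (cb f v x) = ((cmb σ vN x : Q.map π) : G ⧸ U) := fun x => by rw [map_cb]; rfl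
    exact (hcmc (hcbQ x) (hlqQ _) (hcbQ y) (hlqQ _) (by rw [hlq, hmapc]) (by rw [hlq, hmapc])).trans h1
  -- the subgroup `K`
  have hcb0 : cb f v 0 = 1 := by simp [cb]
  let K : Subgroup G :=
    { carrier := {q | q ∈ Q ∧ ∃ x, π q = π (cb f v x)}
      one_mem' := ⟨one_mem Q, 0, by rw [hcb0]⟩
      mul_mem' := fun {a b} ha hb => ⟨mul_mem ha.1 hb.1, by
        obtain ⟨x, hx⟩ := ha.2
        obtain ⟨y, hy⟩ := hb.2
        exact ⟨x + y, by rw [map_mul, hx, hy, ← map_mul]; exact (hπeq.2 (hadd x y)).symm⟩⟩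
      inv_mem' := fun {a} ha => ⟨inv_mem ha.1, by
        obtain ⟨x, hx⟩ := ha.2
        exact ⟨x, by rw [map_inv, inv_eq_of_mul_eq_one_right (hNexp _ ⟨a, ha.1, rfl⟩), hx]⟩⟩ }
  have hcbK : ∀ x, cb f v x ∈ K := fun x => ⟨hcbQ x, x, rfl⟩
  have hUK : ∀ u ∈ U, u ∈ K := fun u hu => ⟨L.le hu, 0, by
    rw [hcb0, map_one]; exact (QuotientGroup.eq_one_iff u).2 hu⟩
  have hK1 : ∀ a ∈ K, ∀ b ∈ K, cm a b = 1 := fun a ha b hb => by
    obtain ⟨x, hx⟩ := ha.2
    obtain ⟨y, hy⟩ := hb.2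
    rw [hcmc ha.1 (hcbQ x) hb.1 (hcbQ y) hx hy]
    exact hcmβ x y
  have hKcomm : ∀ a ∈ K, ∀ b ∈ K, a * b = b * a := fun a ha b hb => cm_eq_one.1 (hK1 a ha b hb)
  have hKcov : ∀ q ∈ Q, q ∈ K ∨ x0⁻¹ * q ∈ K := fun q hq => by
    obtain ⟨x, hx | hx⟩ := hcov q hq
    · exact Or.inl ⟨hq, x, (hπeq.2 hx).symm⟩
    · refine Or.inr ⟨mul_mem (inv_mem hx0) hq, x, (hπeq.2 ?_).symm⟩
      rwa [mul_inv_rev, mul_assoc] at hx
  have hψU : ∀ k ∈ K, cm x0 k = 1 → k ∈ U := fun k hk e => by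
    obtain ⟨x, hx⟩ := hk.2
    rw [hcmc hx0 hx0 hk.1 (hcbQ x) rfl hx] at e
    have h0 : x = 0 := hψinj x 0 (e.trans (by simp [cb, cm]))
    rw [h0, hcb0, map_one] at hx
    exact (QuotientGroup.eq_one_iff k).1 hx
  haveI hKn : K.Normal := ⟨fun q hq g => by
    by_contra hq'
    have hq'Q := L.qn.conj_mem q hq.1 g
    have hk := (hKcov _ hq'Q).resolve_left hq'
    obtain ⟨r, hr, hrU, hr'⟩ : ∃ r ∈ K, r ∉ U ∧ g * r * g⁻¹ ∈ K := by
      have hnU : ∀ x, x ≠ 0 → cb f v x ∉ U := fun x hx hm => hx (hinj 0 x (by rw [hcb0]; simpa using hm)).symm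
      by_cases ha : g * cb f v va * g⁻¹ ∈ K
      · exact ⟨_, hcbK va, hnU va (by decide), ha⟩
      by_cases hb : g * cb f v vb * g⁻¹ ∈ K
      · exact ⟨_, hcbK vb, hnU vb (by decide), hb⟩
      refine ⟨_, mul_mem (inv_mem (hcbK va)) (hcbK vb), fun hm => absurd (hinj va vb hm) (by decide), ?_⟩
      have ha' := (hKcov _ (L.qn.conj_mem _ (hcbQ va) g)).resolve_left ha
      have hb' := (hKcov _ (L.qn.conj_mem _ (hcbQ vb) g)).resolve_left hb
      have := mul_mem (inv_mem ha') hb'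
      simpa [mul_assoc] using this
    have h1 : cm (g * q * g⁻¹) (g * r * g⁻¹) = 1 := by
      rw [← L.conj_cm, hK1 q hq r hr]; simp
    rw [show g * q * g⁻¹ = x0 * (x0⁻¹ * (g * q * g⁻¹)) by rw [mul_inv_cancel_left],
      L.cm_left hx0 hk.1 hr'.1, hK1 _ hk _ hr', mul_one] at h1
    exact hrU (by simpa [mul_assoc] using L.un.conj_mem _ (hψU _ hr' h1) g⁻¹)⟩
  have hKQ : K ≤ Q := fun k hk => hk.1
  have hcard8 : Nat.card (K.map π) = 8 := by
    rw [← Nat.card_eq_of_bijective (fun x => (⟨π (cb f v x), _, hcbK x, rfl⟩ : K.map π))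
      ⟨fun x y e => hinj x y (hπeq.1 (congrArg Subtype.val e)), fun ⟨_, k, hk, rfl⟩ => by
        obtain ⟨x, hx⟩ := hk.2
        exact ⟨x, Subtype.ext hx.symm⟩⟩, Nat.card_eq_fintype_card]
    rfl
  have hne : ∃ k ∈ K, cm f k ∉ U := ⟨v, ⟨hv, va, by simp [cb, va, ZMod.val_one]⟩, fun hm => by
    have h1 : Commute (π f) (π v) := cm_eq_one.1 ((map_cm π f v).symm.trans ((QuotientGroup.eq_one_iff _).2 hm))
    have h2 : π (cb f v vb) = π (cb f v va) := by
      simp [cb, va, vb, ZMod.val_one, h1.eq]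
    exact absurd (hinj vb va (hπeq.1 h2)) (by decide)⟩
  obtain ⟨Φ', p, hctx, hc⟩ := L.ctx.exists_coord L.f7 L.fQ K U hUK (fun k hk => L.sq k hk.1)
    (fun k hk q hq => L.cm_mem hk.1 hq) hcard8 hne
  have hψeq : ∀ g, ∀ k ∈ K, g * cm x0 k * g⁻¹ = cm x0 (g * k * g⁻¹) := fun g k hk => by
    have hgx := L.qn.conj_mem x0 hx0 g
    have hgxK : g * x0 * g⁻¹ ∉ K := fun hm => by
      have h1 : x0 ∈ K := by simpa [mul_assoc] using hKn.conj_mem _ hm g⁻¹
      obtain ⟨q, hq, hq'⟩ := hψ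
      rcases hKcov q hq with h | h
      · exact hq' (hK1 x0 h1 q h)
      · exact hq' (hK1 x0 h1 q (by simpa using mul_mem h1 h))
    have hk0 := (hKcov _ hgx).resolve_left hgxK
    have hgk := hKn.conj_mem k hk g
    rw [L.conj_cm, show g * x0 * g⁻¹ = x0 * (x0⁻¹ * (g * x0 * g⁻¹)) by rw [mul_inv_cancel_left],
      L.cm_left hx0 hk0.1 hgk.1, hK1 _ hk0 _ hgk, mul_one]
  have hψp : ∀ a ∈ K, ∀ b ∈ K, (cm x0 a = cm x0 b ↔ p a = p b) := fun a ha b hb => by
    constructor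
    · intro e
      have h1 : cm x0 (a⁻¹ * b) = 1 := by
        have h2 := L.cm_right hx0 ha.1 (mul_mem (inv_mem ha.1) hb.1)
        rw [mul_inv_cancel_left, ← e, left_eq_mul] at h2
        exact h2
      have h3 := (hc.zero _ (mul_mem (inv_mem ha) hb)).2 (hψU _ (mul_mem (inv_mem ha) hb) h1)
      rw [hc.add _ (inv_mem ha) _ hb, hc.inv ha] at h3
      exact n3_eq_of_add_eq_zero h3
    · intro e
      exact hcmc hx0 hx0 ha.1 hb.1 rfl (hπeq.2 (hc.quot ha hb e))
  have hψ1 : cm x0 (1 : G) = 1 := by simp [cm]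
  have hsp : ∀ a ∈ K, ∀ b ∈ K, p a = p b → a * a = b * b := fun a ha b hb e => by
    rw [show b = a * (a⁻¹ * b) by rw [mul_inv_cancel_left], L.sq_U ha.1 (hc.quot ha hb e)]
  obtain ⟨A, hA, hAp⟩ := hc.onto va
  obtain ⟨x, hx⟩ := hψon _ (L.sq A hA.1)
  set R := cb f v x with hR
  have hRK := hcbK x
  have hstab : ∀ g, ac (Φ' g) va = va → ac (Φ' g) (p R) = p R := fun g hg => by
    rw [← hc.equiv g R hRK, ← hψp _ (hKn.conj_mem R hRK g) R hRK, ← hψeq g R hRK, ← hx,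
      show g * (A * A) * g⁻¹ = g * A * g⁻¹ * (g * A * g⁻¹) by simp [mul_assoc]]
    exact hsp _ (hKn.conj_mem A hA g) A hA (by rw [hc.equiv g A hA, hAp, hg])
  obtain ⟨g2, hg2⟩ := hctx.surj ge1
  obtain ⟨g3, hg3⟩ := hctx.surj gr
  have hRp := fix_stab (p R) (hg2 ▸ hstab g2 (by rw [hg2]; decide)) (hg3 ▸ hstab g3 (by rw [hg3]; decide))
  have htrans : ∀ k ∈ K, k ∉ U → ∃ g, k * k = g * (A * A) * g⁻¹ ∧ cm x0 k = g * cm x0 A * g⁻¹ := fun k hk hkU => by
    obtain ⟨y, hy⟩ := exists_ac_a (v := p k) fun e => hkU ((hc.zero k hk).1 e)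
    obtain ⟨g, hg⟩ := hctx.surj y
    have hgA := hKn.conj_mem A hA g
    have hpe : p k = p (g * A * g⁻¹) := by rw [hc.equiv g A hA, hAp, hg, hy]
    refine ⟨g, ?_, ?_⟩
    · rw [hsp k hk _ hgA hpe]; simp [mul_assoc]
    · rw [hψeq g A hA]; exact (hψp k hk _ hgA).2 hpe
  rcases hRp with h0 | h0
  · -- `K` is elementary of order 64
    have hA1 : A * A = 1 := by
      rw [hx, ← hψ1]; exact (hψp R hRK 1 (one_mem K)).2 (h0.trans hc.one.symm)
    have hexp : ∀ k ∈ K, k * k = 1 := fun k hk => by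
      by_cases hkU : k ∈ U
      · exact L.exp k hkU
      · obtain ⟨g, hg, -⟩ := htrans k hk hkU
        rw [hg, hA1]; simp
    have h1 := A5Radical.card_le_sixteen L.ctx.rank K hexp
    have h2 := hc.card
    omega
  · -- `x₀` inverts `K`
    have hA2 : A * A = cm x0 A := hx.trans ((hψp R hRK A hA).2 (h0.trans hAp.symm))
    have hsq : ∀ k ∈ K, k * k = cm x0 k := fun k hk => by
      by_cases hkU : k ∈ U
      · rw [L.exp k hkU, (L.cm_cen (L.cen k hkU) hx0).1]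
      · obtain ⟨g, hg, hg'⟩ := htrans k hk hkU
        rw [hg, hg', hA2]
    refine inverted_false hctx K U p hc hKQ hKcomm (fun k hk => ⟨fun h => L.exp k h, fun h => ?_⟩) (fun u hu => ?_)
      x0 hx0 hx2 hKcov fun k hk => ?_
    · exact hψU k hk (by rw [← hsq k hk, h])
    · obtain ⟨y, hy⟩ := hψon u hu
      exact ⟨cb f v y, hcbK y, (hsq _ (hcbK y)).trans hy.symm⟩
    · have h1 : x0⁻¹ * k * x0 = k * cm k x0 := by simp [cm, mul_assoc]
      rw [h1, L.cm_symm hk.1 hx0, ← hsq k hk, eq_inv_iff_mul_eq_one]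
      calc k * (k * k) * k = k * k * (k * k) := by simp [mul_assoc]
        _ = 1 := L.exp _ (L.sq k hk.1)

end Layer

end Cfsg.Agent.L32Radical
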